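import Mathlib.Algebra.Homology.Additive
import Mathlib.Algebra.Homology.Embedding.Extend
import Mathlib.CategoryTheory.Limits.Preserves.Shapes.Zero

/-! Extending complexes commutes with applying a functor degreewise. -/

open CategoryTheory Category Limits ZeroObject

namespace Groth.Agent.TriCat

variable {ι ι' : Type*} {c : ComplexShape ι} {c' : ComplexShape ι'}
  {C D : Type*} [Category C] [Category D] [HasZeroObject C] [HasZeroObject D]
  [HasZeroMorphisms C] [HasZeroMorphisms D] (F : C ⥤ D) [F.PreservesZeroMorphisms]
  (e : c.Embedding c')

/-- The component of `mapExtendIso`. -/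
noncomputable def mapExtendXIso (K : HomologicalComplex C c) :
    ∀ o : Option ι, F.obj (HomologicalComplex.extend.X K o) ≅
      HomologicalComplex.extend.X ((F.mapHomologicalComplex c).obj K) o
  | some _ => Iso.refl _
  | none => F.mapZeroObject

lemma mapExtendXIso_d (K : HomologicalComplex C c) (o o' : Option ι) :
    (mapExtendXIso F K o).hom ≫
        HomologicalComplex.extend.d ((F.mapHomologicalComplex c).obj K) o o' =
      F.map (HomologicalComplex.extend.d K o o') ≫ (mapExtendXIso F K o').hom := by
  cases o with
  | none =>
    exact (F.map_isZero (isZero_zero C)).eq_of_src _ _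
  | some i =>
    cases o' with
    | none => exact (HomologicalComplex.extend.isZero_X _ rfl).eq_of_tgt _ _
    | some j => exact (id_comp _).trans (comp_id _).symm

/-- `F` applied to an extended complex is the extension of `F` applied to the complex. -/
noncomputable def mapExtendIso (K : HomologicalComplex C c) :
    (F.mapHomologicalComplex c').obj (K.extend e) ≅
      ((F.mapHomologicalComplex c).obj K).extend e :=
  HomologicalComplex.Hom.isoOfComponents (fun i' => mapExtendXIso F K (e.r i'))
    (fun i' j' _ => mapExtendXIso_d F K (e.r i') (e.r j'))

lemma mapExtendXIso_naturality {K L : HomologicalComplex C c} (φ : K ⟶ L) (o : Option ι) :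
    F.map (HomologicalComplex.extend.mapX φ o) ≫ (mapExtendXIso F L o).hom =
      (mapExtendXIso F K o).hom ≫
        HomologicalComplex.extend.mapX ((F.mapHomologicalComplex c).map φ) o := by
  cases o with
  | none => exact (HomologicalComplex.extend.isZero_X _ rfl).eq_of_tgt _ _
  | some i => exact (comp_id _).trans (id_comp _).symm

lemma mapExtendIso_hom_naturality {K L : HomologicalComplex C c} (φ : K ⟶ L) :
    (F.mapHomologicalComplex c').map (HomologicalComplex.extendMap φ e) ≫
        (mapExtendIso F e L).hom =
      (mapExtendIso F e K).hom ≫
        HomologicalComplex.extendMap ((F.mapHomologicalComplex c).map φ) e := by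
  ext i'
  exact mapExtendXIso_naturality F φ (e.r i')

end Groth.Agent.TriCat
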