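import Groth.Agent.TriCat.RPlusUnit
import Groth.Agent.TriCat.MapExtend
import Mathlib.CategoryTheory.Abelian.Injective.Extend
import Mathlib.CategoryTheory.Abelian.RightDerived
import Mathlib.Algebra.Homology.Embedding.ExtendHomology

/-! Cohomology of `rightDerivedFunctorPlus` on objects computes `Functor.rightDerived`. -/

universe w w' v v' u u'

open CategoryTheory Category Limits HomologicalComplex

namespace Groth.Agent.TriCat

variable {C : Type u} [Category.{v} C] [Abelian C] [HasDerivedCategory.{w} C] [EnoughInjectives C]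
  {D : Type u'} [Category.{v'} D] [Abelian D] [HasDerivedCategory.{w'} D] (F : C ⥤ D) [F.Additive]

/-- Objects as bounded below complexes concentrated in degree zero. -/
noncomputable abbrev singlePlusFunctor : C ⥤ CochainComplex.Plus C :=
  ObjectProperty.lift _ (CochainComplex.singleFunctor C 0) (fun _ => ⟨0, inferInstance⟩)

/-- The degree `n` cohomology of the derived functor of objects. -/
noncomputable abbrev derivedCoh (n : ℤ) : C ⥤ D :=
  singlePlusFunctor ⋙ HomotopyCategory.Plus.quotient C ⋙ DerivedCategory.Plus.Qh ⋙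
    F.rightDerivedFunctorPlus ⋙ DerivedCategory.Plus.ι ⋙ DerivedCategory.homologyFunctor D n

omit [HasDerivedCategory.{w} C] [EnoughInjectives C] in
/-- An injective resolution as a bounded below complex. -/
noncomputable abbrev resPlus {X : C} (R : InjectiveResolution X) : CochainComplex.Plus C :=
  ⟨R.cochainComplex, 0, inferInstance⟩

omit [HasDerivedCategory.{w} C] [EnoughInjectives C] in
/-- The augmentation of an injective resolution in bounded below complexes. -/
noncomputable abbrev augPlus {X : C} (R : InjectiveResolution X) :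
    singlePlusFunctor.obj X ⟶ resPlus R :=
  ObjectProperty.homMk R.ι'

instance isIso_unit_resPlus {X : C} (R : InjectiveResolution X) :
    IsIso (F.rightDerivedFunctorPlusUnit.app
      ((HomotopyCategory.Plus.quotient C).obj (resPlus R))) := by
  have : ∀ n, Injective ((resPlus R).obj.X n) := fun n =>
    inferInstanceAs (Injective (R.cochainComplex.X n))
  infer_instance

omit [EnoughInjectives C] in
instance isIso_augPlus {X : C} (R : InjectiveResolution X) :
    IsIso (DerivedCategory.Plus.Qh.map ((HomotopyCategory.Plus.quotient C).map (augPlus R))) :=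
  (isIso_plusQh_quotient_map_iff (augPlus R)).2 (inferInstanceAs (QuasiIso R.ι'))

/-- The comparison with an injective resolution in the derived category. -/
noncomputable def derivedObjIso {X : C} (R : InjectiveResolution X) :
    F.rightDerivedFunctorPlus.obj (DerivedCategory.Plus.Qh.obj
        ((HomotopyCategory.Plus.quotient C).obj (singlePlusFunctor.obj X))) ≅
      DerivedCategory.Plus.Qh.obj
        (F.mapHomotopyCategoryPlus.obj ((HomotopyCategory.Plus.quotient C).obj (resPlus R))) :=
  F.rightDerivedFunctorPlus.mapIso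
      (asIso (DerivedCategory.Plus.Qh.map ((HomotopyCategory.Plus.quotient C).map (augPlus R)))) ≪≫
    (asIso (F.rightDerivedFunctorPlusUnit.app
      ((HomotopyCategory.Plus.quotient C).obj (resPlus R)))).symm

lemma derivedObjIso_naturality {X Y : C} (f : X ⟶ Y) (R : InjectiveResolution X)
    (S : InjectiveResolution Y) (φ : resPlus R ⟶ resPlus S)
    (hφ : augPlus R ≫ φ = singlePlusFunctor.map f ≫ augPlus S) :
    F.rightDerivedFunctorPlus.map (DerivedCategory.Plus.Qh.map
        ((HomotopyCategory.Plus.quotient C).map (singlePlusFunctor.map f))) ≫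
        (derivedObjIso F S).hom =
      (derivedObjIso F R).hom ≫ DerivedCategory.Plus.Qh.map
        (F.mapHomotopyCategoryPlus.map ((HomotopyCategory.Plus.quotient C).map φ)) := by
  simp only [derivedObjIso, Iso.trans_hom, Functor.mapIso_hom, Iso.symm_hom, asIso_hom, asIso_inv]
  rw [← Functor.map_comp_assoc, ← Functor.map_comp, ← Functor.map_comp, ← hφ, Functor.map_comp,
    Functor.map_comp, Functor.map_comp, assoc, assoc]
  congr 1
  rw [IsIso.comp_inv_eq, assoc, IsIso.eq_inv_comp]
  exact (F.rightDerivedFunctorPlusUnit.naturality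
    ((HomotopyCategory.Plus.quotient C).map φ)).symm

omit [HasDerivedCategory.{w} C] [EnoughInjectives C] in
/-- Homology in the derived category of the image of a bounded below complex. -/
noncomputable def homologyPlusIso (n : ℤ) :
    HomotopyCategory.Plus.quotient C ⋙ F.mapHomotopyCategoryPlus ⋙ DerivedCategory.Plus.Qh ⋙
        DerivedCategory.Plus.ι ⋙ DerivedCategory.homologyFunctor D n ≅
      CochainComplex.Plus.ι C ⋙ F.mapHomologicalComplex (ComplexShape.up ℤ) ⋙
        HomologicalComplex.homologyFunctor D (ComplexShape.up ℤ) n :=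
  Functor.isoWhiskerLeft (CochainComplex.Plus.ι C ⋙ F.mapHomologicalComplex (ComplexShape.up ℤ))
    (Functor.isoWhiskerRight (DerivedCategory.quotientCompQhIso D)
      (DerivedCategory.homologyFunctor D n) ≪≫ DerivedCategory.homologyFunctorFactors D n)

omit [HasDerivedCategory.{w} C] [HasDerivedCategory.{w'} D] [EnoughInjectives C] in
/-- Homology of `F` applied to an extended resolution. -/
noncomputable def homologyResIso {X : C} (R : InjectiveResolution X) (n : ℕ) :
    ((F.mapHomologicalComplex (ComplexShape.up ℤ)).obj R.cochainComplex).homology (n : ℤ) ≅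
      ((F.mapHomologicalComplex (ComplexShape.up ℕ)).obj R.cocomplex).homology n :=
  (HomologicalComplex.homologyFunctor D (ComplexShape.up ℤ) (n : ℤ)).mapIso
      (mapExtendIso F ComplexShape.embeddingUpNat R.cocomplex) ≪≫
    ((F.mapHomologicalComplex (ComplexShape.up ℕ)).obj R.cocomplex).extendHomologyIso
      ComplexShape.embeddingUpNat (j' := (n : ℤ)) rfl

/-- `H^n` of the derived functor of an object is `rightDerived n`. -/
noncomputable def derivedCohObjIso {X : C} (R : InjectiveResolution X) (n : ℕ) :
    (derivedCoh F (n : ℤ)).obj X ≅ (F.rightDerived n).obj X :=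
  (DerivedCategory.Plus.ι ⋙ DerivedCategory.homologyFunctor D (n : ℤ)).mapIso (derivedObjIso F R) ≪≫
    (homologyPlusIso F (n : ℤ)).app (resPlus R) ≪≫ homologyResIso F R n ≪≫
    (R.isoRightDerivedObj F n).symm

omit [HasDerivedCategory.{w} C] [HasDerivedCategory.{w'} D] [EnoughInjectives C] in
lemma sq_paste {E : Type*} [Category E] {a₀ a₁ b₀ b₁ c₀ c₁ : E} {f : a₀ ⟶ a₁} {g : b₀ ⟶ b₁}
    {h : c₀ ⟶ c₁} {p : a₀ ⟶ b₀} {p' : a₁ ⟶ b₁} {q : b₀ ⟶ c₀} {q' : b₁ ⟶ c₁}
    (h₁ : f ≫ p' = p ≫ g) (h₂ : g ≫ q' = q ≫ h) : f ≫ p' ≫ q' = (p ≫ q) ≫ h := by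
  rw [reassoc_of% h₁, h₂, assoc]

lemma derivedCohObjIso_naturality {X Y : C} (f : X ⟶ Y) (R : InjectiveResolution X)
    (S : InjectiveResolution Y) (n : ℕ) :
    (derivedCoh F (n : ℤ)).map f ≫ (derivedCohObjIso F S n).hom =
      (derivedCohObjIso F R n).hom ≫ (F.rightDerived n).map f := by
  let ψ : InjectiveResolution.Hom R S f :=
    ⟨InjectiveResolution.desc f S R, by
      rw [InjectiveResolution.desc_commutes_zero]
      congr 1
      exact (CochainComplex.single₀_map_f_zero f).symm⟩
  let φ : resPlus R ⟶ resPlus S := ObjectProperty.homMk ψ.hom'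
  have hφ : augPlus R ≫ φ = singlePlusFunctor.map f ≫ augPlus S := by
    apply ObjectProperty.hom_ext
    exact ψ.ι'_comp_hom'
  let G := DerivedCategory.Plus.ι ⋙ DerivedCategory.homologyFunctor D (n : ℤ)
  have h1 : (derivedCoh F (n : ℤ)).map f ≫ G.map (derivedObjIso F S).hom =
      G.map (derivedObjIso F R).hom ≫ G.map (DerivedCategory.Plus.Qh.map
        (F.mapHomotopyCategoryPlus.map ((HomotopyCategory.Plus.quotient C).map φ))) :=
    (G.map_comp _ _).symm.trans
      ((congrArg G.map (derivedObjIso_naturality F f R S φ hφ)).trans (G.map_comp _ _))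
  have h2 : G.map (DerivedCategory.Plus.Qh.map
        (F.mapHomotopyCategoryPlus.map ((HomotopyCategory.Plus.quotient C).map φ))) ≫
        ((homologyPlusIso F (n : ℤ)).app (resPlus S)).hom =
      ((homologyPlusIso F (n : ℤ)).app (resPlus R)).hom ≫
        homologyMap ((F.mapHomologicalComplex (ComplexShape.up ℤ)).map ψ.hom') (n : ℤ) :=
    (homologyPlusIso F (n : ℤ)).hom.naturality φ
  have h3 : homologyMap ((F.mapHomologicalComplex (ComplexShape.up ℤ)).map ψ.hom') (n : ℤ) ≫
        (homologyResIso F S n).hom =
      (homologyResIso F R n).hom ≫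
        homologyMap ((F.mapHomologicalComplex (ComplexShape.up ℕ)).map ψ.hom) n :=
    sq_paste
      ((homologyMap_comp _ _ _).symm.trans ((congrArg (homologyMap · (n : ℤ))
        (mapExtendIso_hom_naturality F ComplexShape.embeddingUpNat ψ.hom)).trans
          (homologyMap_comp _ _ _)))
      (extendHomologyIso_hom_naturality _ _ _)
  have h4 := InjectiveResolution.isoRightDerivedObj_inv_naturality f R S ψ.hom
    (InjectiveResolution.desc_commutes_zero f S R) F n
  have := sq_paste h1 (sq_paste h2 (sq_paste h3 h4.symm))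
  simp only [derivedCohObjIso, Iso.trans_hom, Functor.mapIso_hom, Iso.symm_hom]
  exact this

/-- `H^n ∘ RF⁺` on objects is `rightDerived n`. -/
noncomputable def derivedCohIso (n : ℕ) : derivedCoh F (n : ℤ) ≅ F.rightDerived n :=
  NatIso.ofComponents (fun X => derivedCohObjIso F (injectiveResolution X) n)
    (fun f => derivedCohObjIso_naturality F f _ _ n)

lemma exists_rightDerived_ses {S : ShortComplex C} (hS : S.ShortExact) (i : ℕ) :
    ∃ (δ : (F.rightDerived i).obj S.X₃ ⟶ (F.rightDerived (i + 1)).obj S.X₁)
      (w₁ : (F.rightDerived i).map S.f ≫ (F.rightDerived i).map S.g = 0)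
      (w₂ : (F.rightDerived i).map S.g ≫ δ = 0)
      (w₃ : δ ≫ (F.rightDerived (i + 1)).map S.f = 0),
      (ShortComplex.mk _ _ w₁).Exact ∧ (ShortComplex.mk _ _ w₂).Exact ∧
        (ShortComplex.mk _ _ w₃).Exact := by
  have hS' : (S.map (CochainComplex.singleFunctor C 0)).ShortExact :=
    hS.map_of_exact (HomologicalComplex.single C (ComplexShape.up ℤ) 0)
  obtain ⟨δ, w₁, w₂, w₃, h₁, h₂, h₃⟩ := exists_rightDerived_les C F
    (singlePlusFunctor.map S.f) (singlePlusFunctor.map S.g) _ hS' (i : ℤ) ((i + 1 : ℕ) : ℤ)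
    (Nat.cast_succ i).symm
  let e := derivedCohIso F i
  let e' := derivedCohIso F (i + 1)
  exact les_transfer h₁ h₂ h₃ (e.app S.X₁).symm (e.app S.X₂).symm (e.app S.X₃).symm
    (e'.app S.X₁).symm (e'.app S.X₂).symm ((F.rightDerived i).map S.f) ((F.rightDerived i).map S.g)
    ((F.rightDerived (i + 1)).map S.f) (e.inv.naturality S.f) (e.inv.naturality S.g)
    (e'.inv.naturality S.f)

end Groth.Agent.TriCat
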