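import Mathlib.Algebra.Category.Grp.AB
import Mathlib.Algebra.Category.Grp.FilteredColimits
import Mathlib.Algebra.Category.ModuleCat.Presheaf.Generator
import Mathlib.Algebra.Category.ModuleCat.Presheaf.Limits
import Mathlib.Algebra.Category.ModuleCat.Presheaf.Colimits
import Mathlib.Algebra.Category.ModuleCat.Presheaf.Abelian
import Mathlib.CategoryTheory.Abelian.GrothendieckAxioms.Sheaf
import Mathlib.CategoryTheory.Abelian.GrothendieckCategory.EnoughInjectives
import Mathlib.CategoryTheory.Sites.LeftExact
import Mathlib.CategoryTheory.Functor.ReflectsIso.Balanced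

/-! Grothendieck abelian categories of presheaves, and functorial injective embeddings. -/

universe w v u

open CategoryTheory Limits Opposite ZeroObject

namespace Groth.Agent.TriCat

instance isGrothendieckAbelian_presheaf {C : Type u} [SmallCategory C] :
    IsGrothendieckAbelian.{u} (Cᵒᵖ ⥤ AddCommGrpCat.{u}) :=
  IsGrothendieckAbelian.of_equivalence (sheafBotEquivalence (C := C) AddCommGrpCat.{u})

instance isGrothendieckAbelian_presheafOfModules {C : Type u} [SmallCategory C]
    (O : Cᵒᵖ ⥤ RingCat.{u}) : IsGrothendieckAbelian.{u} (PresheafOfModules.{u} O) where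
  ab5OfSize := ⟨fun J _ _ => by
    have : ReflectsFiniteLimits (PresheafOfModules.toPresheaf.{u} O) :=
      ⟨fun _ _ _ => reflectsLimitsOfShape_of_reflectsIsomorphisms⟩
    exact HasExactColimitsOfShape.domain_of_functor J (PresheafOfModules.toPresheaf.{u} O)⟩
  hasSeparator := ⟨⟨_, (isSeparator_sigma
    (fun X : C => (PresheafOfModules.free O).obj (yoneda.obj X))).2
      (PresheafOfModules.freeYoneda.isSeparating O)⟩⟩

open MorphismProperty in
theorem exists_functorial_injective_embedding {A : Type u} [Category.{v} A] [Abelian A]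
    [IsGrothendieckAbelian.{w} A] :
    ∃ (J : A ⥤ A) (j : 𝟭 A ⟶ J), ∀ X : A, Injective (J.obj X) ∧ Mono (j.app X) := by
  let d := functorialFactorizationData (monomorphisms A) (monomorphisms A).rlp
  let S : A ⥤ Arrow A :=
    { obj := fun X => Arrow.mk (0 : X ⟶ 0)
      map := fun f => Arrow.homMk f (𝟙 _) ((isZero_zero A).eq_of_tgt _ _)
      map_id := fun X => by ext <;> simp
      map_comp := fun f g => by ext <;> simp }
  exact ⟨S ⋙ d.Z, Functor.whiskerLeft S d.i, fun X =>
    ⟨inferInstanceAs (Injective (IsGrothendieckAbelian.monoMapFactorizationDataRlp (0 : X ⟶ 0)).Z),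
      inferInstanceAs (Mono (IsGrothendieckAbelian.monoMapFactorizationDataRlp (0 : X ⟶ 0)).i)⟩⟩

end Groth.Agent.TriCat
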