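import Mathlib.Algebra.Homology.DerivedCategory.Fractions
import Mathlib.Algebra.Homology.GrothendieckAbelian
import Mathlib.CategoryTheory.Abelian.GrothendieckAxioms.Basic
import Mathlib.CategoryTheory.Abelian.GrothendieckCategory.Basic
import Mathlib.CategoryTheory.Limits.Preserves.Shapes.Products

/-! Coproducts in the derived category of an abelian category with exact coproducts. -/

universe t w v u

open CategoryTheory Category Limits ZeroObject

namespace Groth.Agent.TriCat

variable {A : Type u} [Category.{v} A] [Abelian A] {J : Type t}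
  [HasColimitsOfShape (Discrete J) A] [HasExactColimitsOfShape (Discrete J) A]

/-- Coproducts of quasi-isomorphisms are quasi-isomorphisms. -/
lemma quasiIso_sigmaMap {K L : J → CochainComplex A ℤ} (s : ∀ j, K j ⟶ L j)
    (hs : ∀ j, QuasiIso (s j)) : QuasiIso (Limits.Sigma.map s) := by
  refine ⟨fun i => ?_⟩
  let X : (J → CochainComplex A ℤ) → ℤ → (Discrete J ⥤ A) := fun M n =>
    Discrete.functor fun j => (M j).X n
  let d : ∀ (M : J → CochainComplex A ℤ) (m n : ℤ), X M m ⟶ X M n := fun M m n =>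
    Discrete.natTrans fun j => (M j.as).d m n
  let i₀ := (ComplexShape.up ℤ).prev i
  let i₁ := (ComplexShape.up ℤ).next i
  let S : (J → CochainComplex A ℤ) → ShortComplex (Discrete J ⥤ A) := fun M =>
    ShortComplex.mk (d M i₀ i) (d M i i₁) (by ext ⟨j⟩; exact (M j).d_comp_d _ _ _)
  let φ : S K ⟶ S L :=
    { τ₁ := Discrete.natTrans fun j => (s j.as).f i₀
      τ₂ := Discrete.natTrans fun j => (s j.as).f i
      τ₃ := Discrete.natTrans fun j => (s j.as).f i₁
      comm₁₂ := by ext ⟨j⟩; exact (s j).comm _ _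
      comm₂₃ := by ext ⟨j⟩; exact (s j).comm _ _ }
  have hφ : ShortComplex.QuasiIso φ := by
    rw [ShortComplex.quasiIso_iff]
    have : ∀ j, IsIso ((ShortComplex.homologyMap φ).app j) := by
      rintro ⟨j⟩
      let E := (evaluation (Discrete J) A).obj ⟨j⟩
      have h1 : IsIso (ShortComplex.homologyMap (E.mapShortComplex.map φ)) := by
        rw [← ShortComplex.quasiIso_iff]
        exact ((quasiIsoAt_iff (s j) i).1 ((hs j).quasiIsoAt i))
      have h2 := ShortComplex.mapHomologyIso_hom_naturality φ E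
      show IsIso (E.map (ShortComplex.homologyMap φ))
      have h3 : IsIso (((S K).mapHomologyIso E).hom ≫ E.map (ShortComplex.homologyMap φ)) := by
        rw [← h2]; exact IsIso.comp_isIso' h1 inferInstance
      exact IsIso.of_isIso_comp_left ((S K).mapHomologyIso E).hom _
    exact NatIso.isIso_of_isIso_app _
  have hc : ShortComplex.QuasiIso ((colim (J := Discrete J) (C := A)).mapShortComplex.map φ) :=
    ShortComplex.quasiIso_map_of_preservesLeftHomology _ φ
  have iso : ∀ (M : J → CochainComplex A ℤ) (n : ℤ), IsIso (colimit.desc (X M n)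
      (Cofan.mk _ fun j => (Sigma.ι M j).f n)) := fun M n =>
    inferInstanceAs (IsIso (sigmaComparison (HomologicalComplex.eval A (ComplexShape.up ℤ) n) M))
  let eX : ∀ (M : J → CochainComplex A ℤ) (n : ℤ), colimit (X M n) ≅ (∐ M).X n :=
    fun M n => @asIso _ _ _ _ _ (iso M n)
  have hX : ∀ (M : J → CochainComplex A ℤ) (n : ℤ) (j : J),
      colimit.ι (X M n) ⟨j⟩ ≫ (eX M n).hom = (Sigma.ι M j).f n := fun M n j => colimit.ι_desc _ _
  have hd : ∀ (M : J → CochainComplex A ℤ) (m n : ℤ),
      (eX M m).hom ≫ (∐ M).d m n = colimMap (d M m n) ≫ (eX M n).hom := fun M m n => by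
    refine colimit.hom_ext fun ⟨j⟩ => ?_
    rw [← assoc, hX, HomologicalComplex.Hom.comm, ι_colimMap_assoc, hX]
    rfl
  have hsX : ∀ n : ℤ, colimMap (Discrete.natTrans fun j => (s j.as).f n : X K n ⟶ X L n) ≫
      (eX L n).hom = (eX K n).hom ≫ (Limits.Sigma.map s).f n := fun n => by
    refine colimit.hom_ext fun ⟨j⟩ => ?_
    rw [ι_colimMap_assoc, hX, ← assoc, hX, ← HomologicalComplex.comp_f, Limits.Sigma.ι_map,
      HomologicalComplex.comp_f]
    rfl
  let e : ∀ (M : J → CochainComplex A ℤ), colim.mapShortComplex.obj (S M) ≅ (∐ M).sc i := fun M =>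
    ShortComplex.isoMk (eX M i₀) (eX M i) (eX M i₁) (hd M i₀ i) (hd M i i₁)
  rw [quasiIsoAt_iff]
  have sq : colim.mapShortComplex.map φ ≫ (e L).hom =
      (e K).hom ≫ (HomologicalComplex.shortComplexFunctor A (ComplexShape.up ℤ) i).map
        (Limits.Sigma.map s) := by
    ext1
    · exact hsX i₀
    · exact hsX i
    · exact hsX i₁
  have : ShortComplex.QuasiIso ((e K).hom ≫ (HomologicalComplex.shortComplexFunctor A
      (ComplexShape.up ℤ) i).map (Limits.Sigma.map s)) := sq ▸ inferInstance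
  exact (ShortComplex.quasiIso_iff_comp_left (e K).hom _).1 this

section

variable [HasDerivedCategory.{w} A]

lemma exists_quasiIso_of_Q_map_eq_zero {K L : CochainComplex A ℤ} (f : K ⟶ L)
    (hf : DerivedCategory.Q.map f = 0) :
    ∃ (Z : CochainComplex A ℤ) (s : Z ⟶ K), QuasiIso s ∧ Nonempty (Homotopy (s ≫ f) 0) := by
  have h : DerivedCategory.Qh.map ((HomotopyCategory.quotient A _).map f) =
      DerivedCategory.Qh.map 0 := by
    rw [Functor.map_zero]
    apply ((DerivedCategory.quotientCompQhIso A).app K).cancel_iso_inv_left _ _ |>.1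
    rw [comp_zero, ← cancel_mono ((DerivedCategory.quotientCompQhIso A).app L).hom, zero_comp,
      assoc]
    simp only [Iso.app_hom, Iso.app_inv]
    erw [(DerivedCategory.quotientCompQhIso A).hom.naturality f]
    simp [hf]
  obtain ⟨Z, t, ht, hcomp⟩ :=
    (MorphismProperty.map_eq_iff_precomp DerivedCategory.Qh
      (HomotopyCategory.quasiIso A (ComplexShape.up ℤ)) _ _).1 h
  obtain ⟨Z, rfl⟩ := HomotopyCategory.quotient_obj_surjective Z
  obtain ⟨t, rfl⟩ := (HomotopyCategory.quotient _ _).map_surjective t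
  rw [HomotopyCategory.quotient_map_mem_quasiIso_iff] at ht
  refine ⟨Z, t, ht, ⟨HomotopyCategory.homotopyOfEq _ _ ?_⟩⟩
  rw [Functor.map_comp, hcomp, comp_zero, Functor.map_zero]

lemma sigma_Q_hom_ext {K : J → CochainComplex A ℤ} {Y : DerivedCategory A}
    (g : DerivedCategory.Q.obj (∐ K) ⟶ Y)
    (hg : ∀ j, DerivedCategory.Q.map (Sigma.ι K j) ≫ g = 0) : g = 0 := by

  let L := DerivedCategory.Q.objPreimage Y
  let eY : DerivedCategory.Q.obj L ≅ Y := DerivedCategory.Q.objObjPreimageIso Y
  obtain ⟨L', f, r, hr, hfr⟩ := DerivedCategory.left_fac (g ≫ eY.inv)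
  have hf : ∀ j, DerivedCategory.Q.map (Sigma.ι K j ≫ f) = 0 := fun j => by
    rw [← cancel_mono (inv (DerivedCategory.Q.map r)), zero_comp, Functor.map_comp, assoc, ← hfr,
      ← assoc, hg, zero_comp]
  choose Z s hs hh using fun j => exists_quasiIso_of_Q_map_eq_zero _ (hf j)
  let z := fun j => CochainComplex.HomComplex.Cochain.equivHomotopy _ _ (hh j).some
  let C := fun j => CochainComplex.mappingCone (𝟙 (Z j))
  let u : ∀ j, C j ⟶ L' := fun j => CochainComplex.mappingCone.desc (𝟙 (Z j)) (z j).1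
    (s j ≫ Sigma.ι K j ≫ f) (by
      rw [id_comp]
      exact ((z j).2.trans ((congrArg (CochainComplex.HomComplex.δ (-1) 0 (z j).1 + ·)
        (CochainComplex.HomComplex.Cochain.ofHom_zero _ _)).trans (add_zero _))).symm)
  have hfac : Limits.Sigma.map s ≫ f =
      Limits.Sigma.map (fun j => CochainComplex.mappingCone.inr (𝟙 (Z j))) ≫ Sigma.desc u := by
    refine Sigma.hom_ext _ _ fun j => ?_
    simp [u]
  have hzero : IsZero (DerivedCategory.Q.obj (∐ C)) := by
    have hq : ∀ j, QuasiIso (0 : C j ⟶ (0 : CochainComplex A ℤ)) := fun j => by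
      rw [← DerivedCategory.isIso_Q_map_iff_quasiIso]
      have hz : IsZero (DerivedCategory.Q.obj (C j)) := by
        have := (DerivedCategory.mappingCone_triangle_distinguished (𝟙 (Z j)))
        exact (Pretriangulated.Triangle.isZero₃_iff_isIso₁ _ this).2
          (inferInstanceAs (IsIso (DerivedCategory.Q.map (𝟙 (Z j)))))
      exact ⟨0, hz.eq_of_src _ _, (Functor.map_isZero _ (isZero_zero _)).eq_of_src _ _⟩
    have := quasiIso_sigmaMap _ hq
    rw [← DerivedCategory.isIso_Q_map_iff_quasiIso] at this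
    have hz0 : IsZero (∐ fun _ : J => (0 : CochainComplex A ℤ)) := by
      rw [IsZero.iff_id_eq_zero]
      exact Sigma.hom_ext _ _ fun j => (isZero_zero _).eq_of_src _ _
    exact (Functor.map_isZero DerivedCategory.Q hz0).of_iso (asIso (DerivedCategory.Q.map
      (Limits.Sigma.map fun j => (0 : C j ⟶ (0 : CochainComplex A ℤ)))))
  have : IsIso (DerivedCategory.Q.map (Limits.Sigma.map s)) := by
    rw [DerivedCategory.isIso_Q_map_iff_quasiIso]
    exact quasiIso_sigmaMap s hs
  have hf0 : DerivedCategory.Q.map f = 0 := by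
    rw [← cancel_epi (DerivedCategory.Q.map (Limits.Sigma.map s)), ← Functor.map_comp, hfac,
      Functor.map_comp, hzero.eq_of_tgt (DerivedCategory.Q.map _) 0, zero_comp, comp_zero]
  rw [← cancel_mono eY.inv, hfr, hf0, zero_comp, zero_comp]

lemma hasColimitsOfShape_derivedCategory :
    HasColimitsOfShape (Discrete J) (DerivedCategory A) := by
  suffices ∀ Y : J → DerivedCategory A, HasCoproduct Y by
    refine ⟨fun F => ?_⟩
    have := this (fun j => F.obj ⟨j⟩)
    exact hasColimit_of_iso (Discrete.natIsoFunctor (F := F))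
  intro Y
  let Q := DerivedCategory.Q (C := A)
  let K := fun j => Q.objPreimage (Y j)
  let e := fun j => Q.objObjPreimageIso (Y j)
  let inc := fun j => (e j).inv ≫ Q.map (Sigma.ι K j)
  have hdesc : ∀ {T : DerivedCategory A} (k : ∀ j, Y j ⟶ T),
      ∃ d : Q.obj (∐ K) ⟶ T, ∀ j, inc j ≫ d = k j := by
    intro T k
    let L := Q.objPreimage T
    let eT : Q.obj L ≅ T := Q.objObjPreimageIso T
    choose Z s hs f hf using fun j => DerivedCategory.right_fac ((e j).hom ≫ k j ≫ eT.inv)
    have : IsIso (Q.map (Limits.Sigma.map s)) := by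
      rw [DerivedCategory.isIso_Q_map_iff_quasiIso]
      exact quasiIso_sigmaMap s fun j => (DerivedCategory.isIso_Q_map_iff_quasiIso _ _).1 (hs j)
    refine ⟨inv (Q.map (Limits.Sigma.map s)) ≫ Q.map (Sigma.desc f) ≫ eT.hom, fun j => ?_⟩
    have := hs j
    rw [← cancel_mono eT.inv, ← cancel_epi (e j).hom]
    refine Eq.trans ?_ (hf j).symm
    rw [eq_comm, IsIso.inv_comp_eq]
    have h1 : Q.map (s j) ≫ Q.map (Sigma.ι K j) =
        Q.map (Sigma.ι Z j) ≫ Q.map (Limits.Sigma.map s) := by
      rw [← Q.map_comp, ← Q.map_comp, Limits.Sigma.ι_map]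
    show Q.map (f j) = Q.map (s j) ≫ (e j).hom ≫ (((e j).inv ≫ Q.map (Sigma.ι K j)) ≫
      inv (Q.map (Limits.Sigma.map s)) ≫ Q.map (Sigma.desc f) ≫ eT.hom) ≫ eT.inv
    have e2 : Q.map (Sigma.ι Z j) ≫ Q.map (Sigma.desc f) = Q.map (f j) := by
      rw [← Q.map_comp, Sigma.ι_desc]
    have e3 : (e j).hom ≫ (e j).inv = 𝟙 (Q.obj (K j)) := (e j).hom_inv_id
    simp only [assoc, Iso.hom_inv_id, comp_id]
    rw [reassoc_of% e3]
    erw [id_comp]
    rw [reassoc_of% h1, IsIso.hom_inv_id_assoc, e2]
  exact ⟨⟨⟨Cofan.mk (Q.obj (∐ K)) inc, Cofan.IsColimit.mk _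
    (fun t => (hdesc t.inj).choose) (fun t j => (hdesc t.inj).choose_spec j)
    (fun t m hm => by
      refine sub_eq_zero.1 (sigma_Q_hom_ext _ fun j => ?_)
      rw [← cancel_epi (e j).inv, comp_zero, Preadditive.comp_sub, Preadditive.comp_sub, sub_eq_zero,
        ← assoc, ← assoc]
      exact (hm j).trans ((hdesc t.inj).choose_spec j).symm)⟩⟩⟩

end

end Groth.Agent.TriCat
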