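import Groth.Agent.TriCat.SmallAcyclic
import Groth.Agent.TriCat.DerivedCoproducts
import Mathlib.CategoryTheory.Abelian.GrothendieckCategory.EnoughInjectives
import Mathlib.CategoryTheory.Abelian.CommSq
import Mathlib.CategoryTheory.Limits.Shapes.Pullback.IsPullback.Kernels
import Mathlib.Algebra.Homology.HomotopyCategory.Shift

/-! K-injective resolutions in Grothendieck abelian categories. -/

universe w v u

open CategoryTheory Category Limits ZeroObject MorphismProperty

namespace Groth.Agent.TriCat

variable {A : Type u} [Category.{v} A] [Abelian A] [IsGrothendieckAbelian.{w} A]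

namespace KInjRes

/-- Monomorphic quasi-isomorphisms. -/
def trivCof : MorphismProperty (CochainComplex A ℤ) :=
  monomorphisms _ ⊓ HomologicalComplex.quasiIso A (ComplexShape.up ℤ)

omit [IsGrothendieckAbelian.{w} A] in
lemma trivCof_iff {K L : CochainComplex A ℤ} (f : K ⟶ L) :
    trivCof f ↔ Mono f ∧ QuasiIso f := Iff.rfl

instance : (trivCof (A := A)).RespectsIso := by unfold trivCof; infer_instance

instance : (trivCof (A := A)).IsMultiplicative := by unfold trivCof; infer_instance

instance : (trivCof (A := A)).IsStableUnderRetracts where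
  of_retract h hf :=
    ⟨MorphismProperty.of_retract h hf.1, MorphismProperty.of_retract h hf.2⟩

instance : (trivCof (A := A)).IsStableUnderCobaseChange where
  of_isPushout {K K' L L'} {f g f' g'} sq hf := by
    have : Mono f := hf.1
    have hm : Mono f' := (monomorphisms _).of_isPushout sq hf.1
    refine ⟨hm, (quasiIso_iff_acyclic_cokernel f').2 fun i => ?_⟩
    have := isIso_cokernel_map_of_isPushout sq.flip
    exact (((quasiIso_iff_acyclic_cokernel f).1 hf.2) i).of_iso
      (asIso (cokernel.map _ _ _ _ sq.flip.w))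

instance : IsStableUnderCoproducts.{w} (trivCof (A := A)) where
  isStableUnderCoproductsOfShape J := IsStableUnderCoproductsOfShape.mk _ _ fun X₁ X₂ _ _ f hf => by
    have : ∀ j, Mono (f j) := fun j => (hf j).1
    exact ⟨inferInstanceAs (Mono (Limits.Sigma.map f)), quasiIso_sigmaMap f fun j => (hf j).2⟩

instance : IsStableUnderFilteredColimits.{w, w} (trivCof (A := A)) where
  isStableUnderColimitsOfShape J _ _ :=
    ⟨fun X₁ X₂ c₁ c₂ hc₁ hc₂ f hf φ hφ =>
      ⟨IsStableUnderColimitsOfShape.condition (W := monomorphisms _) X₁ X₂ c₁ c₂ hc₁ hc₂ f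
        (fun j => (hf j).1) φ hφ,
      quasiIso_of_isColimit hc₁ hc₂ f (fun j => (hf j).2) φ hφ⟩⟩

variable (A)

/-- The index type of a small family of acyclic complexes. -/
def Idx : Type w := (exists_small_acyclic.{w} (A := A)).choose

/-- A small family of acyclic complexes. -/
noncomputable def fam : Idx.{w} A → CochainComplex A ℤ :=
  (exists_small_acyclic.{w} (A := A)).choose_spec.choose

lemma acyclic_fam (s : Idx.{w} A) : (fam A s).Acyclic :=
  (exists_small_acyclic.{w} (A := A)).choose_spec.choose_spec.1 s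

lemma exists_fam_mono {C : CochainComplex A ℤ} (hC : C.Acyclic) (h0 : ¬ IsZero C) :
    ∃ (s : Idx.{w} A) (i : fam A s ⟶ C), Mono i ∧ i ≠ 0 :=
  (exists_small_acyclic.{w} (A := A)).choose_spec.choose_spec.2 C hC h0

/-- Sources of the generating maps. -/
noncomputable def genSrc : (ℤ × Subobject (separator A)) ⊕ Idx.{w} A → CochainComplex A ℤ
  | .inl p => disk p.1 (p.2 : A)
  | .inr s => (fam A s)⟦(-1 : ℤ)⟧

/-- Targets of the generating maps. -/
noncomputable def genTgt : (ℤ × Subobject (separator A)) ⊕ Idx.{w} A → CochainComplex A ℤ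
  | .inl p => disk p.1 (separator A)
  | .inr s => coneId ((fam A s)⟦(-1 : ℤ)⟧)

/-- The generating maps. -/
noncomputable def genMap : ∀ t, genSrc.{w} A t ⟶ genTgt.{w} A t
  | .inl p => diskMap p.1 p.2.arrow
  | .inr _ => CochainComplex.mappingCone.inr (𝟙 _)

/-- The generating trivial cofibrations. -/
def gen : MorphismProperty (CochainComplex A ℤ) := ofHoms (genMap.{w} A)

instance : MorphismProperty.IsSmall.{w} (gen.{w} A) := by
  dsimp [gen]
  infer_instance

lemma gen_le : gen.{w} A ≤ trivCof := by
  rintro _ _ _ ⟨(⟨n, U⟩ | s)⟩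
  · exact ⟨inferInstanceAs (Mono (diskMap n U.arrow)), ⟨fun i =>
      (quasiIsoAt_iff_exactAt _ i (acyclic_disk n _ i)).2 (acyclic_disk n _ i)⟩⟩
  · refine ⟨inferInstanceAs (Mono (CochainComplex.mappingCone.inr (𝟙 _))), ⟨fun i => ?_⟩⟩
    refine (quasiIsoAt_iff_exactAt _ i ?_).2 (acyclic_coneId _ i)
    have : HomotopyCategory.subcategoryAcyclic A
        ((HomotopyCategory.quotient A (ComplexShape.up ℤ)).obj ((fam A s)⟦(-1 : ℤ)⟧)) :=
      ObjectProperty.prop_of_iso _
        (((HomotopyCategory.quotient A (.up ℤ)).commShiftIso (-1 : ℤ)).symm.app _)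
        ((HomotopyCategory.subcategoryAcyclic A).le_shift (-1 : ℤ) _
          ((HomotopyCategory.quotient_obj_mem_subcategoryAcyclic_iff_acyclic _).2 (acyclic_fam A s)))
    exact (HomotopyCategory.quotient_obj_mem_subcategoryAcyclic_iff_acyclic _).1 this i

instance hasSmallObjectArgument_gen : HasSmallObjectArgument.{w} (gen.{w} A) := by
  obtain ⟨κ, hκ', hκ⟩ := HasCardinalLT.exists_regular_cardinal.{w}
    (Σ t : (ℤ × Subobject (separator A)) ⊕ Idx.{w} A, Subobject (genSrc.{w} A t))
  have : Fact κ.IsRegular := ⟨hκ'⟩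
  have : Nonempty κ.ord.ToType := by simpa using hκ'.ne_zero
  have := WellFoundedLT.toOrderBot κ.ord.ToType
  refine ⟨κ, inferInstance, inferInstance, { preservesColimit := fun {X₁ X₂ X Y} i hi f hf => ?_ }⟩
  let hf' : (monomorphisms _).TransfiniteCompositionOfShape κ.ord.ToType f :=
    { toTransfiniteCompositionOfShape := hf.toTransfiniteCompositionOfShape
      map_mem j hj := by
        have := (hf.attachCells j hj).pushouts_coproducts
        simp only [ofHoms_homFamily] at this
        refine (?_ : _ ≤ monomorphisms _) _ this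
        simp only [pushouts_le_iff, coproducts_le_iff]
        exact (gen_le A).trans inf_le_left }
  have (j j' : κ.ord.ToType) (φ : j ⟶ j') : Mono (hf'.F.map φ) := hf'.mem_map φ
  apply IsGrothendieckAbelian.preservesColimit_coyoneda_obj_of_mono (Y := hf'.F) (κ := κ)
  obtain ⟨t⟩ := hi
  exact hκ.of_injective (fun S => ⟨t, S⟩) (fun _ _ h => eq_of_heq (Sigma.mk.inj h).2)

lemma llp_rlp_le : (gen.{w} A).rlp.llp ≤ trivCof := by
  rw [llp_rlp_of_hasSmallObjectArgument]
  simp only [retracts_le_iff, transfiniteCompositions_le_iff, pushouts_le_iff, coproducts_le_iff]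
  exact gen_le A

variable {A}

/-- Termwise injective and orthogonal to the small acyclic family. -/
def Good (I : CochainComplex A ℤ) : Prop :=
  (∀ n, Injective (I.X n)) ∧
    ∀ (s : Idx.{w} A) (φ : fam A s ⟶ I⟦(1 : ℤ)⟧), Nonempty (Homotopy φ 0)

/-- Embedding into a good complex. -/
lemma exists_good (M : CochainComplex A ℤ) :
    ∃ (I : CochainComplex A ℤ) (f : M ⟶ I), Good.{w} I ∧ trivCof f := by
  let d := MorphismProperty.factorizationData (gen.{w} A).rlp.llp (gen.{w} A).rlp
    (0 : M ⟶ (0 : CochainComplex A ℤ))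
  have hext : ∀ t (φ : genSrc.{w} A t ⟶ d.Z), ∃ ψ : genTgt.{w} A t ⟶ d.Z, genMap A t ≫ ψ = φ :=
    fun t φ => by
      have := d.hp _ ⟨t⟩
      have sq : CommSq φ (genMap A t) d.p (0 : genTgt.{w} A t ⟶ 0) :=
        ⟨(isZero_zero _).eq_of_tgt _ _⟩
      exact ⟨sq.lift, sq.fac_left⟩
  refine ⟨d.Z, d.i, ⟨fun n => ?_, fun s φ => ?_⟩, llp_rlp_le A _ d.hi⟩
  · rw [injective_iff_rlp_monomorphisms_zero,
      ← IsGrothendieckAbelian.generatingMonomorphisms_rlp (isSeparator_separator A)]
    rintro _ _ _ ⟨U⟩
    refine ⟨fun {a b} sq => ⟨⟨?_⟩⟩⟩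
    have hc := exists_comp_of_extends U.arrow (fun φ => hext (.inl (n, U)) φ) a
    exact { l := hc.choose, fac_left := hc.choose_spec, fac_right := (isZero_zero A).eq_of_tgt _ _ }
  · let adj := (shiftEquiv (CochainComplex A ℤ) (1 : ℤ)).symm.toAdjunction
    let ψ : (fam A s)⟦(-1 : ℤ)⟧ ⟶ d.Z := (adj.homEquiv _ _).symm φ
    obtain ⟨ψ', hψ'⟩ := hext (.inr s) ψ
    obtain ⟨h⟩ := nonempty_homotopy_of_extends ψ ψ' hψ'
    have e : φ = adj.homEquiv _ _ ψ := ((adj.homEquiv _ _).apply_symm_apply φ).symm
    rw [e, Adjunction.homEquiv_unit]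
    exact ⟨((h.shift 1).compLeft (adj.unit.app (fam A s))).trans
      (Homotopy.ofEq ((congrArg _ ((shiftFunctor _ (1 : ℤ)).map_zero _ _)).trans comp_zero))⟩

section Extend

variable {I : CochainComplex A ℤ} {L : CochainComplex A ℤ}

/-- One step towards the extension. -/
lemma exists_larger (hI : Good.{w} I) (S : Subobject L) (hS : QuasiIso S.arrow) (hS' : S ≠ ⊤) :
    ∃ (S' : Subobject L) (h : S < S'), QuasiIso S'.arrow ∧
      (ofHoms fun (_ : Unit) => (0 : I ⟶ (0 : CochainComplex A ℤ))).llp (Subobject.ofLE S S' h.le) := by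
  let Q := cokernel S.arrow
  have hQ : Q.Acyclic := (quasiIso_iff_acyclic_cokernel _).1 hS
  have hQ0 : ¬ IsZero Q := fun h0 => by
    have : Epi S.arrow := Preadditive.epi_of_isZero_cokernel _ h0
    have := isIso_of_mono_of_epi S.arrow
    exact hS' (Subobject.eq_top_of_isIso_arrow S)
  obtain ⟨s, i, _, hi0⟩ := exists_fam_mono.{w} A hQ hQ0
  let j : (S : CochainComplex A ℤ) ⟶ pullback (cokernel.π S.arrow) i :=
    pullback.lift S.arrow 0 (by rw [cokernel.condition, zero_comp])
  have hj : j ≫ pullback.fst _ _ = S.arrow := pullback.lift_fst _ _ _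
  have hj2 : j ≫ pullback.snd _ _ = 0 := pullback.lift_snd _ _ _
  have : Mono (j ≫ pullback.fst _ _) := by rw [hj]; infer_instance
  have : Mono j := mono_of_mono j (pullback.fst _ _)
  have hex : (ShortComplex.mk j (pullback.snd (cokernel.π S.arrow) i) hj2).Exact := by
    rw [ShortComplex.exact_iff_exact_up_to_refinements]
    intro T x hx
    dsimp at x hx
    have hl := Abelian.monoLift S.arrow (x ≫ pullback.fst _ _)
    refine ⟨T, 𝟙 T, inferInstance, Abelian.monoLift S.arrow (x ≫ pullback.fst _ _)
      (by rw [assoc, pullback.condition, reassoc_of% hx, zero_comp]), ?_⟩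
    dsimp
    refine (id_comp x).trans (pullback.hom_ext ?_ ?_)
    · rw [assoc, hj, Abelian.monoLift_comp]
    · rw [assoc, hj2, comp_zero, hx]
  have hse : (ShortComplex.mk j (pullback.snd (cokernel.π S.arrow) i) hj2).ShortExact :=
    { exact := hex }
  let e : cokernel j ≅ fam A s :=
    (cokernelIsCokernel j).coconePointUniqueUpToIso hse.gIsCokernel
  have : QuasiIso j := quasiIso_f_of_acyclic hse (acyclic_fam A s)
  have : QuasiIso (j ≫ pullback.fst (cokernel.π S.arrow) i) := by rw [hj]; exact hS
  have hq : QuasiIso (pullback.fst (cokernel.π S.arrow) i) := quasiIso_of_comp_left j _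
  have hlt : S < Subobject.mk (pullback.fst (cokernel.π S.arrow) i) := by
    have := Subobject.mk_lt_mk_of_comm (i₁ := S.arrow) (i₂ := pullback.fst (cokernel.π S.arrow) i)
      j hj (fun hjiso => hi0 ?_)
    · rwa [Subobject.mk_arrow] at this
    · have h1 : IsZero (fam A s) := (isZero_cokernel_of_epi j).of_iso e.symm
      exact h1.eq_of_src _ _
  refine ⟨_, hlt, ?_, ?_⟩
  · rw [← Subobject.underlyingIso_hom_comp_eq_mk]
    infer_instance
  · have hjl : (ofHoms fun (_ : Unit) => (0 : I ⟶ (0 : CochainComplex A ℤ))).llp j := by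
      rintro _ _ _ ⟨⟩
      refine ⟨fun {a b} sq => ⟨⟨?_⟩⟩⟩
      have := hI.1
      have hex' := exists_extension_of_null j e (fun φ => hI.2 s φ) a
      exact { l := hex'.choose
              fac_left := hex'.choose_spec
              fac_right := (isZero_zero _).eq_of_tgt _ _ }
    refine ((ofHoms fun (_ : Unit) => (0 : I ⟶ (0 : CochainComplex A ℤ))).llp.arrow_mk_iso_iff
      ?_).2 hjl
    refine Arrow.isoMk (Iso.refl _) (Subobject.underlyingIso _) ?_
    dsimp
    rw [id_comp, ← cancel_mono (pullback.fst (cokernel.π S.arrow) i), hj, assoc,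
      Subobject.underlyingIso_hom_comp_eq_mk, Subobject.ofLE_arrow]

open scoped Classical in
/-- The successor map of the transfinite iteration. -/
noncomputable def larger (hI : Good.{w} I) (S : Subobject L) : Subobject L :=
  if h : QuasiIso S.arrow ∧ S ≠ ⊤ then (exists_larger hI S h.1 h.2).choose else ⊤

variable (hI : Good.{w} I)

lemma lt_larger (S : Subobject L) (hS : S ≠ ⊤) : S < larger hI S := by
  rw [larger]
  split_ifs with h
  · exact (exists_larger hI S h.1 h.2).choose_spec.choose
  · exact lt_top_iff_ne_top.2 hS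

lemma larger_top : larger hI (⊤ : Subobject L) = ⊤ := dif_neg (fun h => h.2 rfl)

lemma le_larger (S : Subobject L) : S ≤ larger hI S := by
  by_cases hS : S = ⊤
  · subst hS; rw [larger_top]
  · exact (lt_larger hI S hS).le

lemma larger_spec (S : Subobject L) (hS : QuasiIso S.arrow) :
    QuasiIso (larger hI S).arrow ∧
      (ofHoms fun (_ : Unit) => (0 : I ⟶ (0 : CochainComplex A ℤ))).llp
        (Subobject.ofLE S _ (le_larger hI S)) := by
  by_cases hS' : S = ⊤
  · subst hS'
    have h1 := (Subobject.isIso_arrow_iff_eq_top (larger hI (⊤ : Subobject L))).2 (larger_top hI)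
    have h2 : IsIso (Subobject.ofLE ⊤ _ (le_larger hI (⊤ : Subobject L))) := by
      have : IsIso (Subobject.ofLE ⊤ _ (le_larger hI (⊤ : Subobject L)) ≫
          (larger hI (⊤ : Subobject L)).arrow) := by
        rw [Subobject.ofLE_arrow]; infer_instance
      exact IsIso.of_isIso_comp_right _ (larger hI (⊤ : Subobject L)).arrow
    exact ⟨inferInstance, fun _ _ _ _ => inferInstance⟩
  · have e : larger hI S = (exists_larger hI S hS hS').choose := dif_pos ⟨hS, hS'⟩
    obtain ⟨h, h1, h2⟩ := (exists_larger hI S hS hS').choose_spec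
    refine ⟨e ▸ h1, ?_⟩
    have key : ∀ (T : Subobject L) (_ : T = larger hI S) (hT : S ≤ T)
        (_ : (ofHoms fun (_ : Unit) => (0 : I ⟶ (0 : CochainComplex A ℤ))).llp
          (Subobject.ofLE S T hT)),
        (ofHoms fun (_ : Unit) => (0 : I ⟶ (0 : CochainComplex A ℤ))).llp
          (Subobject.ofLE S _ (le_larger hI S)) := by
      rintro T rfl _ hT; exact hT
    exact key _ e.symm h.le h2

variable {J : Type w} [LinearOrder J] [OrderBot J] [SuccOrder J] [WellFoundedLT J] (S₀ : Subobject L)

/-- The transfinite iteration as a functor. -/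
@[simps]
noncomputable def iterFunctor : J ⥤ MonoOver L where
  obj j := MonoOver.mk (transfiniteIterate (larger hI) j S₀).arrow
  map {j j'} f := MonoOver.homMk (Subobject.ofLE _ _
      (monotone_transfiniteIterate _ _ (le_larger hI) (leOfHom f)))

/-- The iteration as a diagram of complexes. -/
noncomputable abbrev iterDiag : J ⥤ CochainComplex A ℤ :=
  iterFunctor hI S₀ ⋙ MonoOver.forget _ ⋙ Over.forget _

set_option backward.defeqAttrib.useBackward true in
instance : (iterDiag (J := J) hI S₀).IsWellOrderContinuous where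
  nonempty_isColimit m hm := ⟨by
    have := hm.nonempty_Iio.to_subtype
    let c := (Set.principalSegIio m).cocone (iterFunctor hI S₀ ⋙ MonoOver.forget _)
    have : Mono c.pt.hom := by dsimp [c]; infer_instance
    apply IsGrothendieckAbelian.isColimitMapCoconeOfSubobjectMkEqISup
      ((Set.principalSegIio m).monotone.functor ⋙ iterFunctor hI S₀) c
    dsimp [c]
    simp only [Subobject.mk_arrow]
    exact transfiniteIterate_limit (larger hI) S₀ m hm⟩

attribute [local instance] IsFiltered.isConnected

lemma quasiIso_iter_arrow (hS₀ : QuasiIso S₀.arrow) (j : J) :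
    QuasiIso (transfiniteIterate (larger hI) j S₀).arrow := by
  induction j using SuccOrder.limitRecOn with
  | isMin j hj =>
    obtain rfl := hj.eq_bot
    rw [transfiniteIterate_bot]
    exact hS₀
  | succ j hj hj' =>
    rw [transfiniteIterate_succ _ _ _ hj]
    exact (larger_spec hI _ hj').1
  | isSuccLimit j hj hj' =>
    have := hj.nonempty_Iio.to_subtype
    let D := (Set.principalSegIio j).monotone.functor ⋙ iterDiag hI S₀
    let f : D ⟶ (Functor.const (Set.Iio j)).obj L :=
      { app k := (transfiniteIterate (larger hI) k.1 S₀).arrow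
        naturality k k' a := by
          refine (Subobject.ofLE_arrow _).trans (comp_id _).symm }
    exact quasiIso_of_isColimit ((iterDiag hI S₀).isColimitOfIsWellOrderContinuous j hj)
      (isColimitConstCocone (Set.Iio j) L) f (fun k => hj' k.1 k.2)
      (transfiniteIterate (larger hI) j S₀).arrow
      (fun k => (Subobject.ofLE_arrow _).trans (comp_id _).symm)

set_option backward.isDefEq.respectTransparency.types false in
set_option backward.defeqAttrib.useBackward true in
/-- The iteration from the bottom is a transfinite composition of maps with the lifting property. -/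
noncomputable def iterComposition (hS₀ : QuasiIso S₀.arrow) (j : J) :
    (ofHoms fun (_ : Unit) =>
      (0 : I ⟶ (0 : CochainComplex A ℤ))).llp.TransfiniteCompositionOfShape (Set.Iic j)
      ((iterDiag hI S₀).map (homOfLE bot_le : ⊥ ⟶ j)) where
  F := (Set.initialSegIic j).monotone.functor ⋙ iterDiag hI S₀
  isoBot := Iso.refl _
  incl :=
    { app k := (iterDiag hI S₀).map (homOfLE k.2)
      naturality k k' h := by simp [MonoOver.forget] }
  isColimit := colimitOfDiagramTerminal isTerminalTop _
  map_mem k hk := by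
    dsimp [MonoOver.forget]
    convert! (larger_spec hI _ (quasiIso_iter_arrow hI S₀ hS₀ k.1)).2 using 2
    all_goals
      rw [Set.Iic.succ_eq_of_not_isMax hk,
        transfiniteIterate_succ _ _ _ (Set.not_isMax_coe _ hk)]

end Extend

/-- A good complex has the extension property along monomorphic quasi-isomorphisms. -/
lemma exists_extension {I : CochainComplex A ℤ} (hI : Good.{w} I) {K L : CochainComplex A ℤ}
    (α : K ⟶ L) [Mono α] (hα : QuasiIso α) (γ : K ⟶ I) : ∃ β : L ⟶ I, α ≫ β = γ := by
  let S₀ := Subobject.mk α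
  have hS₀ : QuasiIso S₀.arrow := by
    rw [← Subobject.underlyingIso_hom_comp_eq_mk α]
    infer_instance
  let κ := Order.succ (Cardinal.mk (Shrink.{w} (Subobject L)))
  have : Nonempty κ.ord.ToType := by simp [κ]
  have := WellFoundedLT.toOrderBot κ.ord.ToType
  have hJ : HasCardinalLT (Subobject L) (Cardinal.mk κ.ord.ToType) :=
    lt_of_lt_of_le (Order.lt_succ _) (by simp [κ])
  obtain ⟨j, hj⟩ := top_mem_range_transfiniteIterate (larger hI) S₀ (lt_larger hI) (larger_top hI)
    (fun h : Function.Injective fun j : κ.ord.ToType => transfiniteIterate (larger hI) j S₀ => by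
      simpa [hasCardinalLT_iff_cardinal_mk_lt] using hJ.of_injective _ h)
  have hmem := transfiniteCompositionsOfShape_le _ _ _ (iterComposition hI S₀ hS₀ j).mem
  have hbot : transfiniteIterate (larger hI) (⊥ : κ.ord.ToType) S₀ = Subobject.mk α :=
    transfiniteIterate_bot _ _
  have hiso := (Subobject.isIso_arrow_iff_eq_top (transfiniteIterate (larger hI) j S₀)).2 hj
  have hllp : (ofHoms fun (_ : Unit) => (0 : I ⟶ (0 : CochainComplex A ℤ))).llp α := by
    refine ((ofHoms fun (_ : Unit) => (0 : I ⟶ (0 : CochainComplex A ℤ))).llp.arrow_mk_iso_iff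
      ?_).1 hmem
    refine Arrow.isoMk (Subobject.isoOfEq _ _ hbot ≪≫ Subobject.underlyingIso α)
      (@asIso _ _ _ _ (transfiniteIterate (larger hI) j S₀).arrow hiso) ?_
    show ((Subobject.isoOfEq _ _ hbot).hom ≫ (Subobject.underlyingIso α).hom) ≫ α =
      Subobject.ofLE _ _ _ ≫ (transfiniteIterate (larger hI) j S₀).arrow
    exact (assoc _ _ _).trans ((congrArg (_ ≫ ·) (Subobject.underlyingIso_hom_comp_eq_mk α)).trans
      ((Subobject.ofLE_arrow _).trans (Subobject.ofLE_arrow _).symm))
  have := hllp _ (ofHoms.mk ())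
  have sq : CommSq γ α (0 : I ⟶ (0 : CochainComplex A ℤ)) (0 : L ⟶ 0) := ⟨by simp⟩
  exact ⟨sq.lift, sq.fac_left⟩

lemma Good.isKInjective {I : CochainComplex A ℤ} (hI : Good.{w} I) : I.IsKInjective :=
  ⟨fun {K} f hK => by
    obtain ⟨ψ, hψ⟩ := exists_extension hI (CochainComplex.mappingCone.inr (𝟙 K))
      ⟨fun i => (quasiIsoAt_iff_exactAt _ i (hK i)).2 (acyclic_coneId K i)⟩ f
    exact nonempty_homotopy_of_extends f ψ hψ⟩

end KInjRes

open KInjRes in
/-- Every complex in a Grothendieck abelian category has a monomorphic quasi-isomorphism to a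
K-injective complex of injectives. -/
theorem exists_kInjective_resolution' (M : CochainComplex A ℤ) :
    ∃ (I : CochainComplex A ℤ) (f : M ⟶ I), I.IsKInjective ∧ QuasiIso f ∧ (∀ n, Mono (f.f n)) ∧
      ∀ n, Injective (I.X n) := by
  obtain ⟨I, f, hI, hf⟩ := exists_good.{w} M
  have : Mono f := hf.1
  exact ⟨I, f, hI.isKInjective, hf.2, fun n => inferInstance, hI.1⟩

end Groth.Agent.TriCat
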