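import Groth.Agent.TriCat.RightDerivedBridge
import Mathlib.CategoryTheory.Limits.Preserves.Finite
import Mathlib.CategoryTheory.Preadditive.LeftExact

/-! Right acyclic objects for a left exact functor. -/

universe v v' u u'

open CategoryTheory Category Limits

namespace Groth.Agent.TriCat

variable {C : Type u} [Category.{v} C] [Abelian C] [EnoughInjectives C]
  {D : Type u'} [Category.{v'} D] [Abelian D] (F : C ⥤ D) [F.Additive]

/-- Vanishing of all higher right derived functors. -/
abbrev IsRightAcyclic (X : C) : Prop := ∀ i : ℕ, 0 < i → IsZero ((F.rightDerived i).obj X)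

instance injectiveResolutions_additive {C : Type*} [Category C] [Abelian C]
    [HasInjectiveResolutions C] : (injectiveResolutions C).Additive where
  map_add {X Y} {f g} := by
    show (HomotopyCategory.quotient _ _).map _ = (HomotopyCategory.quotient _ _).map _ +
      (HomotopyCategory.quotient _ _).map _
    refine Eq.trans ?_ (Functor.map_add (F := HomotopyCategory.quotient C (ComplexShape.up ℕ)))
    apply HomotopyCategory.eq_of_homotopy
    exact InjectiveResolution.descHomotopy (f + g) _ _ (InjectiveResolution.desc_commutes _ _ _)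
      (by simp [Preadditive.comp_add, Functor.map_add, Preadditive.add_comp])

instance rightDerived_additive (n : ℕ) : (F.rightDerived n).Additive := by
  dsimp [Functor.rightDerived, Functor.rightDerivedToHomotopyCategory]
  infer_instance

variable {F}

lemma isRightAcyclic_of_injective (X : C) [Injective X] : IsRightAcyclic F X := fun i hi => by
  obtain ⟨j, rfl⟩ := Nat.exists_eq_succ_of_ne_zero hi.ne'
  exact F.isZero_rightDerived_obj_injective_succ j X

lemma preservesFiniteLimits_rightDerived_zero : PreservesFiniteLimits (F.rightDerived 0) := by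
  let := HasDerivedCategory.standard C
  let := HasDerivedCategory.standard D
  refine ((Functor.preservesFiniteLimits_tfae (F.rightDerived 0)).out 3 0).2 fun S hS => ?_
  obtain ⟨δ, w₁, w₂, w₃, h₁, -, -⟩ := exists_rightDerived_ses F hS 0
  refine ⟨h₁, ?_⟩
  -- mono: the previous term in the long exact sequence vanishes
  have hS' : (S.map (CochainComplex.singleFunctor C 0)).ShortExact :=
    hS.map_of_exact (HomologicalComplex.single C (ComplexShape.up ℤ) 0)
  obtain ⟨δ', u₁, u₂, u₃, -, -, h₃⟩ := exists_rightDerived_les C F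
    (singlePlusFunctor.map S.f) (singlePlusFunctor.map S.g) _ hS' (-1) ((0 : ℕ) : ℤ) (by simp)
  have hz : IsZero ((derivedCoh F (-1)).obj S.X₃) := by
    let R := injectiveResolution S.X₃
    refine IsZero.of_iso ?_ ((DerivedCategory.Plus.ι ⋙ DerivedCategory.homologyFunctor D (-1)).mapIso
      (derivedObjIso F R) ≪≫ (homologyPlusIso F (-1)).app (resPlus R))
    show IsZero (HomologicalComplex.homology
      ((F.mapHomologicalComplex (ComplexShape.up ℤ)).obj R.cochainComplex) (-1))
    rw [← HomologicalComplex.exactAt_iff_isZero_homology]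
    exact ShortComplex.exact_of_isZero_X₂ _
      (F.map_isZero (R.cochainComplex.isZero_of_isStrictlyGE 0 (-1) (by omega)))
  have hm : Mono ((derivedCoh F ((0 : ℕ) : ℤ)).map S.f) := h₃.mono_g (hz.eq_of_src _ _)
  exact ((MorphismProperty.monomorphisms D).arrow_mk_iso_iff
    (Arrow.isoOfNatIso (derivedCohIso F 0) (Arrow.mk S.f))).1 hm

lemma isIso_toRightDerivedZero_iff :
    IsIso F.toRightDerivedZero ↔ PreservesFiniteLimits F := by
  refine ⟨fun h => ?_, fun h => inferInstance⟩
  have := preservesFiniteLimits_rightDerived_zero (F := F)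
  exact preservesFiniteLimits_of_natIso (asIso F.toRightDerivedZero).symm

variable [PreservesFiniteLimits F] {S : ShortComplex C} (hS : S.ShortExact)

include hS

lemma shortExact_map_of_subsingleton (h : IsZero ((F.rightDerived 1).obj S.X₁)) :
    (S.map F).ShortExact := by
  let := HasDerivedCategory.standard C
  let := HasDerivedCategory.standard D
  obtain ⟨δ, w₁, w₂, w₃, -, h₂, -⟩ := exists_rightDerived_ses F hS 0
  have he : Epi ((F.rightDerived 0).map S.g) := h₂.epi_f (h.eq_of_tgt _ _)
  have he' : Epi (F.map S.g) :=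
    ((MorphismProperty.epimorphisms D).arrow_mk_iso_iff
      (Arrow.isoOfNatIso F.rightDerivedZeroIsoSelf (Arrow.mk S.g))).1 he
  have t := (Functor.preservesFiniteLimits_tfae F).out 3 0
  have hc := t.1 (show PreservesFiniteLimits F from inferInstance) S hS
  exact { exact := hc.1, mono_f := hc.2, epi_g := he' : (S.map F).ShortExact }

lemma acyclic₂ (h₁ : IsRightAcyclic F S.X₁) (h₃ : IsRightAcyclic F S.X₃) :
    IsRightAcyclic F S.X₂ := fun i hi => by
  let := HasDerivedCategory.standard C
  let := HasDerivedCategory.standard D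
  obtain ⟨δ, w₁, w₂, w₃, e₁, -, -⟩ := exists_rightDerived_ses F hS i
  exact e₁.isZero_X₂ ((h₁ i hi).eq_of_src _ _) ((h₃ i hi).eq_of_tgt _ _)

lemma acyclic₃ (h₁ : IsRightAcyclic F S.X₁) (h₂ : IsRightAcyclic F S.X₂) :
    IsRightAcyclic F S.X₃ := fun i hi => by
  let := HasDerivedCategory.standard C
  let := HasDerivedCategory.standard D
  obtain ⟨δ, w₁, w₂, w₃, -, e₂, -⟩ := exists_rightDerived_ses F hS i
  exact e₂.isZero_X₂ ((h₂ i hi).eq_of_src _ _) ((h₁ (i + 1) (by omega)).eq_of_tgt _ _)

lemma acyclic₁ (h₂ : IsRightAcyclic F S.X₂) (h₃ : IsRightAcyclic F S.X₃) (he : Epi (F.map S.g)) :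
    IsRightAcyclic F S.X₁ := fun i hi => by
  let := HasDerivedCategory.standard C
  let := HasDerivedCategory.standard D
  obtain ⟨j, rfl⟩ := Nat.exists_eq_succ_of_ne_zero hi.ne'
  obtain ⟨δ, w₁, w₂, w₃, -, e₂, e₃⟩ := exists_rightDerived_ses F hS j
  refine e₃.isZero_X₂ ?_ ((h₂ (j + 1) (by omega)).eq_of_tgt _ _)
  rcases Nat.eq_zero_or_pos j with rfl | hj
  · have : Epi ((F.rightDerived 0).map S.g) :=
      ((MorphismProperty.epimorphisms D).arrow_mk_iso_iff
        (Arrow.isoOfNatIso F.rightDerivedZeroIsoSelf (Arrow.mk S.g))).2 he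
    exact (cancel_epi ((F.rightDerived 0).map S.g)).1 (w₂.trans comp_zero.symm)
  · exact (h₃ j hj).eq_of_src _ _

omit hS in
lemma isAdapted_isRightAcyclic : IsAdapted F (IsRightAcyclic F) where
  zero Z hZ := fun i _ => (F.rightDerived i).map_isZero hZ
  ses S hS h₁ h₂ := ⟨acyclic₃ hS h₁ h₂, fun _ => shortExact_map_of_subsingleton hS (h₁ 1 one_pos)⟩

end Groth.Agent.TriCat
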