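import Mathlib.Algebra.Homology.DerivedCategory.KInjective
import Mathlib.CategoryTheory.Functor.Derived.RightDerived
import Mathlib.CategoryTheory.Adjunction.PartialAdjoint

/-! Right derived functors from a right adjoint of the localization functor. -/

universe w v v' u u'

open CategoryTheory Category Limits

namespace Groth.Agent.TriCat

variable {C : Type*} [Category C] {D : Type*} [Category D] {H : Type*} [Category H]
  {L : C ⥤ D} {R : D ⥤ C}

section Mates

variable (adj : L ⊣ R) {F : C ⥤ H} {G : D ⥤ H}

/-- The transformation out of `R ⋙ F` attached to `β`. -/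
def descAlong (β : F ⟶ L ⋙ G) : R ⋙ F ⟶ G where
  app Y := β.app (R.obj Y) ≫ G.map (adj.counit.app Y)
  naturality Y Y' f := by
    have n1 : F.map (R.map f) ≫ β.app (R.obj Y') = β.app (R.obj Y) ≫ G.map (L.map (R.map f)) :=
      β.naturality (R.map f)
    have n2 : L.map (R.map f) ≫ adj.counit.app Y' = adj.counit.app Y ≫ f :=
      adj.counit.naturality f
    simp only [Functor.comp_map, assoc]
    rw [reassoc_of% n1, ← G.map_comp, n2, G.map_comp]

lemma descAlong_fac (β : F ⟶ L ⋙ G) (X : C) :
    F.map (adj.unit.app X) ≫ (descAlong adj β).app (L.obj X) = β.app X := by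
  have n1 : F.map (adj.unit.app X) ≫ β.app (R.obj (L.obj X)) =
      β.app X ≫ G.map (L.map (adj.unit.app X)) := β.naturality (adj.unit.app X)
  simp only [descAlong]
  rw [reassoc_of% n1, ← G.map_comp, adj.left_triangle_components, CategoryTheory.Functor.map_id]
  exact comp_id _

lemma descAlong_uniq (β : F ⟶ L ⋙ G) (τ : R ⋙ F ⟶ G)
    (hτ : ∀ X, F.map (adj.unit.app X) ≫ τ.app (L.obj X) = β.app X) : τ = descAlong adj β := by
  ext Y
  have n1 : F.map (R.map (adj.counit.app Y)) ≫ τ.app Y =
      τ.app (L.obj (R.obj Y)) ≫ G.map (adj.counit.app Y) := τ.naturality (adj.counit.app Y)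
  simp only [descAlong]
  rw [← hτ, assoc, ← n1, ← assoc, ← F.map_comp, adj.right_triangle_components]
  exact ((congrArg (fun t => t ≫ τ.app Y) (F.map_id _)).trans (id_comp _)).symm

end Mates

/-- If the localization functor has a right adjoint `R`, then `R ⋙ F` is a derived functor. -/
lemma isRightDerivedFunctor_of_adjunction (adj : L ⊣ R) (W : MorphismProperty C)
    [L.IsLocalization W] (F : C ⥤ H) :
    (R ⋙ F).IsRightDerivedFunctor (L := L)
      (Functor.whiskerRight adj.unit F : F ⟶ L ⋙ R ⋙ F) W := by
  refine ⟨⟨⟨IsInitial.ofUniqueHom (fun E => StructuredArrow.homMk (descAlong adj E.hom) ?_)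
    fun E m => ?_⟩⟩⟩
  · ext X
    exact descAlong_fac adj E.hom X
  · ext1
    exact descAlong_uniq adj E.hom m.right fun X => congr_app (StructuredArrow.w m) X

section

variable {A : Type u} [Category.{v} A] [Abelian A] [HasDerivedCategory.{w} A]

lemma qh_isLeftAdjoint_of_exists_resolution
    (hK : ∀ K : CochainComplex A ℤ,
      ∃ (I : CochainComplex A ℤ) (f : K ⟶ I), I.IsKInjective ∧ QuasiIso f) :
    (DerivedCategory.Qh (C := A)).IsLeftAdjoint := by
  have h : ∀ Y : DerivedCategory A, ∃ (I : CochainComplex A ℤ) (_ : I.IsKInjective),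
      Nonempty (DerivedCategory.Qh.obj ((HomotopyCategory.quotient A _).obj I) ≅ Y) := by
    intro Y
    let K := (DerivedCategory.Q (C := A)).objPreimage Y
    have e : DerivedCategory.Q.obj K ≅ Y := DerivedCategory.Q.objObjPreimageIso Y
    obtain ⟨I, f, hI, hf⟩ := hK K
    exact ⟨I, hI, ⟨(DerivedCategory.quotientCompQhIso A).app I ≪≫
      (asIso (DerivedCategory.Q.map f)).symm ≪≫ e⟩⟩
  choose I hI e using h
  exact (Adjunction.adjunctionOfEquivRight
    (G_obj := fun Y => (HomotopyCategory.quotient A _).obj (I Y))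
    (fun X Y => ((Equiv.ofBijective _ (have := hI Y;
      CochainComplex.IsKInjective.Qh_map_bijective X (I Y))).trans (e Y).some.homToEquiv).symm)
    (fun X' X Y f g => by
      rw [Equiv.symm_apply_eq]
      generalize hu : ((Equiv.ofBijective _ (_ : Function.Bijective
        (DerivedCategory.Qh.map : (X ⟶ (HomotopyCategory.quotient A _).obj (I Y)) → _))).trans
          (e Y).some.homToEquiv).symm g = u
      rw [Equiv.symm_apply_eq] at hu
      subst hu
      simp [Iso.homToEquiv])).isLeftAdjoint

lemma isIso_unit_of_isKInjective {R : DerivedCategory A ⥤ HomotopyCategory A (ComplexShape.up ℤ)}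
    (adj : DerivedCategory.Qh ⊣ R) (I : CochainComplex A ℤ) [I.IsKInjective] :
    IsIso (adj.unit.app ((HomotopyCategory.quotient A _).obj I)) := by
  refine isIso_of_yoneda_map_bijective _ fun X => ?_
  have := (adj.homEquiv X _).bijective.comp (CochainComplex.IsKInjective.Qh_map_bijective X I)
  refine (Function.Bijective.of_comp_iff' (Function.bijective_id) _).1 ?_
  have e : (fun (f : X ⟶ (HomotopyCategory.quotient A (ComplexShape.up ℤ)).obj I) =>
      f ≫ adj.unit.app ((HomotopyCategory.quotient A _).obj I)) =
      (adj.homEquiv X _) ∘ DerivedCategory.Qh.map := by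
    funext f
    simp [Adjunction.homEquiv_unit]
  exact e ▸ this

end

end Groth.Agent.TriCat
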