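import Mathlib.Algebra.Homology.Refinements
import Mathlib.Algebra.Homology.Embedding.CochainComplex
import Mathlib.Algebra.Homology.QuasiIso
import Mathlib.CategoryTheory.Abelian.CommSq
import Mathlib.CategoryTheory.Abelian.Refinements

/-! Resolutions of bounded below complexes by objects in a class with enough monos. -/

universe v u

open CategoryTheory Category Limits HomologicalComplex

namespace Groth.Agent.TriCat

variable {A : Type u} [Category.{v} A] [Abelian A]

/-- Replace the objects of a complex by isomorphic ones. -/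
def congrObj {ι : Type*} {c : ComplexShape ι} (L : HomologicalComplex A c) (Y : ι → A)
    (e : ∀ n, L.X n ≅ Y n) : HomologicalComplex A c where
  X := Y
  d i j := (e i).inv ≫ L.d i j ≫ (e j).hom
  shape i j h := by rw [L.shape i j h, zero_comp, comp_zero]
  d_comp_d' i j k _ _ := by simp

/-- A complex is isomorphic to the one with replaced objects. -/
def congrObjIso {ι : Type*} {c : ComplexShape ι} (L : HomologicalComplex A c) (Y : ι → A)
    (e : ∀ n, L.X n ≅ Y n) : L ≅ congrObj L Y e :=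
  Hom.isoOfComponents e (fun i j _ => by simp [congrObj])

lemma pushout_eq_up_to_refinements {X Y Z : A} (t : X ⟶ Y) (l : X ⟶ Z) {T : A} (y : T ⟶ Y)
    (z : T ⟶ Z) (h : y ≫ pushout.inl t l = z ≫ pushout.inr t l) :
    ∃ (T' : A) (π : T' ⟶ T) (_ : Epi π) (w : T' ⟶ X), π ≫ y = w ≫ t ∧ π ≫ z = w ≫ l := by
  let S := (IsPushout.of_hasPushout t l).shortComplex
  have hS : S.Exact := (IsPushout.of_hasPushout t l).exact_shortComplex
  obtain ⟨T', π, hπ, w, hw⟩ := hS.exact_up_to_refinements (biprod.lift y (-z))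
    (by
      refine biprod.lift_desc.trans ?_
      show y ≫ pushout.inl t l + (-z) ≫ pushout.inr t l = (0 : T ⟶ pushout t l)
      rw [Preadditive.neg_comp, h]
      exact add_neg_cancel _)
  obtain ⟨w, hw'⟩ : ∃ w : T' ⟶ X, π ≫ biprod.lift y (-z) = w ≫ biprod.lift t (-l) := ⟨w, hw⟩
  have h1 := congrArg (· ≫ biprod.fst) hw'
  have h2 := congrArg (· ≫ biprod.snd) hw'
  refine ⟨T', π, hπ, w, ?_, ?_⟩
  · simp only [assoc] at h1
    erw [biprod.lift_fst, biprod.lift_fst] at h1
    exact h1
  · simp only [assoc] at h2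
    erw [biprod.lift_snd, biprod.lift_snd] at h2
    rwa [Preadditive.comp_neg, Preadditive.comp_neg, neg_inj] at h2

namespace Resolve

variable (I : A → Prop) (hI : ∀ X : A, ∃ (Y : A) (ι : X ⟶ Y), I Y ∧ Mono ι)
  (K : CochainComplex A ℤ) (a : ℤ)

/-- The state of the construction in degree `n`: the object `Y`, the monomorphism from `K.X n`,
the cokernel `C` of the incoming differential and the induced map on opcycles. -/
structure Stage (n : ℤ) where
  Y : A
  C : A
  f : K.X n ⟶ Y
  q : Y ⟶ C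
  e : K.opcycles n ⟶ C
  mem : I Y
  mono_f : Mono f
  mono_e : Mono e
  fac : K.pOpcycles n ≫ e = f ≫ q

variable {I K}
variable {n : ℤ}

/-- The pushout from which the next object is built. -/
noncomputable abbrev nextP (s : Stage I K n) (n' : ℤ) : A :=
  pushout (K.fromOpcycles n n') s.e

/-- The next object. -/
noncomputable def nextY (s : Stage I K n) (n' : ℤ) : A := (hI (nextP s n')).choose

/-- The embedding of the pushout in the next object. -/
noncomputable def nextι (s : Stage I K n) (n' : ℤ) : nextP s n' ⟶ nextY hI s n' :=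
  (hI (nextP s n')).choose_spec.choose

lemma nextY_mem (s : Stage I K n) (n' : ℤ) : I (nextY hI s n') :=
  (hI (nextP s n')).choose_spec.choose_spec.1

instance (s : Stage I K n) (n' : ℤ) : Mono (nextι hI s n') :=
  (hI (nextP s n')).choose_spec.choose_spec.2

/-- The map from the degree `n'` part of `K` to the next object. -/
noncomputable def nextF (s : Stage I K n) (n' : ℤ) : K.X n' ⟶ nextY hI s n' :=
  pushout.inl _ _ ≫ nextι hI s n'

/-- The next differential. -/
noncomputable def nextD (s : Stage I K n) (n' : ℤ) : s.Y ⟶ nextY hI s n' :=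
  s.q ≫ pushout.inr _ _ ≫ nextι hI s n'

@[reassoc]
lemma f_nextD (s : Stage I K n) (n' : ℤ) :
    s.f ≫ nextD hI s n' = K.d n n' ≫ nextF hI s n' := by
  rw [nextD, ← assoc, ← s.fac, assoc, ← assoc s.e, ← pushout.condition, assoc,
    HomologicalComplex.p_fromOpcycles_assoc, nextF]

/-- The next stage. -/
noncomputable def next (s : Stage I K n) (n' : ℤ) (h : n + 1 = n') : Stage I K n' where
  Y := nextY hI s n'
  C := cokernel (nextD hI s n')
  f := nextF hI s n'
  q := cokernel.π _
  e := K.descOpcycles (nextF hI s n' ≫ cokernel.π _) n (by simp; omega) (by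
    rw [← assoc, ← f_nextD hI s n', assoc, cokernel.condition, comp_zero])
  mem := nextY_mem hI s n'
  mono_f := by
    have := s.mono_e
    unfold nextF
    infer_instance
  mono_e := by
    have := s.mono_e
    rw [Preadditive.mono_iff_cancel_zero]
    intro T x hx
    obtain ⟨T', π, hπ, y, hy⟩ := surjective_up_to_refinements_of_epi (K.pOpcycles n') x
    rw [← cancel_epi π, comp_zero, hy]
    have hy' : y ≫ nextF hI s n' ≫ cokernel.π (nextD hI s n') = 0 := by
      have := congrArg (π ≫ ·) hx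
      rwa [reassoc_of% hy, HomologicalComplex.p_descOpcycles, comp_zero] at this
    obtain ⟨T'', ρ, hρ, z, hz⟩ := ShortComplex.Exact.exact_up_to_refinements
      (S := ShortComplex.mk (nextD hI s n') (cokernel.π _) (cokernel.condition _))
      (ShortComplex.exact_of_g_is_cokernel _ (cokernelIsCokernel _)) (y ≫ nextF hI s n')
      (by simpa using hy')
    change ρ ≫ y ≫ nextF hI s n' = z ≫ nextD hI s n' at hz
    have hz' : (ρ ≫ y) ≫ pushout.inl (K.fromOpcycles n n') s.e =
        (z ≫ s.q) ≫ pushout.inr (K.fromOpcycles n n') s.e := by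
      rw [← cancel_mono (nextι hI s n')]
      simpa [nextF, nextD] using hz
    obtain ⟨T₃, τ, hτ, w, hw₁, hw₂⟩ := pushout_eq_up_to_refinements _ _ _ _ hz'
    obtain ⟨T₄, σ, hσ, u, hu⟩ := surjective_up_to_refinements_of_epi (K.pOpcycles n) w
    rw [← cancel_epi ρ, ← cancel_epi τ, ← cancel_epi σ]
    simp only [comp_zero]
    rw [reassoc_of% hw₁, reassoc_of% hu, HomologicalComplex.p_fromOpcycles_assoc,
      HomologicalComplex.d_pOpcycles, comp_zero]
  fac := by simp

variable (I K)

include hI in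
lemma base_exists [K.IsStrictlyGE a] (m : ℤ) (hm : a = m) :
    ∃ s : Stage I K m, IsIso s.q := by
  subst hm
  obtain ⟨Y, j, hY, hj⟩ := hI (K.X a)
  have : IsIso (K.pOpcycles a) :=
    K.isIso_pOpcycles (a - 1) a (by simp) ((K.isZero_of_isStrictlyGE a (a - 1) (by omega)).eq_of_src _ _)
  exact ⟨⟨Y, Y, j, 𝟙 Y, inv (K.pOpcycles a) ≫ j, hY, hj, inferInstance, by simp⟩,
    IsIso.id Y⟩

variable [K.IsStrictlyGE a]

/-- The stages. -/
noncomputable def st : ∀ k : ℕ, Stage I K (a + k)
  | 0 => (base_exists I hI K a (a + ((0 : ℕ) : ℤ)) (by simp)).choose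
  | k + 1 => next hI (st k) (a + (k + 1 : ℕ)) (by push_cast; omega)

lemma isIso_st_zero_q : IsIso (st I hI K a 0).q :=
  (base_exists I hI K a (a + ((0 : ℕ) : ℤ)) (by simp)).choose_spec

/-- The differential between consecutive stages. -/
noncomputable def stepD (k : ℕ) : (st I hI K a k).Y ⟶ (st I hI K a (k + 1)).Y :=
  nextD hI (st I hI K a k) (a + (k + 1 : ℕ))

@[reassoc]
lemma f_stepD (k : ℕ) : (st I hI K a k).f ≫ stepD I hI K a k =
    K.d (a + k) (a + (k + 1 : ℕ)) ≫ (st I hI K a (k + 1)).f :=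
  f_nextD hI (st I hI K a k) _

@[reassoc]
lemma stepD_q (k : ℕ) : stepD I hI K a k ≫ (st I hI K a (k + 1)).q = 0 :=
  cokernel.condition _

lemma stepD_exact (k : ℕ) : (ShortComplex.mk _ _ (stepD_q I hI K a k)).Exact :=
  ShortComplex.exact_of_g_is_cokernel _
    (cokernelIsCokernel (nextD hI (st I hI K a k) (a + (k + 1 : ℕ))))

lemma comp_inr_eq_zero_of_stepD (k : ℕ) {T : A} (y : T ⟶ (st I hI K a k).Y)
    (h : y ≫ stepD I hI K a k = 0) : (y ≫ (st I hI K a k).q) ≫
      pushout.inr (K.fromOpcycles (a + k) (a + (k + 1 : ℕ))) (st I hI K a k).e = 0 := by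
  rw [← cancel_mono (nextι hI (st I hI K a k) (a + (k + 1 : ℕ))), zero_comp, assoc, assoc]
  exact h

/-- The resolution, indexed by natural numbers. -/
noncomputable def Lnat : CochainComplex A ℕ :=
  CochainComplex.of (fun k => (st I hI K a k).Y)
    (stepD I hI K a) (fun k => by
      refine (stepD_q_assoc I hI K a k _).trans ?_
      exact zero_comp)

lemma Lnat_d (k : ℕ) :
    (Lnat I hI K a).d k (k + 1) = stepD I hI K a k :=
  by simp [Lnat]

/-- The resolution. -/
noncomputable def L : CochainComplex A ℤ :=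
  (Lnat I hI K a).extend (ComplexShape.embeddingUpIntGE a)

instance : (L I hI K a).IsStrictlyGE a :=
  inferInstanceAs (HomologicalComplex.IsStrictlySupported
    ((Lnat I hI K a).extend (ComplexShape.embeddingUpIntGE a)) (ComplexShape.embeddingUpIntGE a))

/-- The objects of the resolution in degrees at least `a`. -/
noncomputable def xIso (k : ℕ) (n : ℤ) (h : a + k = n) : (L I hI K a).X n ≅ (st I hI K a k).Y :=
  (Lnat I hI K a).extendXIso (ComplexShape.embeddingUpIntGE a) h

lemma L_d (k : ℕ) (n n' : ℤ) (h : a + k = n) (h' : a + (k + 1 : ℕ) = n') :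
    (L I hI K a).d n n' = (xIso I hI K a k n h).hom ≫
      stepD I hI K a k ≫ (xIso I hI K a (k + 1) n' h').inv := by
  rw [← Lnat_d I hI K a k]
  exact HomologicalComplex.extend_d_eq (Lnat I hI K a) (ComplexShape.embeddingUpIntGE a) h h'

open Classical in
/-- The components of the comparison map. -/
noncomputable def αf (n : ℤ) : K.X n ⟶ (L I hI K a).X n :=
  if h : ∃ k : ℕ, a + k = n then
    eqToHom (by rw [h.choose_spec]) ≫ (st I hI K a h.choose).f ≫
      (xIso I hI K a h.choose n h.choose_spec).inv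
  else 0

lemma αf_eq (k : ℕ) : αf I hI K a (a + k) =
    (st I hI K a k).f ≫ (xIso I hI K a k (a + k) rfl).inv := by
  have h : ∃ k' : ℕ, a + k' = a + k := ⟨k, rfl⟩
  rw [αf, dif_pos h]
  have : ∀ (k' : ℕ) (hk' : a + k' = a + (k : ℤ)), eqToHom (by rw [hk']) ≫ (st I hI K a k').f ≫
      (xIso I hI K a k' (a + k) hk').inv = (st I hI K a k).f ≫ (xIso I hI K a k (a + k) rfl).inv := by
    intro k' hk'
    obtain rfl : k' = k := by omega
    simp
  exact this _ h.choose_spec

/-- The comparison map. -/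
noncomputable def α : K ⟶ L I hI K a where
  f := αf I hI K a
  comm' i j hij := by
    obtain rfl : i + 1 = j := hij
    by_cases h : a ≤ i
    · obtain ⟨k, rfl⟩ : ∃ k : ℕ, a + k = i := ⟨(i - a).toNat, by omega⟩
      obtain ⟨j, hj⟩ : ∃ j : ℤ, a + (k : ℤ) + 1 = j := ⟨_, rfl⟩
      rw [hj]
      obtain rfl : a + ((k + 1 : ℕ) : ℤ) = j := by push_cast; omega
      rw [αf_eq, αf_eq, L_d I hI K a k (a + k) (a + (k + 1 : ℕ)) rfl rfl, assoc,
        Iso.inv_hom_id_assoc, f_stepD_assoc]
    · exact (K.isZero_of_isStrictlyGE a i (by omega)).eq_of_src _ _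

lemma mono_αf (n : ℤ) : Mono (αf I hI K a n) := by
  by_cases h : a ≤ n
  · obtain ⟨k, rfl⟩ : ∃ k : ℕ, a + k = n := ⟨(n - a).toNat, by omega⟩
    rw [αf_eq]
    have := (st I hI K a k).mono_f
    infer_instance
  · exact ⟨fun _ _ _ => (K.isZero_of_isStrictlyGE a n (by omega)).eq_of_tgt _ _⟩

/-- Boundaries in degree `a + k` are killed by `q`, and conversely. -/
lemma comp_q_eq_zero_iff (k : ℕ) {T : A} (y : T ⟶ (st I hI K a k).Y) :
    y ≫ (st I hI K a k).q = 0 ↔ ∃ (T' : A) (π : T' ⟶ T) (_ : Epi π)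
      (z : T' ⟶ (L I hI K a).X (a + k - 1)),
      π ≫ y ≫ (xIso I hI K a k (a + k) rfl).inv = z ≫ (L I hI K a).d (a + k - 1) (a + k) := by
  cases k with
  | zero =>
    have := isIso_st_zero_q I hI K a
    constructor
    · intro h
      have : y = 0 := by rw [← cancel_mono (st I hI K a 0).q, h, zero_comp]
      exact ⟨T, 𝟙 T, inferInstance, 0, by simp [this]⟩
    · rintro ⟨T', π, hπ, z, hz⟩
      have h0 : IsZero ((L I hI K a).X (a + ((0 : ℕ) : ℤ) - 1)) :=
        (L I hI K a).isZero_of_isStrictlyGE a _ (by simp)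
      rw [h0.eq_of_tgt z 0, zero_comp, ← assoc, Preadditive.IsIso.comp_right_eq_zero] at hz
      rw [← cancel_epi π, reassoc_of% hz, zero_comp, comp_zero]
  | succ k =>
    have hd := L_d I hI K a k (a + (k + 1 : ℕ) - 1) (a + (k + 1 : ℕ)) (by push_cast; omega) rfl
    rw [hd]
    constructor
    · intro h
      obtain ⟨T', π, hπ, z, hz⟩ := (stepD_exact I hI K a k).exact_up_to_refinements y h
      dsimp at hz
      refine ⟨T', π, hπ, z ≫ (xIso I hI K a k _ (by push_cast; omega)).inv, ?_⟩
      rw [assoc, Iso.inv_hom_id_assoc, reassoc_of% hz]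
    · rintro ⟨T', π, hπ, z, hz⟩
      simp only [← assoc, cancel_mono] at hz
      rw [← cancel_epi π, comp_zero, ← assoc, hz, assoc]
      rw [stepD_q, comp_zero]

lemma quasiIsoAt_α (n : ℤ) : QuasiIsoAt (α I hI K a) n := by
  by_cases h : a ≤ n
  swap
  · rw [quasiIsoAt_iff_exactAt]
    · exact (ShortComplex.exact_of_isZero_X₂ ((L I hI K a).sc n)
        ((L I hI K a).isZero_of_isStrictlyGE a n (by omega)))
    · exact ShortComplex.exact_of_isZero_X₂ (K.sc n) (K.isZero_of_isStrictlyGE a n (by omega))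
  obtain ⟨k, rfl⟩ : ∃ k : ℕ, a + k = n := ⟨(n - a).toNat, by omega⟩
  have := (st I hI K a k).mono_e
  have hn' : a + (k : ℤ) + 1 = a + ((k + 1 : ℕ) : ℤ) := by push_cast; omega
  rw [quasiIsoAt_iff_isIso_homologyMap]
  have : Mono (homologyMap (α I hI K a) (a + k)) := by
    rw [mono_homologyMap_iff_up_to_refinements _ (a + k - 1) (a + k) (a + (k + 1 : ℕ))
      (by simp) (by simp; omega)]
    intro T x hx y hy
    have h1 : (x ≫ (st I hI K a k).f) ≫ (st I hI K a k).q = 0 := by
      refine (comp_q_eq_zero_iff I hI K a k _).2 ⟨T, 𝟙 T, inferInstance, y, ?_⟩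
      simpa [α, αf_eq] using hy
    rw [assoc, ← (st I hI K a k).fac, ← assoc] at h1
    have h2 : x ≫ K.pOpcycles (a + k) = 0 := zero_of_comp_mono _ h1
    exact (comp_pOpcycles_eq_zero_iff_up_to_refinements K x (a + k - 1) (by simp)).1 h2
  have : Epi (homologyMap (α I hI K a) (a + k)) := by
    rw [epi_homologyMap_iff_up_to_refinements _ (a + k - 1) (a + k) (a + (k + 1 : ℕ))
      (by simp) (by simp; omega)]
    intro T y hy
    let y' := y ≫ (xIso I hI K a k (a + k) rfl).hom
    rw [L_d I hI K a k (a + k) (a + (k + 1 : ℕ)) rfl rfl] at hy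
    have hy' := comp_inr_eq_zero_of_stepD I hI K a k y' (by
      rw [← cancel_mono (xIso I hI K a (k + 1) (a + (k + 1 : ℕ)) rfl).inv, zero_comp]
      simpa [y'] using hy)
    obtain ⟨T₁, π₁, hπ₁, w, hw1, hw3⟩ := pushout_eq_up_to_refinements
      (K.fromOpcycles (a + k) (a + (k + 1 : ℕ))) (st I hI K a k).e 0 (y' ≫ (st I hI K a k).q)
      (by rw [hy', zero_comp])
    rw [comp_zero] at hw1
    obtain ⟨T₂, π₂, hπ₂, x, hx⟩ := surjective_up_to_refinements_of_epi (K.pOpcycles (a + k)) w
    have hxd : x ≫ K.d (a + k) (a + (k + 1 : ℕ)) = 0 := by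
      rw [← HomologicalComplex.p_fromOpcycles, ← reassoc_of% hx, ← hw1, comp_zero]
    have h1 : ((π₂ ≫ π₁) ≫ y' - x ≫ (st I hI K a k).f) ≫ (st I hI K a k).q = 0 := by
      simp only [Preadditive.sub_comp, assoc, ← (st I hI K a k).fac, hw3, reassoc_of% hx,
        sub_self]
    obtain ⟨T₃, π₃, hπ₃, z, hz⟩ := (comp_q_eq_zero_iff I hI K a k _).1 h1
    refine ⟨T₃, π₃ ≫ π₂ ≫ π₁, inferInstance, π₃ ≫ x, by rw [assoc, hxd, comp_zero], z, ?_⟩
    simp only [y', Preadditive.sub_comp, Preadditive.comp_sub, assoc, Iso.hom_inv_id, comp_id,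
      sub_eq_iff_eq_add] at hz
    simp only [α, αf_eq, assoc]
    rw [hz]
    abel
  exact isIso_of_mono_of_epi _

end Resolve

/-- A bounded below complex has a termwise mono quasi-isomorphism into a complex with terms in a
class with enough monomorphisms. -/
lemma exists_quasiIso_resolution (I : A → Prop) (hI0 : ∃ Z : A, IsZero Z ∧ I Z)
    (hI : ∀ X : A, ∃ (Y : A) (ι : X ⟶ Y), I Y ∧ Mono ι) (K : CochainComplex A ℤ) (a : ℤ)
    [K.IsStrictlyGE a] :
    ∃ (L : CochainComplex A ℤ) (α : K ⟶ L), L.IsStrictlyGE a ∧ (∀ n, I (L.X n)) ∧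
      (∀ n, Mono (α.f n)) ∧ QuasiIso α := by
  classical
  obtain ⟨Z, hZ, hIZ⟩ := hI0
  let L₀ := Resolve.L I hI K a
  let Y : ℤ → A := fun n => if h : ∃ k : ℕ, a + k = n then (Resolve.st I hI K a h.choose).Y else Z
  have hY : ∀ n, Nonempty (L₀.X n ≅ Y n) ∧ I (Y n) := fun n => by
    by_cases h : ∃ k : ℕ, a + k = n
    · have hY : Y n = (Resolve.st I hI K a h.choose).Y := dif_pos h
      rw [hY]
      exact ⟨⟨Resolve.xIso I hI K a h.choose n h.choose_spec⟩, (Resolve.st I hI K a h.choose).mem⟩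
    · have hY : Y n = Z := dif_neg h
      rw [hY]
      exact ⟨⟨IsZero.iso (L₀.isZero_of_isStrictlyGE a n
        (lt_of_not_ge fun hn => h ⟨(n - a).toNat, by omega⟩)) hZ⟩, hIZ⟩
  let e := congrObjIso L₀ Y (fun n => (hY n).1.some)
  have : QuasiIso (Resolve.α I hI K a) := ⟨Resolve.quasiIsoAt_α I hI K a⟩
  refine ⟨_, Resolve.α I hI K a ≫ e.hom,
    CochainComplex.isStrictlyGE_of_iso e a, fun n => (hY n).2, fun n => ?_, inferInstance⟩
  have := Resolve.mono_αf I hI K a n
  rw [HomologicalComplex.comp_f]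
  exact mono_comp (Resolve.αf I hI K a n) (e.hom.f n)

end Groth.Agent.TriCat
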