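import Groth.Agent.TriCat.DerivedOfAdjunction
import Mathlib.Algebra.Homology.HomologicalComplexLimits
import Mathlib.CategoryTheory.Monad.Limits
import Mathlib.CategoryTheory.Localization.Adjunction
import Mathlib.CategoryTheory.Adjunction.FullyFaithful
import Mathlib.CategoryTheory.Limits.Preserves.Shapes.Products

/-! Products in the homotopy category and in the derived category with K-injective resolutions. -/

universe t w v u

open CategoryTheory Category Limits

namespace Groth.Agent.TriCat

variable {A : Type u} [Category.{v} A] {J : Type t}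

section

variable [Preadditive A] [HasLimitsOfShape (Discrete J) A]

/-- Homotopies into a product can be built componentwise. -/
lemma quotient_hom_ext_pi {K : CochainComplex A ℤ} {L : J → CochainComplex A ℤ}
    (f g : K ⟶ ∏ᶜ L) (h : ∀ j, (HomotopyCategory.quotient A (ComplexShape.up ℤ)).map (f ≫ Pi.π L j) =
      (HomotopyCategory.quotient A (ComplexShape.up ℤ)).map (g ≫ Pi.π L j)) :
    (HomotopyCategory.quotient A (ComplexShape.up ℤ)).map f =
      (HomotopyCategory.quotient A (ComplexShape.up ℤ)).map g := by
  let hj := fun j => HomotopyCategory.homotopyOfEq _ _ (h j)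
  have hlim : ∀ n, IsLimit (Fan.mk ((∏ᶜ L).X n) fun j => (Pi.π L j).f n) := fun n =>
    isLimitFanMkObjOfIsLimit (HomologicalComplex.eval A (ComplexShape.up ℤ) n) L (Pi.π L)
      (productIsProduct L)
  refine HomotopyCategory.eq_of_homotopy _ _
    { hom := fun i i' => Fan.IsLimit.lift (hlim i') fun j => (hj j).hom i i'
      zero := fun i i' hii' => Fan.IsLimit.hom_ext (hlim i') _ _ fun j => by
        rw [Fan.IsLimit.fac, zero_comp, (hj j).zero i i' hii']
      comm := fun i => Fan.IsLimit.hom_ext (hlim i) _ _ fun j => ?_ }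
  have hc := (hj j).comm i
  change f.f i ≫ (Pi.π L j).f i = _
  rw [← HomologicalComplex.comp_f, hc]
  change _ = (_ + g.f i) ≫ (Pi.π L j).f i
  rw [Preadditive.add_comp, HomologicalComplex.comp_f]
  congr 1
  have hfac : ∀ a b, Fan.IsLimit.lift (hlim b) (fun j => (hj j).hom a b) ≫ (Pi.π L j).f b =
      (hj j).hom a b := fun a b => Fan.IsLimit.fac (hlim b) (fun j => (hj j).hom a b) j
  rw [Preadditive.add_comp, ← dNext_comp_right, ← prevD_comp_right]
  simp only [hfac]

variable (A J) in
/-- The homotopy category has the products which exist in the category. -/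
lemma hasProductsOfShape_homotopyCategory :
    HasLimitsOfShape (Discrete J) (HomotopyCategory A (ComplexShape.up ℤ)) := by
  suffices ∀ Y : J → HomotopyCategory A (ComplexShape.up ℤ), HasProduct Y from
    ⟨fun F => by
      have := this (fun j => F.obj ⟨j⟩)
      exact hasLimit_of_iso (Discrete.natIsoFunctor (F := F)).symm⟩
  intro Y
  let q := HomotopyCategory.quotient A (ComplexShape.up ℤ)
  choose L hL using fun j => HomotopyCategory.quotient_obj_surjective (Y j)
  obtain rfl : Y = fun j => q.obj (L j) := funext fun j => (hL j).symm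
  have hlift : ∀ (s : Fan fun j => q.obj (L j)), ∃ l : s.pt ⟶ q.obj (∏ᶜ L),
      (∀ j, l ≫ q.map (Pi.π L j) = s.proj j) ∧
        ∀ m : s.pt ⟶ q.obj (∏ᶜ L), (∀ j, m ≫ q.map (Pi.π L j) = s.proj j) → m = l := by
    rintro s
    obtain ⟨K, hK⟩ := HomotopyCategory.quotient_obj_surjective s.pt
    let e : q.obj K ≅ s.pt := eqToIso hK
    choose f hf using fun j => q.map_surjective (e.hom ≫ s.proj j)
    refine ⟨e.inv ≫ q.map (Pi.lift f), fun j => ?_, fun m hm => ?_⟩
    · rw [assoc, ← q.map_comp, Pi.lift_π, hf, e.inv_hom_id_assoc]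
    · obtain ⟨g, hg⟩ := q.map_surjective (e.hom ≫ m)
      rw [Iso.eq_inv_comp, ← hg]
      refine quotient_hom_ext_pi _ _ fun j => ?_
      show q.map _ = q.map _
      rw [q.map_comp, hg, Pi.lift_π, hf, assoc, hm]
  exact ⟨⟨⟨Fan.mk (q.obj (∏ᶜ L)) fun j => q.map (Pi.π L j), Fan.IsLimit.mk _
    (fun s => (hlift s).choose) (fun s j => (hlift s).choose_spec.1 j)
    (fun s m hm => (hlift s).choose_spec.2 m hm)⟩⟩⟩

end

variable [Abelian A] [HasDerivedCategory.{w} A] [HasLimitsOfShape (Discrete J) A]

/-- With K-injective resolutions the derived category has products. -/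
lemma hasProductsOfShape_derivedCategory
    (hK : ∀ K : CochainComplex A ℤ,
      ∃ (I : CochainComplex A ℤ) (f : K ⟶ I), I.IsKInjective ∧ QuasiIso f) :
    HasLimitsOfShape (Discrete J) (DerivedCategory A) := by
  have := qh_isLeftAdjoint_of_exists_resolution hK
  let adj := Adjunction.ofIsLeftAdjoint (DerivedCategory.Qh (C := A))
  let R := Functor.rightAdjoint (DerivedCategory.Qh (C := A))
  have hc : ∀ Y, IsIso (adj.counit.app Y) := by
    intro Y
    let K := (DerivedCategory.Q (C := A)).objPreimage Y
    have e : DerivedCategory.Q.obj K ≅ Y := DerivedCategory.Q.objObjPreimageIso Y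
    obtain ⟨I, f, hI, hf⟩ := hK K
    let e' : DerivedCategory.Qh.obj ((HomotopyCategory.quotient A _).obj I) ≅ Y :=
      (DerivedCategory.quotientCompQhIso A).app I ≪≫
        (asIso (DerivedCategory.Q.map f)).symm ≪≫ e
    have := isIso_unit_of_isKInjective adj I
    have h1 : IsIso (adj.counit.app (DerivedCategory.Qh.obj ((HomotopyCategory.quotient A _).obj I))) :=
      @IsIso.of_isIso_fac_left _ _ _ _ _ _ _ _ (inferInstance) (inferInstanceAs (IsIso (𝟙 _)))
        (adj.left_triangle_components _)
    have h2 : IsIso (DerivedCategory.Qh.map (R.map e'.hom) ≫ adj.counit.app Y) := by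
      have := adj.counit.naturality e'.hom
      rw [show DerivedCategory.Qh.map (R.map e'.hom) ≫ adj.counit.app Y = _ from this]
      infer_instance
    exact IsIso.of_isIso_comp_left (DerivedCategory.Qh.map (R.map e'.hom)) _
  have : IsIso adj.counit := NatIso.isIso_of_isIso_app _
  have hR : R.FullyFaithful := adj.fullyFaithfulROfIsIsoCounit
  have := hR.full
  have := hR.faithful
  have : Reflective R := { L := DerivedCategory.Qh, adj := adj }
  have := hasProductsOfShape_homotopyCategory A J
  exact hasLimitsOfShape_of_reflective R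

end Groth.Agent.TriCat
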