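import Groth.Agent.TriCat.BrownRep
import Mathlib.CategoryTheory.Limits.Preserves.Opposites

/-! Brown representability for compactly generated categories and its consequences. -/

universe w v u u'

open CategoryTheory Category Limits Opposite Pretriangulated DerLim
open Pretriangulated.Opposite

namespace Groth.Agent.TriCat

variable {D : Type u} [Category.{v} D] [Preadditive D] [HasShift D ℤ] {ι : Type w}

/-- All shifts of a family. -/
noncomputable abbrev shiftClosure (E : ι → D) : ι × ℤ → D := fun p => (E p.1)⟦p.2⟧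

lemma shiftClosure_stable (E : ι → D) (p : ι × ℤ) :
    ∃ q, Nonempty (shiftClosure E q ≅ (shiftClosure E p)⟦(-1 : ℤ)⟧) :=
  ⟨(p.1, p.2 + -1), ⟨(shiftFunctorAdd' D p.2 (-1) (p.2 + -1) rfl).app (E p.1)⟩⟩

variable [∀ n : ℤ, (shiftFunctor D n).Additive]

lemma countPerfect_shiftClosure [HasColimitsOfShape (Discrete ℕ) D] {E : ι → D}
    (h2 : CountPerfect E) : CountPerfect (shiftClosure E) := by
  rintro X ⟨i, n⟩ α
  let adj : shiftFunctor D n ⊣ shiftFunctor D (-n) := (shiftEquiv D n).toAdjunction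
  let G := shiftFunctor D (-n)
  let c := sigmaComparison G X
  obtain ⟨j, β, γ, hγ⟩ := h2 (fun k => G.obj (X k)) i (adj.homEquiv _ _ α ≫ inv c)
  let d : (∐ fun k => E (j k)) ⟶ G.obj (∐ fun k => (E (j k))⟦n⟧) :=
    Sigma.desc fun k => adj.unit.app (E (j k)) ≫ G.map (Sigma.ι (fun k => (E (j k))⟦n⟧) k)
  refine ⟨fun k => (j k, n), fun k => (adj.homEquiv _ _).symm (β k),
    (adj.homEquiv _ _).symm (γ ≫ d), ?_⟩
  rw [← adj.homEquiv_naturality_right_symm, Equiv.eq_symm_apply]
  have : d ≫ G.map (Limits.Sigma.map fun k => (adj.homEquiv _ _).symm (β k)) =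
      Limits.Sigma.map β ≫ c := by
    ext k
    simp only [d, c, Sigma.ι_desc_assoc, assoc, Limits.Sigma.ι_map_assoc, ι_comp_sigmaComparison,
      ← Functor.map_comp, Limits.Sigma.ι_map]
    rw [Functor.map_comp, ← assoc, ← Adjunction.homEquiv_unit, Equiv.apply_symm_apply]
  rw [assoc, this, ← assoc, ← hγ]
  simp

variable [HasZeroObject D] [Pretriangulated D]

lemma countPerfect_of_compact [HasCoproducts.{v} D] [HasColimitsOfShape (Discrete ℕ) D]
    {E : ι → D} (hc : ∀ i, CohDer.IsCompactObject (E i)) : CountPerfect E := by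
  classical
  intro X i α
  obtain ⟨s, a, rfl⟩ := finFactor_of_isCompactObject (hc i) α
  exact ⟨fun _ => i, a, ∑ k ∈ s, Sigma.ι (fun _ : ℕ => E i) k, by simp [Preadditive.sum_comp]⟩

lemma isZero_of_generates {E : ι → D} (hg : CohDer.Generates E) (X : D)
    (h : ∀ (p : ι × ℤ) (f : shiftClosure E p ⟶ X), f = 0) : IsZero X := by
  refine hg X fun i n f => ?_
  let adj : shiftFunctor D (-n) ⊣ shiftFunctor D n := (shiftEquiv D n).symm.toAdjunction
  rw [← (adj.homEquiv (E i) X).apply_symm_apply f,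
    show (adj.homEquiv (E i) X).symm f = 0 from h (i, -n) _, Adjunction.homEquiv_unit]
  simp

lemma isZero_of_detects {E : ι → D} (h1 : ∀ X : D, ¬ IsZero X → ∃ (i : ι) (f : E i ⟶ X), f ≠ 0)
    (X : D) (h : ∀ (p : ι × ℤ) (f : shiftClosure E p ⟶ X), f = 0) : IsZero X := by
  by_contra hX
  obtain ⟨i, f, hf⟩ := h1 X hX
  refine hf ?_
  rw [← cancel_epi ((shiftFunctorZero D ℤ).hom.app (E i))]
  exact (h (i, 0) _).trans comp_zero.symm

variable [HasCoproducts.{v} D]

theorem isRepresentable_of_detects {κ : Type v} (E : κ → D)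
    (h1 : ∀ X : D, ¬ IsZero X → ∃ (i : κ) (f : E i ⟶ X), f ≠ 0)
    (h2 : ∀ [HasColimitsOfShape (Discrete ℕ) D], CountPerfect E)
    (H : Dᵒᵖ ⥤ AddCommGrpCat.{v}) [H.IsHomological]
    [∀ τ : Type v, PreservesLimitsOfShape (Discrete τ) H] :
    (H ⋙ forget AddCommGrpCat.{v}).IsRepresentable :=
  isRepresentable_of_countPerfect (shiftClosure E) H (countPerfect_shiftClosure h2)
    (shiftClosure_stable E) (isZero_of_detects h1)

theorem isRepresentable_of_isCompactlyGenerated (hD : CohDer.IsCompactlyGenerated D)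
    (H : Dᵒᵖ ⥤ AddCommGrpCat.{v}) [H.IsHomological]
    [∀ τ : Type v, PreservesLimitsOfShape (Discrete τ) H] :
    (H ⋙ forget AddCommGrpCat.{v}).IsRepresentable := by
  obtain ⟨κ, E, hc, hg⟩ := hD
  exact isRepresentable_of_countPerfect (shiftClosure E) H
    (countPerfect_shiftClosure (countPerfect_of_compact hc)) (shiftClosure_stable E)
    (isZero_of_generates hg)

section Adjoint

variable {D' : Type u'} [Category.{v} D'] [Preadditive D'] [HasZeroObject D'] [HasShift D' ℤ]
  [∀ n : ℤ, (shiftFunctor D' n).Additive] [Pretriangulated D']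
  (F : D ⥤ D') [F.CommShift ℤ] [F.IsTriangulated]
  [∀ τ : Type v, PreservesColimitsOfShape (Discrete τ) F]

/-- The cohomological functor `Hom(F -, Y)`. -/
noncomputable abbrev homInto (Y : D') : Dᵒᵖ ⥤ AddCommGrpCat.{v} := F.op ⋙ preadditiveYoneda.obj Y

omit [HasCoproducts.{v} D] [∀ τ : Type v, PreservesColimitsOfShape (Discrete τ) F] in
lemma isHomological_homInto (Y : D') : (homInto F Y).IsHomological where
  exact T hT := by
    rw [ShortComplex.ab_exact_iff]
    intro (x₂ : F.obj T.obj₂.unop ⟶ Y) (hx₂ : F.map T.mor₂.unop ≫ x₂ = 0)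
    obtain ⟨x₃, hx₃⟩ := Triangle.yoneda_exact₂ _
      (F.map_distinguished _ (unop_distinguished T hT)) x₂ hx₂
    exact ⟨x₃, hx₃.symm⟩

omit [HasCoproducts.{v} D] in
lemma preservesLimits_homInto (Y : D') (τ : Type v) :
    PreservesLimitsOfShape (Discrete τ) (homInto F Y) := by
  have : PreservesColimitsOfShape (Discrete τ)ᵒᵖ F :=
    preservesColimitsOfShape_of_equiv (Discrete.opposite τ).symm F
  have : PreservesLimitsOfShape (Discrete τ) F.op := preservesLimitsOfShape_op _ F
  have : PreservesLimitsOfShape (Discrete τ)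
      (preadditiveYoneda.obj Y ⋙ forget AddCommGrpCat.{v}) :=
    inferInstanceAs (PreservesLimitsOfShape (Discrete τ) (yoneda.obj Y))
  have : PreservesLimitsOfShape (Discrete τ) (preadditiveYoneda.obj Y) :=
    preservesLimitsOfShape_of_reflects_of_preserves _ (forget AddCommGrpCat.{v})
  exact inferInstanceAs (PreservesLimitsOfShape (Discrete τ) (F.op ⋙ preadditiveYoneda.obj Y))

theorem isLeftAdjoint_of_representable
    (h : ∀ (H : Dᵒᵖ ⥤ AddCommGrpCat.{v}) [H.IsHomological]
      [∀ τ : Type v, PreservesLimitsOfShape (Discrete τ) H],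
      (H ⋙ forget AddCommGrpCat.{v}).IsRepresentable) : F.IsLeftAdjoint := by
  refine F.isLeftAdjoint_of_rightAdjointObjIsDefined_eq_top ?_
  ext Y
  simp only [Pi.top_apply, Prop.top_eq_true, iff_true]
  have := isHomological_homInto F Y
  have := preservesLimits_homInto F Y
  exact h (homInto F Y)

end Adjoint

end Groth.Agent.TriCat
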