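import Mathlib.Algebra.Homology.GrothendieckAbelian
import Mathlib.Algebra.Homology.QuasiIso
import Mathlib.Algebra.Homology.Refinements
import Mathlib.CategoryTheory.Abelian.GrothendieckAxioms.Colim
import Mathlib.CategoryTheory.Abelian.FunctorCategory
import Mathlib.CategoryTheory.Limits.Preserves.Shapes.Kernels
import Mathlib.Algebra.Homology.ShortComplex.PreservesHomology
import Mathlib.Algebra.Homology.ShortComplex.ExactFunctor

/-! Exact colimits of quasi-isomorphisms. -/

universe t t' v u

open CategoryTheory Category Limits

namespace Groth.Agent.TriCat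

variable {A : Type u} [Category.{v} A] [Abelian A]
  {I : Type t} [Category.{t'} I] [HasColimitsOfShape I A] [HasExactColimitsOfShape I A]

/-- The differential as a natural transformation between evaluations. -/
@[simps]
def dNat (m n : ℤ) : HomologicalComplex.eval A (ComplexShape.up ℤ) m ⟶
    HomologicalComplex.eval A (ComplexShape.up ℤ) n where
  app K := K.d m n
  naturality _ _ f := (f.comm m n)

/-- The short complex of functors associated to a diagram of complexes. -/
noncomputable def scFunctor (i : ℤ) :
    (I ⥤ CochainComplex A ℤ) ⥤ ShortComplex (I ⥤ A) where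
  obj F := ShortComplex.mk
    (Functor.whiskerLeft F (dNat ((ComplexShape.up ℤ).prev i) i))
    (Functor.whiskerLeft F (dNat i ((ComplexShape.up ℤ).next i)))
    (by ext j; exact (F.obj j).d_comp_d _ _ _)
  map f :=
    { τ₁ := Functor.whiskerRight f _
      τ₂ := Functor.whiskerRight f _
      τ₃ := Functor.whiskerRight f _
      comm₁₂ := by ext j; exact (f.app j).comm _ _
      comm₂₃ := by ext j; exact (f.app j).comm _ _ }

variable {F G : I ⥤ CochainComplex A ℤ} {c : Cocone F} {c' : Cocone G}

/-- The comparison map to the colimit in degree `n`. -/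
noncomputable def colimEvalIso (hc : IsColimit c) (n : ℤ) :
    colimit (F ⋙ HomologicalComplex.eval A (ComplexShape.up ℤ) n) ≅ c.pt.X n :=
  (colimit.isColimit _).coconePointUniqueUpToIso
    (isColimitOfPreserves (HomologicalComplex.eval A (ComplexShape.up ℤ) n) hc)

@[reassoc (attr := simp)]
lemma ι_colimEvalIso_hom (hc : IsColimit c) (n : ℤ) (j : I) :
    colimit.ι (F ⋙ HomologicalComplex.eval A (ComplexShape.up ℤ) n) j ≫
      (colimEvalIso hc n).hom = (c.ι.app j).f n :=
  IsColimit.comp_coconePointUniqueUpToIso_hom (colimit.isColimit _)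
    (isColimitOfPreserves (HomologicalComplex.eval A (ComplexShape.up ℤ) n) hc) j

lemma colimEvalIso_d (hc : IsColimit c) (m n : ℤ) :
    (colimEvalIso hc m).hom ≫ c.pt.d m n =
      colimMap (Functor.whiskerLeft F (dNat m n)) ≫ (colimEvalIso hc n).hom := by
  refine colimit.hom_ext fun j => ?_
  rw [ι_colimEvalIso_hom_assoc, ι_colimMap_assoc, ι_colimEvalIso_hom]
  exact (c.ι.app j).comm m n

/-- The short complex of a colimit of complexes. -/
noncomputable def colimScIso (hc : IsColimit c) (i : ℤ) :
    (colim (J := I) (C := A)).mapShortComplex.obj ((scFunctor i).obj F) ≅ c.pt.sc i :=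
  ShortComplex.isoMk (colimEvalIso hc _) (colimEvalIso hc _) (colimEvalIso hc _)
    (colimEvalIso_d hc _ _) (colimEvalIso_d hc _ _)

/-- An exact colimit of quasi-isomorphisms is a quasi-isomorphism. -/
lemma quasiIso_of_isColimit (hc : IsColimit c) (hc' : IsColimit c') (f : F ⟶ G)
    (hf : ∀ j, QuasiIso (f.app j)) (φ : c.pt ⟶ c'.pt)
    (hφ : ∀ j, c.ι.app j ≫ φ = f.app j ≫ c'.ι.app j) : QuasiIso φ := by
  refine ⟨fun i => ?_⟩
  have h0 : ShortComplex.QuasiIso ((scFunctor i).map f) := by
    rw [ShortComplex.quasiIso_iff]
    have : ∀ j, IsIso ((ShortComplex.homologyMap ((scFunctor i).map f)).app j) := by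
      intro j
      let E := (evaluation I A).obj j
      have h1 : IsIso (ShortComplex.homologyMap (E.mapShortComplex.map ((scFunctor i).map f))) := by
        rw [← ShortComplex.quasiIso_iff]
        exact ((quasiIsoAt_iff (f.app j) i).1 ((hf j).quasiIsoAt i))
      have h2 := ShortComplex.mapHomologyIso_hom_naturality ((scFunctor i).map f) E
      show IsIso (E.map (ShortComplex.homologyMap ((scFunctor i).map f)))
      have h3 : IsIso ((((scFunctor i).obj F).mapHomologyIso E).hom ≫
          E.map (ShortComplex.homologyMap ((scFunctor i).map f))) := by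
        rw [← h2]; exact IsIso.comp_isIso' h1 inferInstance
      exact IsIso.of_isIso_comp_left (((scFunctor i).obj F).mapHomologyIso E).hom _
    exact NatIso.isIso_of_isIso_app _
  have hcol : ShortComplex.QuasiIso
      ((colim (J := I) (C := A)).mapShortComplex.map ((scFunctor i).map f)) :=
    ShortComplex.quasiIso_map_of_preservesLeftHomology _ _
  have hsX : ∀ n : ℤ,
      colimMap (Functor.whiskerRight f (HomologicalComplex.eval A (ComplexShape.up ℤ) n)) ≫
        (colimEvalIso hc' n).hom = (colimEvalIso hc n).hom ≫ φ.f n := fun n => by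
    refine colimit.hom_ext fun j => ?_
    rw [ι_colimMap_assoc, ι_colimEvalIso_hom, ι_colimEvalIso_hom_assoc]
    exact (HomologicalComplex.congr_hom (hφ j) n).symm
  have sq : (colim (J := I) (C := A)).mapShortComplex.map ((scFunctor i).map f) ≫ (colimScIso hc' i).hom =
      (colimScIso hc i).hom ≫
        (HomologicalComplex.shortComplexFunctor A (ComplexShape.up ℤ) i).map φ := by
    ext1
    · exact hsX _
    · exact hsX _
    · exact hsX _
  rw [quasiIsoAt_iff]
  have : ShortComplex.QuasiIso ((colimScIso hc i).hom ≫
      (HomologicalComplex.shortComplexFunctor A (ComplexShape.up ℤ) i).map φ) :=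
    sq ▸ inferInstance
  exact (ShortComplex.quasiIso_iff_comp_left (colimScIso hc i).hom _).1 this

/-- If every transition map out of each index can be chosen zero on homology, the colimit is
exact. -/
lemma exactAt_of_isColimit (hc : IsColimit c) (i : ℤ)
    (h : ∀ j, ∃ (j' : I) (a : j ⟶ j'), HomologicalComplex.homologyMap (F.map a) i = 0) :
    c.pt.ExactAt i := by
  let S := (scFunctor i).obj F
  have hz : IsZero (colimit S.homology) := by
    rw [IsZero.iff_id_eq_zero]
    refine colimit.hom_ext fun j => ?_
    obtain ⟨j', a, ha⟩ := h j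
    have hm : S.homology.map a = 0 := by
      have e := NatTrans.app_homology ((evaluation I A).map a) S
      have h' : ShortComplex.homologyMap (S.mapNatTrans ((evaluation I A).map a)) = 0 := ha
      rw [h', zero_comp, comp_zero] at e
      exact e
    rw [comp_id, comp_zero, ← colimit.w S.homology a, hm, zero_comp]
  have h1 : ((colim (J := I) (C := A)).mapShortComplex.obj S).Exact := by
    rw [ShortComplex.exact_iff_isZero_homology]
    exact hz.of_iso (S.mapHomologyIso colim)
  exact ShortComplex.exact_of_iso (colimScIso hc i) h1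

end Groth.Agent.TriCat
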