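import Groth.Agent.TriCat.Resolve
import Mathlib.Algebra.Homology.CochainComplexOpposite
import Mathlib.Algebra.Homology.Embedding.RestrictionHomology

/-! Left resolutions of bounded above complexes. -/

universe v u

open CategoryTheory Category Limits HomologicalComplex Opposite

namespace Groth.Agent.TriCat

variable {A : Type u} [Category.{v} A] [Abelian A]

lemma quasiIsoAt_restrictionMap_iff {ι ι' : Type*} {c : ComplexShape ι} {c' : ComplexShape ι'}
    (e : c.Embedding c') [e.IsRelIff] {K L : HomologicalComplex A c'} (f : K ⟶ L) (i j k : ι)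
    (hi : c.prev j = i) (hk : c.next j = k) {i' j' k' : ι'} (hi' : e.f i = i') (hj' : e.f j = j')
    (hk' : e.f k = k') (hi'' : c'.prev j' = i') (hk'' : c'.next j' = k') :
    QuasiIsoAt (restrictionMap f e) j ↔ QuasiIsoAt f j' := by
  rw [quasiIsoAt_iff' _ i j k hi hk, quasiIsoAt_iff' _ i' j' k' hi'' hk'']
  exact ShortComplex.quasiIso_iff_of_arrow_mk_iso _ _
    (Arrow.isoMk (restriction.sc'Iso K e i j k hi' hj' hk' hi'' hk'')
      (restriction.sc'Iso L e i j k hi' hj' hk' hi'' hk'')
      (by
        subst hi' hj' hk'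
        ext
        all_goals
          dsimp
          simp [restrictionXIso]
          exact (id_comp _).trans (comp_id _).symm))

lemma quasiIso_op_iff {K L : CochainComplex A ℤ} (f : K ⟶ L) :
    QuasiIso ((CochainComplex.opEquivalence A).functor.map f.op) ↔ QuasiIso f := by
  have key : ∀ m : ℤ, QuasiIsoAt ((CochainComplex.opEquivalence A).functor.map f.op) m ↔
      QuasiIsoAt f (-m) := fun m => by
    refine (quasiIsoAt_restrictionMap_iff ComplexShape.embeddingUpIntDownInt
      ((HomologicalComplex.opFunctor A (ComplexShape.up ℤ)).map f.op) (m - 1) m (m + 1) (by simp)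
      (by simp) (i' := -(m - 1)) (j' := -m) (k' := -(m + 1)) rfl rfl rfl (by simp; omega)
      (by simp; omega)).trans ?_
    exact quasiIsoAt_opFunctor_map_iff f (-m)
  refine ⟨fun h => ⟨fun n => ?_⟩, fun h => ⟨fun m => (key m).2 inferInstance⟩⟩
  have := (key (-n)).1 inferInstance
  rwa [neg_neg] at this

/-- A bounded above complex receives a termwise epi quasi-isomorphism from a complex with terms in
a class with enough epimorphisms. -/
lemma exists_quasiIso_left_resolution (P : A → Prop) (hP0 : ∃ Z : A, IsZero Z ∧ P Z)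
    (hP : ∀ X : A, ∃ (Y : A) (π : Y ⟶ X), P Y ∧ Epi π) (K : CochainComplex A ℤ) (a : ℤ)
    [K.IsStrictlyLE a] :
    ∃ (Q : CochainComplex A ℤ) (α : Q ⟶ K), Q.IsStrictlyLE a ∧ (∀ n, P (Q.X n)) ∧
      (∀ n, Epi (α.f n)) ∧ QuasiIso α := by
  let E := CochainComplex.opEquivalence A
  let K' := E.functor.obj (op K)
  have : K'.IsStrictlyGE (-a) := by
    rw [CochainComplex.isStrictlyGE_iff]
    intro i hi
    exact (K.isZero_of_isStrictlyLE a (-i) (by omega)).op
  obtain ⟨Z, hZ, hPZ⟩ := hP0
  obtain ⟨L, φ, hL, hLP, hφm, hφ⟩ := exists_quasiIso_resolution (fun X : Aᵒᵖ => P X.unop)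
    ⟨op Z, hZ.op, hPZ⟩ (fun X => by
      obtain ⟨Y, π, hY, hπ⟩ := hP X.unop
      exact ⟨op Y, π.op, hY, inferInstance⟩) K' (-a)
  let u : (E.inverse.obj L).unop ⟶ K := (E.inverse.map φ).unop ≫ (E.unitIso.hom.app (op K)).unop
  have hu : (QuasiIso (E.functor.map u.op) : Prop) := by
    have : E.functor.map u.op = φ ≫ E.counitIso.inv.app L := by
      have h1 : u.op = E.unitIso.hom.app (op K) ≫ E.inverse.map φ := rfl
      rw [h1, Functor.map_comp]
      exact ((E.functor.map (E.unitIso.hom.app (op K))) ≫= E.fun_inv_map _ _ φ).trans (by simp [K'])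
    rw [this]
    infer_instance
  refine ⟨_, u, ?_, fun n => hLP _, fun n => ?_, (quasiIso_op_iff u).1 hu⟩
  · rw [CochainComplex.isStrictlyLE_iff]
    intro i hi
    exact (L.isZero_of_isStrictlyGE (-a) (-i) (by omega)).unop
  · have := hφm (-n)
    have hiso : IsIso (((E.unitIso.hom.app (op K)).unop).f n) :=
      inferInstanceAs (IsIso ((HomologicalComplex.eval A (ComplexShape.up ℤ) n).map
        (E.unitIso.app (op K)).unop.hom))
    exact epi_comp' (f := (φ.f (-n)).unop) (g := ((E.unitIso.hom.app (op K)).unop).f n) inferInstance (@IsIso.epi_of_iso _ _ _ _ _ hiso)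

end Groth.Agent.TriCat
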