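import Groth.Agent.TriCat.Hocolim
import Mathlib.CategoryTheory.Abelian.GrothendieckAxioms.Colim
import Mathlib.CategoryTheory.Limits.Shapes.Biproducts
import Mathlib.CategoryTheory.Abelian.Exact

/-! The telescope presentation of sequential colimits in abelian categories. -/

universe v u

open CategoryTheory Category Limits DerLim

namespace Groth.Agent.TriCat

attribute [local instance] Abelian.hasFiniteBiproducts

variable {A : Type u} [Category.{v} A] [Abelian A]

section

variable (F : ℕ ⥤ A)

/-- The finite partial sum. -/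
noncomputable abbrev psum (N : ℕ) : A := ⨁ fun k : Fin N => F.obj k

/-- The inclusion of a summand. -/
noncomputable def pinc (N j : ℕ) (h : j < N) : F.obj j ⟶ psum F N :=
  biproduct.ι (fun k : Fin N => F.obj k) ⟨j, h⟩

/-- The projection to a summand. -/
noncomputable def pprj (N j : ℕ) (h : j < N) : psum F N ⟶ F.obj j :=
  biproduct.π (fun k : Fin N => F.obj k) ⟨j, h⟩

lemma pinc_pprj_self (N j : ℕ) (h : j < N) : pinc F N j h ≫ pprj F N j h = 𝟙 _ :=
  biproduct.ι_π_self _ _

lemma pinc_pprj_ne (N j j' : ℕ) (h : j < N) (h' : j' < N) (hj : j ≠ j') :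
    pinc F N j h ≫ pprj F N j' h' = 0 :=
  biproduct.ι_π_ne _ (fun e => hj (congrArg Fin.val e))

lemma psum_hom_ext {N : ℕ} {Z : A} {g g' : psum F N ⟶ Z}
    (h : ∀ j hj, pinc F N j hj ≫ g = pinc F N j hj ≫ g') : g = g' :=
  biproduct.hom_ext' _ _ fun k => h k.1 k.2

lemma psum_hom_ext' {N : ℕ} {Z : A} {g g' : Z ⟶ psum F N}
    (h : ∀ j hj, g ≫ pprj F N j hj = g' ≫ pprj F N j hj) : g = g' :=
  biproduct.hom_ext _ _ fun k => h k.1 k.2

@[reassoc (attr := simp)]
lemma pinc_desc {N j : ℕ} (hj : j < N) {Z : A} (g : ∀ k : Fin N, F.obj k ⟶ Z) :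
    pinc F N j hj ≫ biproduct.desc g = g ⟨j, hj⟩ :=
  biproduct.ι_desc _ _

/-- The finite partial sums of a sequence. -/
noncomputable def partialSums : ℕ ⥤ A where
  obj N := psum F N
  map {N M} h := biproduct.desc fun k => pinc F M k (lt_of_lt_of_le k.2 (leOfHom h))
  map_id N := psum_hom_ext F fun j hj => by simp
  map_comp {N M L} h h' := psum_hom_ext F fun j hj => by simp

/-- The shift by one. -/
abbrev succFunctor : ℕ ⥤ ℕ where
  obj n := n + 1
  map g := homOfLE (Nat.succ_le_succ (leOfHom g))

/-- `1 - shift` on partial sums. -/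
noncomputable def partialTelescope : partialSums F ⟶ succFunctor ⋙ partialSums F where
  app N := biproduct.desc fun k : Fin N =>
    pinc F (N + 1) k (Nat.lt_succ_of_lt k.2) -
      F.map (homOfLE (Nat.le_succ k)) ≫ pinc F (N + 1) (k + 1) (Nat.succ_lt_succ k.2)
  naturality {N M} h := psum_hom_ext F fun j hj => by
    simp [partialSums, succFunctor, Preadditive.sub_comp, Preadditive.comp_sub]

lemma mono_partialTelescope_app (N : ℕ) : Mono ((partialTelescope F).app N) := by
  refine Preadditive.mono_of_cancel_zero _ fun {W} y hy => ?_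
  change W ⟶ psum F N at y
  let t : psum F N ⟶ psum F (N + 1) := (partialTelescope F).app N
  have ht : ∀ j hj, pinc F N j hj ≫ t = pinc F (N + 1) j (Nat.lt_succ_of_lt hj) -
      F.map (homOfLE (Nat.le_succ j)) ≫ pinc F (N + 1) (j + 1) (Nat.succ_lt_succ hj) :=
    fun j hj => pinc_desc F hj _
  have hyt : y ≫ t = 0 := hy
  have key : ∀ (i : ℕ) (hi : i < N), y ≫ pprj F N i hi = 0 := by
    intro i
    induction i with
    | zero =>
      intro hi
      have e : t ≫ pprj F (N + 1) 0 (Nat.succ_pos N) = pprj F N 0 hi := psum_hom_ext F fun j hj => by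
        rw [← assoc, ht, Preadditive.sub_comp, assoc,
          pinc_pprj_ne F _ _ _ _ _ (Nat.succ_ne_zero j), comp_zero, sub_zero]
        rcases eq_or_ne j 0 with rfl | h
        · rw [pinc_pprj_self, pinc_pprj_self]
        · rw [pinc_pprj_ne F _ _ _ _ _ h, pinc_pprj_ne F _ _ _ _ _ h]
      rw [← e, ← assoc, hyt, zero_comp]
    | succ i ih =>
      intro hi
      have e : t ≫ pprj F (N + 1) (i + 1) (Nat.lt_succ_of_lt hi) = pprj F N (i + 1) hi -
          pprj F N i (Nat.lt_of_succ_lt hi) ≫ F.map (homOfLE (Nat.le_succ i)) :=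
        psum_hom_ext F fun j hj => by
          rw [← assoc, ht, Preadditive.sub_comp, Preadditive.comp_sub, assoc]
          congr 1
          · rcases eq_or_ne j (i + 1) with rfl | h
            · rw [pinc_pprj_self, pinc_pprj_self]
            · rw [pinc_pprj_ne F _ _ _ _ _ h, pinc_pprj_ne F _ _ _ _ _ h]
          · rcases eq_or_ne j i with rfl | h
            · rw [pinc_pprj_self, comp_id, ← assoc, pinc_pprj_self, id_comp]
            · rw [pinc_pprj_ne F _ _ _ _ _ (by simpa using h), comp_zero, ← assoc,
                pinc_pprj_ne F _ _ _ _ _ h, zero_comp]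
      have h0 : y ≫ t ≫ pprj F (N + 1) (i + 1) (Nat.lt_succ_of_lt hi) = 0 := by
        rw [← assoc, hyt, zero_comp]
      rw [e, Preadditive.comp_sub, ← assoc y, ih, zero_comp, sub_zero] at h0
      exact h0
  exact psum_hom_ext' F fun j hj => (key j hj).trans zero_comp.symm

omit F in
/-- Countable coproducts from sequential colimits. -/
lemma hasColimitsOfShape_discrete_nat [HasColimitsOfShape ℕ A] :
    HasColimitsOfShape (Discrete ℕ) A := by
  suffices ∀ X : ℕ → A, HasCoproduct X by
    refine ⟨fun K => ?_⟩
    have := this (fun n => K.obj ⟨n⟩)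
    exact hasColimit_of_iso (Discrete.natIsoFunctor (F := K))
  intro X
  let G : ℕ ⥤ A := Functor.ofSequence (fun n => (0 : X n ⟶ X (n + 1)))
  let c : Cofan X := Cofan.mk (colimit (partialSums G))
    (fun k => pinc G (k + 1) k (Nat.lt_succ_self k) ≫ colimit.ι (partialSums G) (k + 1))
  have key : ∀ {N j : ℕ} (h : j < N), c.inj j = pinc G N j h ≫ colimit.ι (partialSums G) N := by
    intro N j h
    show pinc G (j + 1) j _ ≫ colimit.ι (partialSums G) (j + 1) = _
    rw [← colimit.w (partialSums G) (homOfLE (h : j + 1 ≤ N))]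
    exact (pinc_desc_assoc G _ _ _)
  let d : ∀ t : Cofan X, c.pt ⟶ t.pt := fun t => colimit.desc (partialSums G)
    ⟨t.pt, { app := fun N => biproduct.desc fun k => t.inj k
             naturality := fun N M h => psum_hom_ext G fun j hj => by
               simp [partialSums] }⟩
  have hd : ∀ (t : Cofan X) N, colimit.ι (partialSums G) N ≫ d t =
      biproduct.desc (fun k : Fin N => t.inj k.1) := fun t N => colimit.ι_desc _ _
  refine ⟨⟨⟨c, mkCofanColimit c d (fun t j => ?_) (fun t m hm => ?_)⟩⟩⟩
  · exact ((congrArg (· ≫ d t) (key (Nat.lt_succ_self j))).trans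
      ((assoc _ _ _).trans (congrArg _ (hd t (j + 1))))).trans (pinc_desc G _ (fun k => t.inj k.1))
  · refine colimit.hom_ext (F := partialSums G) fun N => ?_
    refine psum_hom_ext G fun j hj => ?_
    have h1 := (assoc _ _ _).symm.trans ((congrArg (· ≫ m) (key hj).symm).trans (hm j))
    exact h1.trans ((pinc_desc G hj (fun k => t.inj k.1)).symm.trans (congrArg _ (hd t N).symm))

variable [HasCoproduct F.obj]

/-- The sum as a colimit of partial sums. -/
noncomputable def partialSumsCocone : Cocone (partialSums F) where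
  pt := ∐ F.obj
  ι :=
    { app := fun N => biproduct.desc fun k => Sigma.ι F.obj k
      naturality := fun N M h => psum_hom_ext F fun j hj => by simp [partialSums] }

/-- It is a colimit. -/
noncomputable def isColimitPartialSumsCocone : IsColimit (partialSumsCocone F) where
  desc s := Sigma.desc fun k =>
    pinc F (k + 1) k (Nat.lt_succ_self k) ≫ s.ι.app (k + 1)
  fac s N := by
    refine psum_hom_ext F fun k hk' => ?_
    have := congrArg (pinc F (k + 1) k (Nat.lt_succ_self k) ≫ ·)
      (s.w (homOfLE (hk' : k + 1 ≤ N)))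
    simpa [partialSumsCocone, partialSums] using this.symm
  uniq s m hm := by
    refine Sigma.hom_ext _ _ fun k => ?_
    have := congrArg (pinc F (k + 1) k (Nat.lt_succ_self k) ≫ ·) (hm (k + 1))
    exact (((pinc_desc_assoc F _ _ _).symm.trans this).trans (Sigma.ι_desc (fun k => pinc F (k + 1) k (Nat.lt_succ_self k) ≫ s.ι.app (k + 1)) k).symm)

/-- The shifted cocone is also a colimit. -/
noncomputable def isColimitPartialSumsCoconeSucc :
    IsColimit ((partialSumsCocone F).whisker succFunctor) where
  desc s := Sigma.desc fun k =>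
    pinc F (k + 1) k (Nat.lt_succ_self k) ≫ s.ι.app k
  fac s N := by
    refine psum_hom_ext F fun k hk' => ?_
    have := congrArg (pinc F (k + 1) k (Nat.lt_succ_self k) ≫ ·)
      (s.w (homOfLE (Nat.lt_succ_iff.1 hk' : k ≤ N)))
    simpa [partialSumsCocone, partialSums, succFunctor] using this.symm
  uniq s m hm := by
    refine Sigma.hom_ext _ _ fun k => ?_
    have := congrArg (pinc F (k + 1) k (Nat.lt_succ_self k) ≫ ·) (hm k)
    exact (((pinc_desc_assoc F _ _ _).symm.trans this).trans (Sigma.ι_desc (fun k => pinc F (k + 1) k (Nat.lt_succ_self k) ≫ s.ι.app k) k).symm)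

variable [HasColimitsOfShape ℕ A] [HasExactColimitsOfShape ℕ A]

lemma mono_one_sub_shiftMap :
    Mono (𝟙 (∐ F.obj) - shiftMap F.obj (fun n => F.map (homOfLE (Nat.le_succ n)))) := by
  have : ∀ N, Mono ((partialTelescope F).app N) := mono_partialTelescope_app F
  have : Mono (partialTelescope F) := NatTrans.mono_of_mono_app _
  refine colim.map_mono' (partialTelescope F) (isColimitPartialSumsCocone F)
    (isColimitPartialSumsCoconeSucc F) _ fun N => ?_
  refine psum_hom_ext F fun k hk => ?_
  simp [partialSumsCocone, partialTelescope, partialSums, succFunctor, shiftMap,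
    Preadditive.comp_sub, Preadditive.sub_comp]

lemma telescope_comp_desc :
    (𝟙 (∐ F.obj) - shiftMap F.obj (fun n => F.map (homOfLE (Nat.le_succ n)))) ≫
      Sigma.desc (fun n => colimit.ι F n) = 0 := by
  ext n
  simp [shiftMap, Preadditive.sub_comp, Preadditive.comp_sub]

/-- The telescope sequence is short exact. -/
theorem telescope_shortExact : (ShortComplex.mk _ _ (telescope_comp_desc F)).ShortExact := by
  have h₁ := mono_one_sub_shiftMap F
  have hk : ∀ {Z : A} (k : (∐ F.obj) ⟶ Z),
      (𝟙 (∐ F.obj) - shiftMap F.obj (fun n => F.map (homOfLE (Nat.le_succ n)))) ≫ k = 0 →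
      ∀ n, F.map (homOfLE (Nat.le_succ n)) ≫ Sigma.ι F.obj (n + 1) ≫ k = Sigma.ι F.obj n ≫ k := by
    intro Z k hk n
    have := reassoc_of% (ι_one_sub_shiftMap F.obj (fun n => F.map (homOfLE (Nat.le_succ n))) n)
    have h := this k
    rw [hk, comp_zero, Preadditive.sub_comp, assoc] at h
    exact (sub_eq_zero.1 h.symm).symm
  refine ShortComplex.ShortExact.mk' (ShortComplex.exact_of_g_is_cokernel _ ?_) h₁ ?_
  · refine CokernelCofork.IsColimit.ofπ _ _
      (fun {Z} k h => colimit.desc F ⟨Z,
        { app := fun n => Sigma.ι F.obj n ≫ k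
          naturality := fun m n g => by
            have := cocone_of_succ F (fun n => Sigma.ι F.obj n ≫ k) (hk k h) (leOfHom g)
            rw [show homOfLE (leOfHom g) = g from Subsingleton.elim _ _] at this
            exact this.trans (comp_id _).symm }⟩) ?_ ?_
    · intro Z k h
      ext n
      simp
    · intro Z k h m hm
      ext n
      simp [← hm]
  · refine Preadditive.epi_of_cancel_zero _ fun {Z} g hg => colimit.hom_ext fun n => ?_
    have := congrArg (Sigma.ι F.obj n ≫ ·) hg
    simpa using this

end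

end Groth.Agent.TriCat
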