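import Mathlib.Algebra.Homology.DerivedCategory.RightDerivedFunctorPlus
import Mathlib.Algebra.Homology.DerivedCategory.ShortExact
import Mathlib.Algebra.Homology.DerivedCategory.HomologySequence
import Mathlib.CategoryTheory.Abelian.Exact

/-! Long exact sequences for `rightDerivedFunctorPlus`. -/

universe w w' v v' u u'

open CategoryTheory Category Limits Pretriangulated

namespace Groth.Agent.TriCat

variable (C : Type u) [Category.{v} C] [Abelian C] [HasDerivedCategory.{w} C]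

/-- Bounded below complexes of injectives mapped to the bounded below derived category. -/
noncomputable abbrev injToPlus :
    HomotopyCategory.Plus (InjectiveObject C) ⥤ DerivedCategory.Plus C :=
  (InjectiveObject.ι C).mapHomotopyCategoryPlus ⋙ DerivedCategory.Plus.Qh

instance (L : HomotopyCategory.Plus (InjectiveObject C)) :
    CochainComplex.IsKInjective
      (((InjectiveObject.ι C).mapHomotopyCategoryPlus.obj L).obj.as : CochainComplex C ℤ) := by
  obtain ⟨K, rfl⟩ := HomotopyCategory.Plus.quotient_obj_surjective L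
  exact inferInstanceAs (CochainComplex.IsKInjective
    (((InjectiveObject.ι C).mapHomologicalComplex (ComplexShape.up ℤ)).obj K.obj))

lemma injToPlus_map_bijective (K L : HomotopyCategory.Plus (InjectiveObject C)) :
    Function.Bijective ((injToPlus C).map : (K ⟶ L) → _) :=
  (DerivedCategory.Plus.Qh_map_bijective_of_isKInjective ((InjectiveObject.ι C).mapHomotopyCategoryPlus.obj K) ((InjectiveObject.ι C).mapHomotopyCategoryPlus.obj L) inferInstance).comp
    ⟨(InjectiveObject.ι C).mapHomotopyCategoryPlus.map_injective,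
      (InjectiveObject.ι C).mapHomotopyCategoryPlus.map_surjective⟩

instance : (injToPlus C).Full := ⟨fun {K L} => (injToPlus_map_bijective C K L).2⟩
instance : (injToPlus C).Faithful := ⟨fun {K L} => @(injToPlus_map_bijective C K L).1⟩

variable [EnoughInjectives C] {D : Type u'} [Category.{v'} D] [Abelian D]
  [HasDerivedCategory.{w'} D] (F : C ⥤ D) [F.Additive]

/-- The right derived functor computed on complexes of injectives. -/
noncomputable def rightDerivedPlusIso :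
    injToPlus C ⋙ F.rightDerivedFunctorPlus ≅
      (InjectiveObject.ι C).mapHomotopyCategoryPlus ⋙ F.mapHomotopyCategoryPlus ⋙
        DerivedCategory.Plus.Qh :=
  NatIso.ofComponents (fun X => (asIso (F.rightDerivedFunctorPlusUnit.app
      ((InjectiveObject.ι C).mapHomotopyCategoryPlus.obj X))).symm) (fun {X Y} f => by
    simp only [Iso.symm_hom, asIso_inv]
    rw [IsIso.comp_inv_eq, assoc, IsIso.eq_inv_comp]
    exact (F.rightDerivedFunctorPlusUnit.naturality
      ((InjectiveObject.ι C).mapHomotopyCategoryPlus.map f)).symm)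

lemma exists_rightDerived_triangle (T : Triangle (DerivedCategory.Plus C))
    (hT : T ∈ distTriang (DerivedCategory.Plus C)) :
    ∃ (T' : Triangle (DerivedCategory.Plus D)) (_ : T' ∈ distTriang (DerivedCategory.Plus D))
      (e₁ : F.rightDerivedFunctorPlus.obj T.obj₁ ≅ T'.obj₁)
      (e₂ : F.rightDerivedFunctorPlus.obj T.obj₂ ≅ T'.obj₂)
      (e₃ : F.rightDerivedFunctorPlus.obj T.obj₃ ≅ T'.obj₃),
      F.rightDerivedFunctorPlus.map T.mor₁ ≫ e₂.hom = e₁.hom ≫ T'.mor₁ ∧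
      F.rightDerivedFunctorPlus.map T.mor₂ ≫ e₃.hom = e₂.hom ≫ T'.mor₂ := by
  let G := injToPlus C
  let e₁ := G.objObjPreimageIso T.obj₁
  let e₂ := G.objObjPreimageIso T.obj₂
  obtain ⟨f₀, hf₀⟩ := G.map_surjective (e₁.hom ≫ T.mor₁ ≫ e₂.inv)
  obtain ⟨X₃, g₀, h₀, hT₀⟩ := distinguished_cocone_triangle f₀
  obtain ⟨e, -, -⟩ := exists_iso_of_arrow_iso _ _ (G.map_distinguished _ hT₀) hT
    (Arrow.isoMk e₁ e₂ (by
      show e₁.hom ≫ T.mor₁ = G.map f₀ ≫ e₂.hom
      rw [hf₀, assoc, assoc, Iso.inv_hom_id, comp_id]))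
  let r := rightDerivedPlusIso C F
  refine ⟨_, ((InjectiveObject.ι C).mapHomotopyCategoryPlus ⋙ F.mapHomotopyCategoryPlus ⋙
      DerivedCategory.Plus.Qh).map_distinguished _ hT₀,
    F.rightDerivedFunctorPlus.mapIso (Triangle.π₁.mapIso e).symm ≪≫ r.app _,
    F.rightDerivedFunctorPlus.mapIso (Triangle.π₂.mapIso e).symm ≪≫ r.app _,
    F.rightDerivedFunctorPlus.mapIso (Triangle.π₃.mapIso e).symm ≪≫ r.app _, ?_, ?_⟩
  · have h : T.mor₁ ≫ e.inv.hom₂ = e.inv.hom₁ ≫ G.map f₀ := e.inv.comm₁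
    refine Eq.trans (assoc _ _ _).symm ?_
    refine Eq.trans (congrArg (· ≫ _) (((F.rightDerivedFunctorPlus.map_comp _ _).symm.trans
      ((congrArg F.rightDerivedFunctorPlus.map h).trans (F.rightDerivedFunctorPlus.map_comp _ _))))) ?_
    refine (assoc _ _ _).trans (Eq.trans ?_ (assoc _ _ _).symm)
    exact congrArg _ (r.hom.naturality f₀)
  · have h : T.mor₂ ≫ e.inv.hom₃ = e.inv.hom₂ ≫ G.map g₀ := e.inv.comm₂
    refine Eq.trans (assoc _ _ _).symm ?_
    refine Eq.trans (congrArg (· ≫ _) (((F.rightDerivedFunctorPlus.map_comp _ _).symm.trans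
      ((congrArg F.rightDerivedFunctorPlus.map h).trans (F.rightDerivedFunctorPlus.map_comp _ _))))) ?_
    refine (assoc _ _ _).trans (Eq.trans ?_ (assoc _ _ _).symm)
    exact congrArg _ (r.hom.naturality g₀)

omit [HasDerivedCategory.{w'} D] in
lemma les_transfer {X Y Z X' Y' P₁ P₂ P₃ P₄ P₅ : D} {p₁ : P₁ ⟶ P₂} {p₂ : P₂ ⟶ P₃} {p₃ : P₃ ⟶ P₄}
    {p₄ : P₄ ⟶ P₅} {w₁₂ : p₁ ≫ p₂ = 0} {w₂₃ : p₂ ≫ p₃ = 0} {w₃₄ : p₃ ≫ p₄ = 0}
    (h₁₂ : (ShortComplex.mk p₁ p₂ w₁₂).Exact) (h₂₃ : (ShortComplex.mk p₂ p₃ w₂₃).Exact)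
    (h₃₄ : (ShortComplex.mk p₃ p₄ w₃₄).Exact)
    (a₁ : X ≅ P₁) (a₂ : Y ≅ P₂) (a₃ : Z ≅ P₃) (a₄ : X' ≅ P₄) (a₅ : Y' ≅ P₅)
    (f : X ⟶ Y) (g : Y ⟶ Z) (f' : X' ⟶ Y') (s₁ : f ≫ a₂.hom = a₁.hom ≫ p₁)
    (s₂ : g ≫ a₃.hom = a₂.hom ≫ p₂) (s₄ : f' ≫ a₅.hom = a₄.hom ≫ p₄) :
    ∃ (δ : Z ⟶ X') (w₁ : f ≫ g = 0) (w₂ : g ≫ δ = 0) (w₃ : δ ≫ f' = 0),
      (ShortComplex.mk _ _ w₁).Exact ∧ (ShortComplex.mk _ _ w₂).Exact ∧
        (ShortComplex.mk _ _ w₃).Exact := by
  refine ⟨a₃.hom ≫ p₃ ≫ a₄.inv,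
    by rw [← cancel_mono a₃.hom, assoc, s₂, reassoc_of% s₁, w₁₂, comp_zero, zero_comp],
    by rw [reassoc_of% s₂, reassoc_of% w₂₃, zero_comp, comp_zero],
    by rw [← cancel_mono a₅.hom, assoc, assoc, assoc, s₄, Iso.inv_hom_id_assoc, w₃₄, comp_zero,
      zero_comp], ?_, ?_, ?_⟩
  · exact ShortComplex.exact_of_iso (ShortComplex.isoMk a₁ a₂ a₃ s₁.symm s₂.symm).symm h₁₂
  · exact ShortComplex.exact_of_iso (ShortComplex.isoMk a₂ a₃ a₄ s₂.symm (by simp)).symm h₂₃
  · exact ShortComplex.exact_of_iso (ShortComplex.isoMk a₃ a₄ a₅ (by simp) s₄.symm).symm h₃₄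

omit [EnoughInjectives C] in
lemma exists_plus_triangle_of_shortExact {K₁ K₂ K₃ : CochainComplex.Plus C} (f : K₁ ⟶ K₂)
    (g : K₂ ⟶ K₃) (w : f.hom ≫ g.hom = 0) (hS : (ShortComplex.mk f.hom g.hom w).ShortExact) :
    ∃ h, Triangle.mk (DerivedCategory.Plus.Qh.map ((HomotopyCategory.Plus.quotient C).map f))
      (DerivedCategory.Plus.Qh.map ((HomotopyCategory.Plus.quotient C).map g)) h ∈
        distTriang (DerivedCategory.Plus C) := by
  let Q' := HomotopyCategory.Plus.quotient C ⋙ DerivedCategory.Plus.Qh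
  let e : ∀ K : CochainComplex.Plus C,
      DerivedCategory.Plus.ι.obj (Q'.obj K) ≅ DerivedCategory.Q.obj K.obj :=
    fun K => (DerivedCategory.quotientCompQhIso C).app K.obj
  let c := fun X : DerivedCategory.Plus C => (DerivedCategory.Plus.ι.commShiftIso (1 : ℤ)).app X
  refine ⟨DerivedCategory.Plus.ι.preimage
    ((e K₃).hom ≫ DerivedCategory.triangleOfSESδ hS ≫ (e K₁).inv⟦(1 : ℤ)⟧' ≫
      (c (Q'.obj K₁)).inv), ?_⟩
  refine isomorphic_distinguished _ (DerivedCategory.triangleOfSES_distinguished hS) _ ?_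
  refine Triangle.isoMk _ _ (e K₁) (e K₂) (e K₃) ?_ ?_ ?_
  · exact (DerivedCategory.quotientCompQhIso C).hom.naturality f.hom
  · exact (DerivedCategory.quotientCompQhIso C).hom.naturality g.hom
  · show (DerivedCategory.Plus.ι.map (DerivedCategory.Plus.ι.preimage _) ≫ (c (Q'.obj K₁)).hom) ≫
      (e K₁).hom⟦(1 : ℤ)⟧' = (e K₃).hom ≫ DerivedCategory.triangleOfSESδ hS
    rw [Functor.map_preimage, assoc, assoc, assoc, assoc, Iso.inv_hom_id_assoc,
      ← Functor.map_comp, Iso.inv_hom_id, CategoryTheory.Functor.map_id]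
    exact congrArg _ (comp_id _)

/-- The long exact sequence of the right derived functor of a short exact sequence. -/
lemma exists_rightDerived_les {K₁ K₂ K₃ : CochainComplex.Plus C} (f : K₁ ⟶ K₂) (g : K₂ ⟶ K₃)
    (w : f.hom ≫ g.hom = 0) (hS : (ShortComplex.mk f.hom g.hom w).ShortExact) (i j : ℤ)
    (hij : i + 1 = j) :
    let Φ := HomotopyCategory.Plus.quotient C ⋙ DerivedCategory.Plus.Qh ⋙
      F.rightDerivedFunctorPlus ⋙ DerivedCategory.Plus.ι ⋙ DerivedCategory.homologyFunctor D i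
    let Ψ := HomotopyCategory.Plus.quotient C ⋙ DerivedCategory.Plus.Qh ⋙
      F.rightDerivedFunctorPlus ⋙ DerivedCategory.Plus.ι ⋙ DerivedCategory.homologyFunctor D j
    ∃ (δ : Φ.obj K₃ ⟶ Ψ.obj K₁) (w₁ : Φ.map f ≫ Φ.map g = 0) (w₂ : Φ.map g ≫ δ = 0)
      (w₃ : δ ≫ Ψ.map f = 0),
      (ShortComplex.mk _ _ w₁).Exact ∧ (ShortComplex.mk _ _ w₂).Exact ∧
        (ShortComplex.mk _ _ w₃).Exact := by
  intro Φ Ψ
  obtain ⟨h, hT⟩ := exists_plus_triangle_of_shortExact C f g w hS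
  obtain ⟨T', hT', e₁, e₂, e₃, h₁, h₂⟩ := exists_rightDerived_triangle C F _ hT
  let H := fun k => DerivedCategory.Plus.ι ⋙ DerivedCategory.homologyFunctor D k
  let T'' := DerivedCategory.Plus.ι.mapTriangle.obj T'
  have hT'' := DerivedCategory.Plus.ι.map_distinguished T' hT'
  exact les_transfer
    (DerivedCategory.HomologySequence.exact₂ T'' hT'' i)
    (DerivedCategory.HomologySequence.exact₃ T'' hT'' i j hij)
    (DerivedCategory.HomologySequence.exact₁ T'' hT'' i j hij)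
    ((H i).mapIso e₁) ((H i).mapIso e₂) ((H i).mapIso e₃) ((H j).mapIso e₁) ((H j).mapIso e₂)
    (Φ.map f) (Φ.map g) (Ψ.map f)
    (((H i).map_comp _ _).symm.trans ((congrArg (H i).map h₁).trans ((H i).map_comp _ _)))
    (((H i).map_comp _ _).symm.trans ((congrArg (H i).map h₂).trans ((H i).map_comp _ _)))
    (((H j).map_comp _ _).symm.trans ((congrArg (H j).map h₁).trans ((H j).map_comp _ _)))

end Groth.Agent.TriCat
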