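import Mathlib.CategoryTheory.Triangulated.Pretriangulated
import Mathlib.CategoryTheory.Limits.Shapes.Products
import Mathlib.CategoryTheory.Preadditive.Biproducts

/-! Direct sums of distinguished triangles. -/

universe w v u

open CategoryTheory Category Limits Pretriangulated ZeroObject

namespace Groth.Agent.TriCat

/-- A family of maps with the universal property of a direct sum. -/
structure IsSum {C : Type u} [Category.{v} C] {J : Type w} {X : J → C} {S : C}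
    (ι : ∀ j, X j ⟶ S) : Prop where
  exists_desc : ∀ {A : C} (k : ∀ j, X j ⟶ A), ∃ d : S ⟶ A, ∀ j, ι j ≫ d = k j
  ext : ∀ {A : C} (d d' : S ⟶ A), (∀ j, ι j ≫ d = ι j ≫ d') → d = d'

lemma isSum_sigma {C : Type u} [Category.{v} C] {J : Type w} (X : J → C) [HasCoproduct X] :
    IsSum (Sigma.ι X) :=
  ⟨fun k => ⟨Sigma.desc k, fun j => by simp⟩, fun _ _ h => Sigma.hom_ext _ _ h⟩

lemma IsSum.map_equiv {C : Type u} [Category.{v} C] {C' : Type*} [Category C'] {J : Type w}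
    {X : J → C} {S : C} {ι : ∀ j, X j ⟶ S} (h : IsSum ι) (F : C ⥤ C') [F.IsEquivalence] :
    IsSum (fun j => F.map (ι j)) := by
  refine ⟨fun {A} k => ?_, fun {A} d d' hd => ?_⟩
  · obtain ⟨d, hd⟩ := h.exists_desc (fun j => F.preimage (k j ≫ (F.objObjPreimageIso A).inv))
    exact ⟨F.map d ≫ (F.objObjPreimageIso A).hom, fun j => by
      rw [← assoc, ← F.map_comp, hd]; simp⟩
  · rw [← cancel_mono (F.objObjPreimageIso A).inv, ← F.map_preimage (d ≫ _),
      ← F.map_preimage (d' ≫ (F.objObjPreimageIso A).inv)]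
    congr 1
    exact h.ext _ _ fun j => F.map_injective (by simp [reassoc_of% (hd j)])

variable {D : Type u} [Category.{v} D] [Preadditive D] [HasZeroObject D] [HasShift D ℤ]
  [∀ n : ℤ, (shiftFunctor D n).Additive] [Pretriangulated D]

/-- A direct sum of distinguished triangles is distinguished. -/
lemma distinguished_of_isSum {J : Type w} (T : J → Triangle D) (hT : ∀ j, T j ∈ distTriang D)
    (S : Triangle D) (φ : ∀ j, T j ⟶ S) (h₁ : IsSum fun j => (φ j).hom₁)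
    (h₂ : IsSum fun j => (φ j).hom₂) (h₃ : IsSum fun j => (φ j).hom₃) :
    S ∈ distTriang D := by
  obtain ⟨Z, g, h, hS'⟩ := distinguished_cocone_triangle S.mor₁
  have hψ : ∀ j, ∃ c : (T j).obj₃ ⟶ Z, (T j).mor₂ ≫ c = (φ j).hom₂ ≫ g ∧
      (T j).mor₃ ≫ (φ j).hom₁⟦(1 : ℤ)⟧' = c ≫ h := fun j =>
    complete_distinguished_triangle_morphism _ _ (hT j) hS' (φ j).hom₁ (φ j).hom₂ (φ j).comm₁
  choose ψ hψ₂ hψ₃ using hψ
  obtain ⟨u, hu⟩ := h₃.exists_desc ψ
  have s₁ : IsSum fun j => (φ j).hom₁⟦(1 : ℤ)⟧' := h₁.map_equiv (shiftFunctor D (1 : ℤ))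
  have s₂ : IsSum fun j => (φ j).hom₂⟦(1 : ℤ)⟧' := h₂.map_equiv (shiftFunctor D (1 : ℤ))
  have hg : S.mor₂ ≫ u = g := h₂.ext _ _ fun j => by
    rw [← assoc, ← (φ j).comm₂, assoc, hu, hψ₂]
  have hh : u ≫ h = S.mor₃ := h₃.ext _ _ fun j => by
    rw [← assoc, hu, ← hψ₃, (φ j).comm₃]
  have : IsIso u := by
    refine isIso_of_coyoneda_map_bijective _ (fun A => ⟨?_, ?_⟩)
    · suffices ∀ a : Z ⟶ A, u ≫ a = 0 → a = 0 by
        intro a a' ha
        exact sub_eq_zero.1 (this _ (by rw [Preadditive.comp_sub]; exact sub_eq_zero.2 ha))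
      intro a ha
      obtain ⟨b, hb⟩ : ∃ b : (S.obj₁⟦(1 : ℤ)⟧) ⟶ A, a = h ≫ b :=
        Triangle.yoneda_exact₃ _ hS' a (show g ≫ a = 0 by rw [← hg, assoc, ha, comp_zero])
      have hb' : ∀ j, ∃ c : (T j).obj₂⟦(1 : ℤ)⟧ ⟶ A,
          (φ j).hom₁⟦(1 : ℤ)⟧' ≫ b = -(T j).mor₁⟦(1 : ℤ)⟧' ≫ c := fun j => by
        refine (Triangle.yoneda_exact₂ (T j).rotate.rotate
          (rot_of_distTriang _ (rot_of_distTriang _ (hT j))) ((φ j).hom₁⟦(1 : ℤ)⟧' ≫ b) ?_).imp
          fun c hc => hc.trans (Preadditive.neg_comp _ _)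
        show (T j).mor₃ ≫ (φ j).hom₁⟦(1 : ℤ)⟧' ≫ b = 0
        rw [← assoc, (φ j).comm₃, assoc]
        have : ψ j ≫ a = (φ j).hom₃ ≫ S.mor₃ ≫ b := by
          rw [hb, ← hh, ← hu, assoc, assoc]
        rw [← this, ← hu, assoc, ha, comp_zero]
      choose c hc using hb'
      obtain ⟨d, hd⟩ := s₂.exists_desc (fun j => -c j)
      have : b = S.mor₁⟦(1 : ℤ)⟧' ≫ d := s₁.ext _ _ fun j => by
        rw [← assoc, ← Functor.map_comp, ← (φ j).comm₁, Functor.map_comp, assoc, hd, hc]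
        simp
      rw [hb, this, ← assoc]
      have h0 : h ≫ S.mor₁⟦(1 : ℤ)⟧' = 0 := comp_distTriang_mor_zero₃₁ _ hS'
      exact (congrArg (· ≫ d) h0).trans zero_comp
    · intro a
      obtain ⟨a', ha'⟩ : ∃ a' : Z ⟶ A, S.mor₂ ≫ a = g ≫ a' := Triangle.yoneda_exact₂ _ hS' (S.mor₂ ≫ a) (h₁.ext _ _ fun j => by
        show (φ j).hom₁ ≫ S.mor₁ ≫ S.mor₂ ≫ a = _
        rw [← reassoc_of% (φ j).comm₁, ← reassoc_of% (φ j).comm₂,
          reassoc_of% (comp_distTriang_mor_zero₁₂ _ (hT j)), zero_comp]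
        exact comp_zero.symm)
      have hb' : ∀ j, ∃ b : (T j).obj₁⟦(1 : ℤ)⟧ ⟶ A,
          (φ j).hom₃ ≫ (a - u ≫ a') = (T j).mor₃ ≫ b := fun j => by
        refine Triangle.yoneda_exact₃ _ (hT j) _ ?_
        rw [← assoc, (φ j).comm₂, assoc, Preadditive.comp_sub, reassoc_of% hg, ha']
        simp
      choose b hb using hb'
      obtain ⟨d, hd⟩ := s₁.exists_desc b
      refine ⟨a' + h ≫ d, h₃.ext _ _ fun j => ?_⟩
      show (φ j).hom₃ ≫ u ≫ (a' + h ≫ d) = _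
      rw [Preadditive.comp_add, reassoc_of% hh, Preadditive.comp_add]
      have := hb j
      rw [Preadditive.comp_sub, ← hd, reassoc_of% (φ j).comm₃, sub_eq_iff_eq_add] at this
      rw [this, add_comm]
  exact isomorphic_distinguished _ hS' _ (Triangle.isoMk _ _ (Iso.refl _) (Iso.refl _) (asIso u : S.obj₃ ≅ Z)
    ((comp_id _).trans (id_comp _).symm) (hg.trans (id_comp _).symm) (((shiftFunctor D (1 : ℤ)).map_id _ ▸ comp_id _ : S.mor₃ ≫ (shiftFunctor D (1 : ℤ)).map (𝟙 S.obj₁) = S.mor₃).trans hh.symm))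

/-- The biproduct of two triangles. -/
noncomputable abbrev biprodTriangle (T T' : Triangle D) : Triangle D :=
  Triangle.mk (biprod.map T.mor₁ T'.mor₁) (biprod.map T.mor₂ T'.mor₂)
    (biprod.desc (T.mor₃ ≫ (shiftFunctor D (1 : ℤ)).map biprod.inl)
      (T'.mor₃ ≫ (shiftFunctor D (1 : ℤ)).map biprod.inr))

lemma biprodTriangle_distinguished {T T' : Triangle D} (hT : T ∈ distTriang D)
    (hT' : T' ∈ distTriang D) : biprodTriangle T T' ∈ distTriang D := by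
  let i : T ⟶ biprodTriangle T T' := Triangle.homMk _ _ biprod.inl biprod.inl biprod.inl
    (biprod.inl_map _ _).symm (biprod.inl_map _ _).symm (biprod.inl_desc _ _).symm
  let i' : T' ⟶ biprodTriangle T T' := Triangle.homMk _ _ biprod.inr biprod.inr biprod.inr
    (biprod.inr_map _ _).symm (biprod.inr_map _ _).symm (biprod.inr_desc _ _).symm
  refine distinguished_of_isSum (fun j : Bool => cond j T' T)
    (fun j => by cases j <;> assumption) _ (fun j => match j with | false => i | true => i')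
    ?_ ?_ ?_
  all_goals
    exact ⟨fun k => ⟨biprod.desc (k false) (k true), fun j => by
        cases j <;> [exact biprod.inl_desc _ _; exact biprod.inr_desc _ _]⟩,
      fun d d' h => biprod.hom_ext' _ _ (h false) (h true)⟩

lemma biprodTriangle_distinguished_iff (T T' : Triangle D) :
    biprodTriangle T T' ∈ distTriang D ↔ T ∈ distTriang D ∧ T' ∈ distTriang D := by
  refine ⟨fun hS => ?_, fun h => biprodTriangle_distinguished h.1 h.2⟩
  obtain ⟨Z, g, h, h₁⟩ := distinguished_cocone_triangle T.mor₁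
  obtain ⟨Z', g', h', h₁'⟩ := distinguished_cocone_triangle T'.mor₁
  obtain ⟨c, hc₂, hc₃⟩ : ∃ c : Z ⟶ T.obj₃ ⊞ T'.obj₃,
      g ≫ c = biprod.inl ≫ biprod.map T.mor₂ T'.mor₂ ∧
      h ≫ (shiftFunctor D (1 : ℤ)).map biprod.inl = c ≫ biprod.desc
        (T.mor₃ ≫ (shiftFunctor D (1 : ℤ)).map biprod.inl)
        (T'.mor₃ ≫ (shiftFunctor D (1 : ℤ)).map biprod.inr) :=
    complete_distinguished_triangle_morphism _ _ h₁ hS biprod.inl biprod.inl
      (biprod.inl_map _ _).symm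
  obtain ⟨c', hc₂', hc₃'⟩ : ∃ c : Z' ⟶ T.obj₃ ⊞ T'.obj₃,
      g' ≫ c = biprod.inr ≫ biprod.map T.mor₂ T'.mor₂ ∧
      h' ≫ (shiftFunctor D (1 : ℤ)).map biprod.inr = c ≫ biprod.desc
        (T.mor₃ ≫ (shiftFunctor D (1 : ℤ)).map biprod.inl)
        (T'.mor₃ ≫ (shiftFunctor D (1 : ℤ)).map biprod.inr) :=
    complete_distinguished_triangle_morphism _ _ h₁' hS biprod.inr biprod.inr
      (biprod.inr_map _ _).symm
  have hπ : ∀ (A : T.obj₃ ⊞ T'.obj₃ ⟶ T.obj₃), A = biprod.fst →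
      biprod.desc (T.mor₃ ≫ (shiftFunctor D (1 : ℤ)).map biprod.inl)
        (T'.mor₃ ≫ (shiftFunctor D (1 : ℤ)).map biprod.inr) ≫
          (shiftFunctor D (1 : ℤ)).map biprod.fst = A ≫ T.mor₃ := by
    rintro A rfl
    apply biprod.hom_ext' <;> simp [← Functor.map_comp]
  have hπ' : biprod.desc (T.mor₃ ≫ (shiftFunctor D (1 : ℤ)).map biprod.inl)
        (T'.mor₃ ≫ (shiftFunctor D (1 : ℤ)).map biprod.inr) ≫
          (shiftFunctor D (1 : ℤ)).map biprod.snd =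
            (biprod.snd : T.obj₃ ⊞ T'.obj₃ ⟶ _) ≫ T'.mor₃ := by
    apply biprod.hom_ext' <;> simp [← Functor.map_comp]
  have e₂ : g ≫ c ≫ biprod.fst = T.mor₂ := by rw [reassoc_of% hc₂]; simp
  have e₂' : g' ≫ c' ≫ biprod.snd = T'.mor₂ := by rw [reassoc_of% hc₂']; simp
  have e₃ : (c ≫ biprod.fst) ≫ T.mor₃ = h := by
    rw [assoc, ← hπ _ rfl, ← reassoc_of% hc₃]
    simp [← Functor.map_comp]
  have e₃' : (c' ≫ biprod.snd) ≫ T'.mor₃ = h' := by
    rw [assoc, ← hπ', ← reassoc_of% hc₃']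
    simp [← Functor.map_comp]
  let ψ : biprodTriangle (Triangle.mk T.mor₁ g h) (Triangle.mk T'.mor₁ g' h') ⟶
      biprodTriangle T T' :=
    Triangle.homMk _ _ (𝟙 (T.obj₁ ⊞ T'.obj₁)) (𝟙 (T.obj₂ ⊞ T'.obj₂))
      (biprod.map (c ≫ biprod.fst) (c' ≫ biprod.snd) : Z ⊞ Z' ⟶ _)
      ((comp_id _).trans (id_comp _).symm)
      (show biprod.map g g' ≫ biprod.map _ _ = 𝟙 _ ≫ biprod.map T.mor₂ T'.mor₂ by
        rw [id_comp]
        apply biprod.hom_ext' <;> simp [reassoc_of% e₂, reassoc_of% e₂'])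
      (show biprod.desc (h ≫ (shiftFunctor D (1 : ℤ)).map biprod.inl)
          (h' ≫ (shiftFunctor D (1 : ℤ)).map biprod.inr) ≫ (shiftFunctor D (1 : ℤ)).map (𝟙 _) =
            biprod.map _ _ ≫ biprod.desc (T.mor₃ ≫ (shiftFunctor D (1 : ℤ)).map biprod.inl)
              (T'.mor₃ ≫ (shiftFunctor D (1 : ℤ)).map biprod.inr) by
        rw [CategoryTheory.Functor.map_id, comp_id]
        apply biprod.hom_ext'
        · rw [biprod.inl_desc, biprod.inl_map_assoc, biprod.inl_desc, ← assoc, e₃]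
        · rw [biprod.inr_desc, biprod.inr_map_assoc, biprod.inr_desc, ← assoc, e₃'])
  have hψ' : IsIso (biprod.map (c ≫ biprod.fst) (c' ≫ biprod.snd) : Z ⊞ Z' ⟶ _) :=
    isIso₃_of_isIso₁₂ ψ (biprodTriangle_distinguished h₁ h₁') hS (IsIso.id _) (IsIso.id _)
  constructor
  · have hi : IsIso (c ≫ biprod.fst) := ⟨biprod.inl ≫
        inv (biprod.map (c ≫ biprod.fst) (c' ≫ biprod.snd)) ≫ biprod.fst, by
      rw [← biprod.inl_map_assoc (c ≫ biprod.fst) (c' ≫ biprod.snd), IsIso.hom_inv_id_assoc,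
        biprod.inl_fst], by
      rw [assoc, assoc, ← biprod.map_fst (c ≫ biprod.fst) (c' ≫ biprod.snd),
        IsIso.inv_hom_id_assoc, biprod.inl_fst]⟩
    refine isomorphic_distinguished _ h₁ _ (Triangle.isoMk (Triangle.mk T.mor₁ g h) T (Iso.refl _) (Iso.refl _)
      (asIso (c ≫ biprod.fst) : Z ≅ T.obj₃) ((comp_id _).trans (id_comp _).symm) (e₂.trans (id_comp _).symm) ?_).symm
    show h ≫ (shiftFunctor D (1 : ℤ)).map (𝟙 _) = (c ≫ biprod.fst) ≫ T.mor₃
    rw [CategoryTheory.Functor.map_id, comp_id, e₃]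
  · have hi : IsIso (c' ≫ biprod.snd) := ⟨biprod.inr ≫
        inv (biprod.map (c ≫ biprod.fst) (c' ≫ biprod.snd)) ≫ biprod.snd, by
      rw [← biprod.inr_map_assoc (c ≫ biprod.fst) (c' ≫ biprod.snd), IsIso.hom_inv_id_assoc,
        biprod.inr_snd], by
      rw [assoc, assoc, ← biprod.map_snd (c ≫ biprod.fst) (c' ≫ biprod.snd),
        IsIso.inv_hom_id_assoc, biprod.inr_snd]⟩
    refine isomorphic_distinguished _ h₁' _ (Triangle.isoMk (Triangle.mk T'.mor₁ g' h') T' (Iso.refl _) (Iso.refl _)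
      (asIso (c' ≫ biprod.snd) : Z' ≅ T'.obj₃) ((comp_id _).trans (id_comp _).symm) (e₂'.trans (id_comp _).symm) ?_).symm
    show h' ≫ (shiftFunctor D (1 : ℤ)).map (𝟙 _) = (c' ≫ biprod.snd) ≫ T'.mor₃
    rw [CategoryTheory.Functor.map_id, comp_id, e₃']

end Groth.Agent.TriCat
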