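import Groth.Agent.TriCat.BrownCompact

/-! Every object is a homotopy colimit of a cellular system. -/

universe w v u

open CategoryTheory Category Limits Opposite Pretriangulated DerLim
open Pretriangulated.Opposite

namespace Groth.Agent.TriCat

variable {D : Type u} [Category.{v} D] [Preadditive D]

instance preservesLimits_preadditiveYoneda_discrete (Y : D) (τ : Type w) :
    PreservesLimitsOfShape (Discrete τ) (preadditiveYoneda.obj Y) := by
  have : PreservesLimitsOfShape (Discrete τ)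
      (preadditiveYoneda.obj Y ⋙ forget AddCommGrpCat.{v}) :=
    inferInstanceAs (PreservesLimitsOfShape (Discrete τ) (yoneda.obj Y))
  exact preservesLimitsOfShape_of_reflects_of_preserves _ (forget AddCommGrpCat.{v})

variable [HasZeroObject D] [HasShift D ℤ] [∀ n : ℤ, (shiftFunctor D n).Additive] [Pretriangulated D]

lemma IsHocolim.of_iso {K : ℕ → D} {f : ∀ n, K n ⟶ K (n + 1)} [HasCoproduct K] {L L' : D}
    {i : ∀ n, K n ⟶ L} (hL : IsHocolim K f L i) (e : L ≅ L') :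
    IsHocolim K f L' (fun n => i n ≫ e.hom) := by
  obtain ⟨c, hc⟩ := hL
  refine ⟨e.inv ≫ c, isomorphic_distinguished _ hc _ ?_⟩
  exact Triangle.isoMk _ _ (Iso.refl _) (Iso.refl _) e.symm
    ((comp_id _).trans (id_comp _).symm)
    (by
      show Sigma.desc (fun n => i n ≫ e.hom) ≫ e.inv = 𝟙 _ ≫ Sigma.desc i
      ext n
      simp)
    (by
      show (e.inv ≫ c) ≫ (𝟙 (∐ K))⟦(1 : ℤ)⟧' = e.inv ≫ c
      rw [CategoryTheory.Functor.map_id, comp_id])

theorem exists_cell_resolution [HasCoproducts.{v} D] [HasColimitsOfShape (Discrete ℕ) D]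
    {ι : Type v} (E : ι → D) (h2 : CountPerfect E)
    (hs : ∀ i, ∃ j, Nonempty (E j ≅ (E i)⟦(-1 : ℤ)⟧))
    (h1 : ∀ X : D, (∀ (i : ι) (f : E i ⟶ X), f = 0) → IsZero X) (X : D) :
    ∃ (F : ℕ ⥤ D) (inc : ∀ n, F.obj n ⟶ X),
      IsHocolim F.obj (fun n => F.map (homOfLE (Nat.le_succ n))) X inc ∧
      (∃ (κ : Type v) (a : κ → ι), Nonempty (F.obj 0 ≅ ∐ fun k => E (a k))) ∧
      ∀ n, ∃ (κ : Type v) (a : κ → ι) (y : (∐ fun k => E (a k)) ⟶ F.obj n)
        (z : F.obj (n + 1) ⟶ (∐ fun k => E (a k))⟦(1 : ℤ)⟧),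
        Triangle.mk y (F.map (homOfLE (Nat.le_succ n))) z ∈ distTriang D := by
  let H := preadditiveYoneda.obj X
  have := preservesDiscreteNat_op_of_preserves H
  let κ := Σ i : ι, (E i ⟶ X)
  let X₀ := ∐ fun k : κ => E k.1
  let x₀ : H.obj (op X₀) := Sigma.desc fun k => k.2
  obtain ⟨F, x, e, he, hx, hk, ht⟩ := exists_system E H X₀ x₀
  obtain ⟨L, inc, xL, hL, hxL⟩ := exists_hocolim_class H F x hx
  have h0 : ∀ (i : ι) (a : H.obj (op (E i))), ∃ g : E i ⟶ F.obj 0, res H g (x 0) = a := by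
    intro i a
    refine ⟨Sigma.ι (fun k : κ => E k.1) ⟨i, a⟩ ≫ e.hom, ?_⟩
    rw [res_comp, he]
    exact Sigma.ι_desc (fun k : κ => k.2) (⟨i, a⟩ : κ)
  have hbij := hocolim_bijective E H hx h0 hk h2 hs hL xL hxL
  change L ⟶ X at xL
  have : IsIso xL := isIso_of_bijective_on_generators E h1 hs xL fun i => hbij i
  exact ⟨F, fun n => inc n ≫ (asIso xL).hom, IsHocolim.of_iso hL (asIso xL),
    ⟨κ, fun k => k.1, ⟨e.symm⟩⟩, ht⟩

end Groth.Agent.TriCat
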