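import Groth.Agent.TriCat.Hocolim
import Mathlib.CategoryTheory.Triangulated.Generators

/-! Maps from compact objects into cellular objects factor through finite envelopes. -/

universe v u

open CategoryTheory Category Limits Pretriangulated ZeroObject

namespace Groth.Agent.TriCat

variable {D : Type u} [Category.{v} D] [Preadditive D] [HasZeroObject D] [HasShift D ℤ]
  [∀ n : ℤ, (shiftFunctor D n).Additive] [Pretriangulated D] [HasCoproducts.{v} D]

instance : ObjectProperty.IsStableUnderRetracts (fun K : D => CohDer.IsCompactObject K) where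
  of_retract := by
    intro X Y r hY
    rw [isCompactObject_iff] at hY ⊢
    intro κ Z f
    simpa using (hY κ Z (r.r ≫ f)).precomp r.i

variable {ι : Type v} [Nonempty ι] (E : ι → D)

/-- The members of a finite subfamily. -/
def finSub (s : Finset ι) : ObjectProperty D := fun Y => ∃ i ∈ s, Y = E i

/-- `φ` factors through the envelope of finitely many members. -/
def EnvFactors {C Z : D} (φ : C ⟶ Z) : Prop :=
  ∃ (s : Finset ι) (_ : s.Nonempty) (E' : D) (g : C ⟶ E') (h : E' ⟶ Z),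
    (finSub E s).triangEnvelope E' ∧ g ≫ h = φ

omit [Nonempty ι] [HasCoproducts.{v} D] in
lemma finSub_mono {s t : Finset ι} (h : s ⊆ t) :
    (finSub E s).triangEnvelope ≤ (finSub E t).triangEnvelope :=
  ObjectProperty.monotone_triangEnvelope fun _ ⟨i, hi, e⟩ => ⟨i, h hi, e⟩

omit [Nonempty ι] [HasCoproducts.{v} D] in
lemma finSub_nonempty {s : Finset ι} (hs : s.Nonempty) : (finSub E s).Nonempty :=
  ⟨E hs.choose, hs.choose, hs.choose_spec, rfl⟩

omit [Nonempty ι] in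
lemma isCompactObject_of_triangEnvelope (hc : ∀ i, CohDer.IsCompactObject (E i)) {s : Finset ι}
    {X : D} (hX : (finSub E s).triangEnvelope X) : CohDer.IsCompactObject X :=
  ((ObjectProperty.triangEnvelope_le_iff (finSub E s)
    (Q := fun K : D => CohDer.IsCompactObject K)).2 fun Y ⟨i, _, e⟩ => e ▸ hc i) X hX

omit [Nonempty ι] in
lemma EnvFactors.precomp {C C' Z : D} (k : C' ⟶ C) {φ : C ⟶ Z} (h : EnvFactors E φ) :
    EnvFactors E (k ≫ φ) := by
  obtain ⟨s, hs, E', g, h, hE', rfl⟩ := h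
  exact ⟨s, hs, E', k ≫ g, h, hE', assoc _ _ _⟩

omit [Nonempty ι] in
lemma EnvFactors.postcomp {C Z Z' : D} {φ : C ⟶ Z} (h : EnvFactors E φ) (k : Z ⟶ Z') :
    EnvFactors E (φ ≫ k) := by
  obtain ⟨s, hs, E', g, h, hE', rfl⟩ := h
  exact ⟨s, hs, E', g, h ≫ k, hE', (assoc _ _ _).symm⟩

variable [IsTriangulated D]

lemma EnvFactors.add {C Z : D} {φ ψ : C ⟶ Z} (h₁ : EnvFactors E φ) (h₂ : EnvFactors E ψ) :
    EnvFactors E (φ + ψ) := by
  classical
  obtain ⟨s, hs, E₁, g₁, k₁, hE₁, rfl⟩ := h₁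
  obtain ⟨t, _, E₂, g₂, k₂, hE₂, rfl⟩ := h₂
  have : (finSub E (s ∪ t)).Nonempty := finSub_nonempty E (hs.mono Finset.subset_union_left)
  refine ⟨s ∪ t, hs.mono Finset.subset_union_left, E₁ ⊞ E₂, biprod.lift g₁ g₂,
    biprod.desc k₁ k₂, ?_, biprod.lift_desc ..⟩
  exact ObjectProperty.ext_of_isTriangulatedClosed₂ _ _ (binaryBiproductTriangle_distinguished E₁ E₂)
    (finSub_mono E Finset.subset_union_left _ hE₁) (finSub_mono E Finset.subset_union_right _ hE₂)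

lemma EnvFactors.of_sum {κ : Type v} (a : κ → ι) (m : κ → ℤ) {C : D}
    (hC : CohDer.IsCompactObject C) (φ : C ⟶ ∐ fun k => (E (a k))⟦m k⟧) : EnvFactors E φ := by
  classical
  obtain ⟨t, b, rfl⟩ := IsCompactObject.finFactor hC φ
  induction t using Finset.induction_on with
  | empty =>
    obtain ⟨i₀⟩ := ‹Nonempty ι›
    exact ⟨{i₀}, Finset.singleton_nonempty _, E i₀, 0, 0,
      ObjectProperty.le_triangEnvelope _ _ ⟨i₀, Finset.mem_singleton_self _, rfl⟩, by simp⟩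
  | insert k t hk ih =>
    rw [Finset.sum_insert hk]
    refine EnvFactors.add E ⟨{a k}, Finset.singleton_nonempty _, _, b k,
      Sigma.ι (fun k => (E (a k))⟦m k⟧) k, ?_, rfl⟩ ih
    exact (finSub E {a k}).triangEnvelope.le_shift (m k) _
      (ObjectProperty.le_triangEnvelope _ _ ⟨a k, Finset.mem_singleton_self _, rfl⟩)

theorem envFactors_of_cell (hc : ∀ i, CohDer.IsCompactObject (E i))
    (K : ℕ → D) (f : ∀ n, K n ⟶ K (n + 1))
    (h0 : ∃ (κ : Type v) (a : κ → ι) (m : κ → ℤ),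
      Nonempty (K 0 ≅ ∐ fun k => (E (a k))⟦m k⟧))
    (hstep : ∀ n, ∃ (κ : Type v) (a : κ → ι) (m : κ → ℤ) (y : (∐ fun k => (E (a k))⟦m k⟧) ⟶ K n)
      (z : K (n + 1) ⟶ (∐ fun k => (E (a k))⟦m k⟧)⟦(1 : ℤ)⟧),
      Triangle.mk y (f n) z ∈ distTriang D) :
    ∀ (n : ℕ) (C : D), CohDer.IsCompactObject C → ∀ φ : C ⟶ K n, EnvFactors E φ := by
  classical
  intro n
  induction n with
  | zero =>
    intro C hC φ
    obtain ⟨κ, a, m, ⟨e⟩⟩ := h0
    simpa using (EnvFactors.of_sum E a m hC (φ ≫ e.hom)).postcomp E e.inv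
  | succ n ih =>
    intro C hC φ
    obtain ⟨κ, a, m, y, z, hT⟩ := hstep n
    let d : C⟦(-1 : ℤ)⟧⟦(1 : ℤ)⟧ ≅ C := (shiftFunctorCompIsoId D (-1 : ℤ) 1 (by simp)).app C
    obtain ⟨y0, hy0⟩ := (shiftFunctor D (1 : ℤ)).map_surjective (d.hom ≫ φ ≫ z)
    obtain ⟨s, hs, E₀, g₀, k₀, hE₀, hgk⟩ :=
      EnvFactors.of_sum E a m (isCompactObject_shift hC (-1)) y0
    have hE₁ : (finSub E s).triangEnvelope (E₀⟦(1 : ℤ)⟧) := (finSub E s).triangEnvelope.le_shift (1 : ℤ) _ hE₀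
    let g₁ : C ⟶ E₀⟦(1 : ℤ)⟧ := d.inv ≫ g₀⟦(1 : ℤ)⟧'
    have hg₁ : φ ≫ z = g₁ ≫ k₀⟦(1 : ℤ)⟧' := by
      rw [assoc, ← Functor.map_comp, hgk, hy0, Iso.inv_hom_id_assoc]
    obtain ⟨C', p, q, hC'⟩ := Pretriangulated.distinguished_cocone_triangle₁ g₁
    have hC'c : CohDer.IsCompactObject C' := by
      exact ObjectProperty.ext_of_isTriangulatedClosed₁ (fun K : D => CohDer.IsCompactObject K) _
        hC' hC (isCompactObject_of_triangEnvelope E hc hE₁)
    have hpz : (p ≫ φ) ≫ z = 0 := by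
      rw [assoc, hg₁, ← assoc, show p ≫ g₁ = 0 from comp_distTriang_mor_zero₁₂ _ hC', zero_comp]
    obtain ⟨φ', hφ'⟩ := Triangle.coyoneda_exact₂ _ (rot_of_distTriang _ hT) (p ≫ φ) hpz
    change C' ⟶ K n at φ'
    change p ≫ φ = φ' ≫ f n at hφ'
    obtain ⟨t, ht, E₂, g₂, k₂, hE₂, hgk₂⟩ := ih C' hC'c φ'
    obtain ⟨W, u, v, hW⟩ := Pretriangulated.distinguished_cocone_triangle₂ (q ≫ g₂⟦(1 : ℤ)⟧')
    obtain ⟨k, hk₁, hk₂⟩ : ∃ k : C ⟶ W, p ≫ k = g₂ ≫ u ∧ g₁ ≫ 𝟙 _ = k ≫ v :=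
      Pretriangulated.complete_distinguished_triangle_morphism₂ _ _ hC' hW g₂ (𝟙 _)
        (id_comp _).symm
    obtain ⟨h, hh₁, -⟩ : ∃ h : W ⟶ K (n + 1), u ≫ h = (k₂ ≫ f n) ≫ 𝟙 _ ∧ v ≫ 0 = h ≫ 0 :=
      Pretriangulated.complete_distinguished_triangle_morphism₂ _ _ hW
        (contractible_distinguished (K (n + 1))) (k₂ ≫ f n) 0 (by
          show (q ≫ g₂⟦(1 : ℤ)⟧') ≫ (k₂ ≫ f n)⟦(1 : ℤ)⟧' = 0 ≫ 0
          rw [assoc, ← Functor.map_comp, ← assoc g₂, hgk₂, ← hφ', Functor.map_comp, ← assoc,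
            show q ≫ p⟦(1 : ℤ)⟧' = 0 from comp_distTriang_mor_zero₃₁ _ hC', zero_comp, zero_comp])
    rw [comp_id] at hh₁
    obtain ⟨e, he⟩ := Triangle.yoneda_exact₂ _ hC' (φ - k ≫ h) (by
      show p ≫ (φ - k ≫ h) = 0
      rw [Preadditive.comp_sub, ← assoc p k, hk₁, assoc, hh₁, ← assoc, hgk₂, hφ', sub_self])
    change φ - k ≫ h = g₁ ≫ e at he
    rw [sub_eq_iff_eq_add.1 he]
    have : (finSub E (s ∪ t)).Nonempty := finSub_nonempty E (hs.mono Finset.subset_union_left)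
    refine EnvFactors.add E ⟨s, hs, _, g₁, e, hE₁, rfl⟩
      ⟨s ∪ t, hs.mono Finset.subset_union_left, W, k, h, ?_, rfl⟩
    exact ObjectProperty.ext_of_isTriangulatedClosed₂ _ _ hW
      (finSub_mono E Finset.subset_union_right _ hE₂) (finSub_mono E Finset.subset_union_left _ hE₁)

end Groth.Agent.TriCat
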