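import Groth.Prelude.Def_CohDer
import Mathlib.CategoryTheory.Triangulated.Subcategory
import Mathlib.CategoryTheory.Triangulated.Yoneda
import Mathlib.CategoryTheory.Limits.Preserves.Shapes.Products

/-! Compact objects in preadditive / triangulated categories with coproducts. -/

universe w v u

open CategoryTheory Category Limits Pretriangulated ZeroObject

namespace Groth.Agent.TriCat

variable {D : Type u} [Category.{v} D] [Preadditive D]

/-- A morphism into a coproduct which is a finite sum of morphisms through the summands. -/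
def FinFactor {ι : Type w} {X : ι → D} [HasCoproduct X] {K : D} (f : K ⟶ ∐ X) : Prop :=
  ∃ (s : Finset ι) (a : ∀ i, K ⟶ X i), f = ∑ i ∈ s, a i ≫ Sigma.ι X i

variable {ι : Type w} {X : ι → D} [HasCoproduct X]

open Classical in
/-- The projection from a coproduct onto one of the summands. -/
noncomputable def coprodProj (X : ι → D) [HasCoproduct X] (i : ι) : (∐ X) ⟶ X i :=
  Sigma.desc (fun j => if h : j = i then eqToHom (by rw [h]) else 0)

@[reassoc]
lemma ι_coprodProj_self (i : ι) : Sigma.ι X i ≫ coprodProj X i = 𝟙 _ := by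
  simp [coprodProj]

@[reassoc]
lemma ι_coprodProj_ne {i j : ι} (h : j ≠ i) : Sigma.ι X j ≫ coprodProj X i = 0 := by
  simp [coprodProj, h]

lemma FinFactor.add {K : D} {f g : K ⟶ ∐ X} (hf : FinFactor f) (hg : FinFactor g) :
    FinFactor (f + g) := by
  classical
  obtain ⟨s, a, rfl⟩ := hf
  obtain ⟨t, b, rfl⟩ := hg
  refine ⟨s ∪ t, fun i => (if i ∈ s then a i else 0) + (if i ∈ t then b i else 0), ?_⟩
  simp only [Preadditive.add_comp, Finset.sum_add_distrib]
  congr 1
  · rw [← Finset.sum_subset (Finset.subset_union_left (s₁ := s) (s₂ := t))]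
    · exact Finset.sum_congr rfl (fun i hi => by simp [hi])
    · intro i _ hi; simp [hi]
  · rw [← Finset.sum_subset (Finset.subset_union_right (s₁ := s) (s₂ := t))]
    · exact Finset.sum_congr rfl (fun i hi => by simp [hi])
    · intro i _ hi; simp [hi]

lemma FinFactor.zero {K : D} : FinFactor (0 : K ⟶ ∐ X) := ⟨∅, fun _ => 0, by simp⟩

lemma FinFactor.neg {K : D} {f : K ⟶ ∐ X} (hf : FinFactor f) : FinFactor (-f) := by
  obtain ⟨s, a, rfl⟩ := hf
  exact ⟨s, fun i => -a i, by simp [Preadditive.neg_comp]⟩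

lemma FinFactor.precomp {K K' : D} (k : K' ⟶ K) {f : K ⟶ ∐ X} (hf : FinFactor f) :
    FinFactor (k ≫ f) := by
  obtain ⟨s, a, rfl⟩ := hf
  exact ⟨s, fun i => k ≫ a i, by simp [Preadditive.comp_sum]⟩

lemma FinFactor.postcomp_ι {K : D} (i : ι) (a : K ⟶ X i) : FinFactor (a ≫ Sigma.ι X i) := by
  classical
  exact ⟨{i}, Function.update (fun _ => 0) i a, by simp⟩

variable [HasCoproducts.{v} D]

/-- Compactness = every morphism into a coproduct factors through finitely many summands. -/
lemma isCompactObject_iff (K : D) :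
    CohDer.IsCompactObject K ↔ ∀ (ι : Type v) (X : ι → D) (f : K ⟶ ∐ X), FinFactor f := by
  classical
  have hof : ∀ (ι : Type v) (X : ι → D) (i : ι) (a : K ⟶ X i),
      CohDer.homSumToHomCoprod K X (DirectSum.of (fun i => K ⟶ X i) i a) = a ≫ Sigma.ι X i := by
    intro ι X i a
    simp [CohDer.homSumToHomCoprod, DirectSum.toAddMonoid_of]
    rfl
  constructor
  · intro h ι X f
    obtain ⟨x, rfl⟩ := (h ι X).2 f
    induction x using DirectSum.induction_on with
    | zero => rw [map_zero]; exact FinFactor.zero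
    | of i a => rw [hof]; exact FinFactor.postcomp_ι i a
    | add x y hx hy => rw [map_add]; exact hx.add hy
  · intro h ι X
    constructor
    · have key : ∀ (j : ι) (x : DirectSum ι (fun i => K ⟶ X i)),
          CohDer.homSumToHomCoprod K X x ≫ coprodProj X j = x j := by
        intro j x
        induction x using DirectSum.induction_on with
        | zero => simp
        | of i a =>
          rw [hof, assoc]
          by_cases hij : i = j
          · subst hij; simp [ι_coprodProj_self]
          · rw [ι_coprodProj_ne hij, comp_zero, DirectSum.of_eq_of_ne _ _ _ (Ne.symm hij)]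
        | add x y hx hy => rw [map_add, Preadditive.add_comp, hx, hy]; rfl
      intro x y hxy
      refine DFinsupp.ext fun j => ?_
      rw [← key j x, ← key j y, hxy]
    · intro f
      obtain ⟨s, a, rfl⟩ := h ι X f
      exact ⟨∑ i ∈ s, DirectSum.of _ i (a i), by simp [hof]⟩

lemma IsCompactObject.finFactor {K : D} (hK : CohDer.IsCompactObject K) {ι : Type v} {X : ι → D}
    (f : K ⟶ ∐ X) : FinFactor f :=
  (isCompactObject_iff K).1 hK ι X f

lemma isCompactObject_of_iso {K K' : D} (e : K ≅ K') (hK : CohDer.IsCompactObject K) :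
    CohDer.IsCompactObject K' := by
  rw [isCompactObject_iff] at hK ⊢
  intro ι X f
  simpa using (hK ι X (e.hom ≫ f)).precomp e.inv

instance : ObjectProperty.IsClosedUnderIsomorphisms (fun K : D => CohDer.IsCompactObject K) :=
  ⟨fun e h => isCompactObject_of_iso e h⟩

lemma isCompactObject_of_isZero {K : D} (hK : IsZero K) : CohDer.IsCompactObject K := by
  rw [isCompactObject_iff]
  intro ι X f
  rw [hK.eq_of_src f 0]
  exact FinFactor.zero

variable [HasShift D ℤ] [∀ n : ℤ, (shiftFunctor D n).Additive]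

lemma isCompactObject_shift {K : D} (hK : CohDer.IsCompactObject K) (n : ℤ) :
    CohDer.IsCompactObject (K⟦n⟧) := by
  rw [isCompactObject_iff]
  intro ι X f
  let F := shiftFunctor D (-n)
  let e := PreservesCoproduct.iso F X
  have : ∀ i, Sigma.ι _ i ≫ e.inv = F.map (Sigma.ι X i) := fun i => by
    simp [e, PreservesCoproduct.inv_hom, ι_comp_sigmaComparison]
  obtain ⟨g, hg⟩ : ∃ g : K ⟶ (∐ X)⟦-n⟧, g⟦n⟧' ≫ (shiftFunctorCompIsoId D (-n) n (by simp)).hom.app _ = f := by
    refine ⟨(shiftFunctorCompIsoId D n (-n) (by simp)).inv.app K ≫ f⟦-n⟧', ?_⟩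
    rw [Functor.map_comp, assoc]
    erw [(shiftFunctorCompIsoId D (-n) n (by simp)).hom.naturality f]
    rw [Functor.id_map, ← assoc]
    rw [shift_shiftFunctorCompIsoId_inv_app, Iso.inv_hom_id_app]
    simp
  obtain ⟨s, a, ha⟩ := IsCompactObject.finFactor hK (g ≫ e.hom)
  have hg' : g = ∑ i ∈ s, a i ≫ F.map (Sigma.ι X i) := by
    rw [← cancel_mono e.hom, ha, Preadditive.sum_comp]
    refine Finset.sum_congr rfl fun i _ => ?_
    rw [← this i, assoc, assoc, Iso.inv_hom_id, comp_id]
  refine ⟨s, fun i => (a i)⟦n⟧' ≫ (shiftFunctorCompIsoId D (-n) n (by simp)).hom.app (X i), ?_⟩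
  rw [← hg, hg', Functor.map_sum, Preadditive.sum_comp]
  refine Finset.sum_congr rfl fun i _ => ?_
  rw [Functor.map_comp, assoc]
  erw [(shiftFunctorCompIsoId D (-n) n (by simp)).hom.naturality (Sigma.ι X i)]
  simp

variable [HasZeroObject D] [Pretriangulated D]

lemma isCompactObject_ext₂ (T : Triangle D) (hT : T ∈ distTriang D)
    (h₁ : CohDer.IsCompactObject T.obj₁) (h₃ : CohDer.IsCompactObject T.obj₃) :
    CohDer.IsCompactObject T.obj₂ := by
  rw [isCompactObject_iff]
  intro ι X f
  obtain ⟨s, a, ha⟩ := IsCompactObject.finFactor h₁ (T.mor₁ ≫ f)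
  let g := ∑ i ∈ s, f ≫ coprodProj X i ≫ Sigma.ι X i
  have hg : T.mor₁ ≫ (f - g) = 0 := by
    classical
    simp only [g, Preadditive.comp_sub, Preadditive.comp_sum]
    rw [sub_eq_zero, ha]
    refine Finset.sum_congr rfl fun i hi => ?_
    rw [← assoc T.mor₁, ha, Preadditive.sum_comp, Finset.sum_eq_single i]
    · rw [assoc, ι_coprodProj_self_assoc]
    · intro j _ hj
      rw [assoc, ι_coprodProj_ne_assoc hj, zero_comp, comp_zero]
    · simp [hi]
  obtain ⟨k, hk⟩ := T.yoneda_exact₂ hT (f - g) hg
  have h₂ : FinFactor (f - g) := hk ▸ (IsCompactObject.finFactor h₃ k).precomp T.mor₂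
  have h₄ : FinFactor g := ⟨s, fun i => f ≫ coprodProj X i, by simp [g]⟩
  simpa using h₂.add h₄

instance : ObjectProperty.IsTriangulated (fun K : D => CohDer.IsCompactObject K) where
  exists_zero := ⟨(0 : D), isZero_zero D, isCompactObject_of_isZero (isZero_zero D)⟩
  isStableUnderShiftBy n := ⟨fun _ hX => isCompactObject_shift hX n⟩
  toIsTriangulatedClosed₂ := ObjectProperty.IsTriangulatedClosed₂.mk'
    (fun T hT h₁ h₃ => isCompactObject_ext₂ T hT h₁ h₃)

end Groth.Agent.TriCat
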