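import Mathlib.Algebra.Homology.ModelCategory.Lifting
import Mathlib.Algebra.Homology.HomotopyCategory.KInjective
import Mathlib.Algebra.Homology.HomologySequenceLemmas
import Mathlib.Algebra.Homology.Double

/-! Lifting criteria for K-injective complexes with injective terms. -/

universe v u

open CategoryTheory Category Limits ZeroObject
open CochainComplex CochainComplex.HomComplex

namespace Groth.Agent.TriCat

variable {A : Type u} [Category.{v} A] [Abelian A]

lemma quasiIso_f_of_acyclic {S : ShortComplex (CochainComplex A ℤ)} (hS : S.ShortExact)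
    (h : S.X₃.Acyclic) : QuasiIso S.f := by
  refine ⟨fun i => ?_⟩
  rw [quasiIsoAt_iff_isIso_homologyMap]
  have z : ∀ j, IsZero (S.X₃.homology j) := fun j =>
    (HomologicalComplex.exactAt_iff_isZero_homology _ _).1 (h j)
  have : Mono (HomologicalComplex.homologyMap S.f i) :=
    (hS.homology_exact₁ (i - 1) i (by simp)).mono_g ((z _).eq_of_src _ _)
  have : Epi (HomologicalComplex.homologyMap S.f i) :=
    (hS.homology_exact₂ i).epi_f ((z _).eq_of_tgt _ _)
  exact isIso_of_mono_of_epi _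

lemma shortExact_cokernel {K L : CochainComplex A ℤ} (α : K ⟶ L) [Mono α] :
    (ShortComplex.mk _ _ (cokernel.condition α)).ShortExact :=
  { exact := ShortComplex.exact_cokernel α }

lemma quasiIso_iff_acyclic_cokernel {K L : CochainComplex A ℤ} (α : K ⟶ L) [Mono α] :
    QuasiIso α ↔ (cokernel α).Acyclic :=
  ⟨fun h => (shortExact_cokernel α).acyclic_X₃ h,
    fun h => quasiIso_f_of_acyclic (shortExact_cokernel α) h⟩

/-- The cone of the identity. -/
noncomputable abbrev coneId (K : CochainComplex A ℤ) : CochainComplex A ℤ := mappingCone (𝟙 K)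

lemma isZero_quotient_coneId (K : CochainComplex A ℤ) :
    IsZero ((HomotopyCategory.quotient A (ComplexShape.up ℤ)).obj (coneId K)) :=
  (Pretriangulated.Triangle.isZero₃_iff_isIso₁ _
      (HomotopyCategory.mappingCone_triangleh_distinguished (𝟙 K))).2
    (inferInstanceAs (IsIso ((HomotopyCategory.quotient A (ComplexShape.up ℤ)).map (𝟙 K))))

lemma acyclic_coneId (K : CochainComplex A ℤ) : (coneId K).Acyclic := by
  intro n
  rw [HomologicalComplex.exactAt_iff_isZero_homology]
  exact ((HomotopyCategory.homologyFunctor A (ComplexShape.up ℤ) n).map_isZero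
    (isZero_quotient_coneId K)).of_iso
      ((HomotopyCategory.homologyFunctorFactors A (ComplexShape.up ℤ) n).app (coneId K)).symm

instance mono_inr_coneId (K : CochainComplex A ℤ) : Mono (mappingCone.inr (𝟙 K)) := by
  have : ∀ n, Mono ((mappingCone.inr (𝟙 K)).f n) := fun n =>
    (SplitMono.mk ((mappingCone.snd (𝟙 K)).v n n (add_zero n))
      (mappingCone.inr_f_snd_v (𝟙 K) n)).mono
  exact HomologicalComplex.mono_of_mono_f _ (by infer_instance)

lemma nonempty_homotopy_of_extends {K I : CochainComplex A ℤ} (φ : K ⟶ I) (ψ : coneId K ⟶ I)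
    (h : mappingCone.inr (𝟙 K) ≫ ψ = φ) : Nonempty (Homotopy φ 0) := by
  refine ⟨HomotopyCategory.homotopyOfEq _ _ ?_⟩
  rw [← h, Functor.map_comp, (isZero_quotient_coneId K).eq_of_tgt
    ((HomotopyCategory.quotient A (ComplexShape.up ℤ)).map (mappingCone.inr (𝟙 K))) 0,
    zero_comp, Functor.map_zero]

set_option backward.defeqAttrib.useBackward true in
set_option backward.isDefEq.respectTransparency false in
lemma exists_δ_eq_of_null {K L : CochainComplex A ℤ} {n : ℤ} (z : Cocycle K L n)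
    (hN : ∀ φ : K ⟶ L⟦n⟧, Nonempty (Homotopy φ 0)) (m : ℤ) (hm : m + 1 = n) :
    ∃ α : Cochain K L m, δ m n α = z.1 := by
  obtain ⟨φ, hφ⟩ := (Cocycle.equivHom ..).surjective (z.rightShift n 0 (zero_add n))
  rw [Cocycle.ext_iff] at hφ
  dsimp at hφ
  obtain ⟨h⟩ := hN φ
  obtain ⟨f, hf⟩ := Cochain.equivHomotopy _ _ h
  simp only [Int.reduceNeg, Cochain.ofHom_zero, add_zero] at hf
  refine ⟨n.negOnePow • Cochain.rightUnshift f m (by lia), ?_⟩
  apply (Cochain.rightShiftAddEquiv _ _ _ n 0 (by simp)).injective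
  dsimp
  rw [← hφ, hf, δ_units_smul, Cochain.rightShift_units_smul,
    Cochain.δ_rightUnshift _ _ _ _ 0 (by simp)]
  simp [smul_smul]

/-- Extension along a monomorphism into a termwise injective complex. -/
lemma exists_extension_of_null {K L I : CochainComplex A ℤ} (α : K ⟶ L) [Mono α]
    [∀ n, Injective (I.X n)] {Q : CochainComplex A ℤ} (e : cokernel α ≅ Q)
    (hN : ∀ φ : Q ⟶ I⟦(1 : ℤ)⟧, Nonempty (Homotopy φ 0)) (γ : K ⟶ I) :
    ∃ β : L ⟶ I, α ≫ β = γ := by
  have sq : CommSq γ α (0 : I ⟶ 0) (0 : L ⟶ 0) := ⟨by simp⟩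
  have hsq : ∀ n, (sq.map (HomologicalComplex.eval _ _ n)).LiftStruct := fun n =>
    { l := (Injective.factorThru (J := I.X n) (γ.f n) (α.f n) : L.X n ⟶ I.X n)
      fac_left := Injective.comp_factorThru (J := I.X n) (γ.f n) (α.f n)
      fac_right := comp_zero }
  have hK : IsLimit (KernelFork.ofι (𝟙 I) (show 𝟙 I ≫ (0 : I ⟶ 0) = 0 by simp)) :=
    KernelFork.IsLimit.ofId _ rfl
  have hN' : ∀ φ : cokernel α ⟶ I⟦(1 : ℤ)⟧, Nonempty (Homotopy φ 0) := fun φ => by
    obtain ⟨h⟩ := hN (e.inv ≫ φ)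
    exact ⟨(Homotopy.ofEq (by simp)).trans ((h.compLeft e.hom).trans (Homotopy.ofEq (by simp)))⟩
  obtain ⟨a, ha⟩ := exists_δ_eq_of_null
    (CochainComplex.Lifting.cocycle₁ sq hsq (hπ := cokernel.condition α) (cokernelIsCokernel α) hK)
    hN' 0 (by simp)
  have := CochainComplex.Lifting.hasLift sq hsq (hπ := cokernel.condition α) (cokernelIsCokernel α)
    hK a ha
  exact ⟨sq.lift, sq.fac_left⟩

/-- The complex `U → U` in degrees `n`, `n + 1`. -/
noncomputable abbrev disk (n : ℤ) (U : A) : CochainComplex A ℤ :=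
  HomologicalComplex.double (𝟙 U) (show (ComplexShape.up ℤ).Rel n (n + 1) by simp)

/-- Maps out of a disk. -/
noncomputable def diskDesc {n : ℤ} {U : A} {K : CochainComplex A ℤ} (g : U ⟶ K.X n) :
    disk n U ⟶ K :=
  HomologicalComplex.mkHomFromDouble (f := 𝟙 U) _ (show n ≠ n + 1 by lia) g (g ≫ K.d n (n + 1))
    (by simp) (by simp)

noncomputable def diskι (n : ℤ) (U : A) : U ⟶ (disk n U).X n :=
  (HomologicalComplex.doubleXIso₀ _ _).inv

@[reassoc (attr := simp)]
lemma diskι_diskDesc {n : ℤ} {U : A} {K : CochainComplex A ℤ} (g : U ⟶ K.X n) :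
    diskι n U ≫ (diskDesc g).f n = g := by
  simp [diskι, diskDesc]

lemma disk_hom_ext {n : ℤ} {U : A} {K : CochainComplex A ℤ} {φ φ' : disk n U ⟶ K}
    (h : diskι n U ≫ φ.f n = diskι n U ≫ φ'.f n) : φ = φ' :=
  (HomologicalComplex.evalCompCoyonedaCorepresentableByDoubleId
    (show (ComplexShape.up ℤ).Rel n (n + 1) by simp) (show n ≠ n + 1 by lia) U).homEquiv.injective h

lemma acyclic_disk (n : ℤ) (U : A) : (disk n U).Acyclic := by
  have hr : (ComplexShape.up ℤ).Rel n (n + 1) := by simp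
  have hne : n ≠ n + 1 := by lia
  have hd : IsIso ((disk n U).d n (n + 1)) := by
    rw [HomologicalComplex.double_d _ _ hne]
    infer_instance
  intro k
  rw [HomologicalComplex.exactAt_iff' _ (k - 1) k (k + 1) (by simp) (by simp)]
  by_cases h1 : k = n
  · subst h1
    refine (ShortComplex.exact_iff_mono _
      (HomologicalComplex.double_d_eq_zero₁ (𝟙 U) hr (k - 1) k (by lia))).2 ?_
    show Mono ((disk k U).d k (k + 1))
    infer_instance
  · by_cases h2 : k = n + 1
    · obtain rfl : n = k - 1 := by lia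
      refine (ShortComplex.exact_iff_epi _
        (HomologicalComplex.double_d_eq_zero₀ (𝟙 U) hr k (k + 1) (by lia))).2 ?_
      show Epi ((disk (k - 1) U).d (k - 1) k)
      have hd' : ∀ j, j = k - 1 + 1 → IsIso ((disk (k - 1) U).d (k - 1) j) := by
        rintro j rfl; exact hd
      have := hd' k (by lia)
      infer_instance
    · exact ShortComplex.exact_of_isZero_X₂ _ (HomologicalComplex.isZero_double_X (𝟙 U) hr k h1 h2)

/-- Functoriality of disks. -/
noncomputable def diskMap (n : ℤ) {U V : A} (g : U ⟶ V) : disk n U ⟶ disk n V :=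
  diskDesc (g ≫ diskι n V)

instance mono_diskMap (n : ℤ) {U V : A} (g : U ⟶ V) [Mono g] : Mono (diskMap n g) := by
  refine @HomologicalComplex.mono_of_mono_f _ _ _ _ _ _ _ (diskMap n g) (fun k => ?_)
  have hne : n ≠ n + 1 := by lia
  by_cases h1 : k = n
  · subst h1
    rw [diskMap, diskDesc, HomologicalComplex.mkHomFromDouble_f₀, diskι]
    infer_instance
  · by_cases h2 : k = n + 1
    · subst h2
      rw [diskMap, diskDesc, HomologicalComplex.mkHomFromDouble_f₁, diskι,
        HomologicalComplex.double_d _ _ hne]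
      infer_instance
    · exact ⟨fun a b _ => (HomologicalComplex.isZero_double_X _ _ k h1 h2).eq_of_tgt a b⟩

lemma exists_comp_of_extends {I : CochainComplex A ℤ} {n : ℤ} {U V : A} (g : U ⟶ V)
    (h : ∀ φ : disk n U ⟶ I, ∃ ψ : disk n V ⟶ I, diskMap n g ≫ ψ = φ) (a : U ⟶ I.X n) :
    ∃ b : V ⟶ I.X n, g ≫ b = a := by
  obtain ⟨ψ, hψ⟩ := h (diskDesc a)
  refine ⟨diskι n V ≫ ψ.f n, ?_⟩
  have := congrArg (fun φ => diskι n U ≫ φ.f n) hψ
  simpa [diskMap] using this

/-- The lifting property characterizing K-injective complexes of injectives. -/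
lemma isKInjective_and_injective_of_lifting (I : CochainComplex A ℤ)
    (H : ∀ ⦃K L : CochainComplex A ℤ⦄ (α : K ⟶ L), Mono α → (cokernel α).Acyclic →
      ∀ φ : K ⟶ I, ∃ ψ : L ⟶ I, α ≫ ψ = φ) :
    I.IsKInjective ∧ ∀ n, Injective (I.X n) := by
  refine ⟨⟨fun {K} f hK => ?_⟩, fun n => ⟨fun {U V} a g _ => ?_⟩⟩
  · obtain ⟨ψ, hψ⟩ := H (mappingCone.inr (𝟙 K)) inferInstance
      ((quasiIso_iff_acyclic_cokernel _).1 ⟨fun i =>
        (quasiIsoAt_iff_exactAt _ i (hK i)).2 (acyclic_coneId K i)⟩) f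
    exact nonempty_homotopy_of_extends f ψ hψ
  · exact exists_comp_of_extends g
      (fun φ => H (diskMap n g) inferInstance ((quasiIso_iff_acyclic_cokernel _).1 ⟨fun i =>
        (quasiIsoAt_iff_exactAt _ i (acyclic_disk n U i)).2 (acyclic_disk n V i)⟩) φ) a

end Groth.Agent.TriCat
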