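import Mathlib.Algebra.Homology.DerivedCategory.Fractions
import Mathlib.Algebra.Homology.DerivedCategory.Ext.ExactSequences
import Mathlib.Algebra.Homology.DerivedCategory.FullyFaithful
import Mathlib.Algebra.Homology.HomotopyCategory.HomComplexSingle
import Mathlib.CategoryTheory.Abelian.CommSq

/-! Effaceability of morphisms to single objects in the derived category. -/

universe w v u

open CategoryTheory Category Limits DerivedCategory CochainComplex HomComplex

namespace Groth.Agent.TriCat

variable {C : Type u} [Category.{v} C] [Abelian C]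

section
variable [HasDerivedCategory.{w} C]

/-- A morphism from a complex exact in degree `m` to a single object in degree `m` is killed by
some monomorphism of the single object. -/
lemma exists_mono_comp_single_eq_zero {X : DerivedCategory C} (m : ℤ) {Y : C}
    (hX : IsZero ((DerivedCategory.homologyFunctor C m).obj X))
    (f : X ⟶ (DerivedCategory.singleFunctor C m).obj Y) :
    ∃ (E : C) (ι : Y ⟶ E), Mono ι ∧ f ≫ (DerivedCategory.singleFunctor C m).map ι = 0 := by
  obtain ⟨K, ⟨e⟩⟩ : ∃ K, Nonempty (Q.obj K ≅ X) := ⟨_, ⟨Q.objObjPreimageIso X⟩⟩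
  let e' := (singleFunctorIsoCompQ C m).app Y
  obtain ⟨K', s, hs, g, hg⟩ := right_fac (e.hom ≫ f ≫ e'.hom)
  have hK' : K'.ExactAt m := by
    rw [HomologicalComplex.exactAt_iff_isZero_homology]
    exact IsZero.of_iso hX (((homologyFunctorFactors C m).app K').symm ≪≫
      (DerivedCategory.homologyFunctor C m).mapIso (asIso (Q.map s) ≪≫ e))
  obtain ⟨m', hm'⟩ : ∃ m', m' = m + 1 := ⟨_, rfl⟩
  have hmono : Mono (K'.fromOpcycles m m') := by
    have h2 := (K'.exactAt_iff' (m - 1) m m' (by simp) (by simp [hm'])).1 hK'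
    have h3 : (ShortComplex.mk (0 : K'.opcycles m ⟶ K'.opcycles m) (K'.fromOpcycles m m')
        zero_comp).Exact := by
      refine (ShortComplex.exact_iff_exact_up_to_refinements _).2 fun A x hx => ?_
      obtain ⟨A₁, π₁, hπ₁, y, hy⟩ := surjective_up_to_refinements_of_epi (K'.pOpcycles m) x
      have hy' : y ≫ K'.d m m' = 0 := by
        rw [← K'.p_fromOpcycles, ← reassoc_of% hy, hx, comp_zero]
      obtain ⟨A₂, π₂, hπ₂, z, hz⟩ := h2.exact_up_to_refinements y hy'
      refine ⟨A₂, π₂ ≫ π₁, epi_comp _ _, 0, ?_⟩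
      dsimp at hz ⊢
      obtain ⟨z', hz'⟩ : ∃ z' : A₂ ⟶ K'.X (m - 1), π₂ ≫ y = z' ≫ K'.d (m - 1) m := ⟨z, hz⟩
      rw [assoc, hy, ← assoc π₂ y]
      refine (congrArg (· ≫ K'.pOpcycles m) hz').trans ?_
      simp
    exact h3.mono_g rfl
  obtain ⟨φ, hφ⟩ : ∃ φ : K'.opcycles m ⟶ Y,
      K'.pOpcycles m ≫ φ = g.f m ≫ (HomologicalComplex.singleObjXSelf _ m Y).hom :=
    ⟨K'.descOpcycles _ (m - 1) (by simp) (by
      have := g.comm (m - 1) m
      refine (assoc _ _ _).symm.trans ((congrArg (· ≫ _) this.symm).trans ?_)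
      dsimp [CochainComplex.singleFunctor, CochainComplex.singleFunctors]
      simp), K'.p_descOpcycles _ _ _ _⟩
  refine ⟨pushout φ (K'.fromOpcycles m m'), pushout.inl _ _, inferInstance, ?_⟩
  let g' : K' ⟶ (CochainComplex.singleFunctor C m).obj (pushout φ (K'.fromOpcycles m m')) :=
    g ≫ (CochainComplex.singleFunctor C m).map (pushout.inl _ _)
  have hg' : Cochain.ofHom g' = δ (-1) 0
      (Cochain.toSingleMk (pushout.inr φ (K'.fromOpcycles m m')) (show m' + (-1) = m by omega)) := by
    rw [Cochain.δ_toSingleMk _ _ 0 m (by omega)]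
    simp only [Int.negOnePow_zero, one_smul]
    apply Cochain.ext
    intro p q hpq
    obtain rfl : p = q := by omega
    rw [Cochain.ofHom_v]
    by_cases hp : p = m
    · subst hp
      rw [Cochain.toSingleMk_v _ (by omega)]
      have h1 : g.f p = K'.pOpcycles p ≫ φ ≫
          (HomologicalComplex.singleObjXSelf (ComplexShape.up ℤ) p Y).inv := by
        rw [← assoc, hφ]
        exact ((comp_id (g.f p)).symm.trans (congrArg (g.f p ≫ ·) (Iso.hom_inv_id
          (HomologicalComplex.singleObjXSelf (ComplexShape.up ℤ) p Y)).symm)).trans (assoc _ _ _).symm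
      change g.f p ≫ ((HomologicalComplex.single C _ p).map (pushout.inl _ _)).f p = _
      rw [HomologicalComplex.single_map_f_self, h1]
      erw [assoc, assoc, Iso.inv_hom_id_assoc]
      rw [pushout.condition_assoc, HomologicalComplex.p_fromOpcycles_assoc]
      simp [assoc]
    · exact (HomologicalComplex.isZero_single_obj_X _ _ _ _ hp).eq_of_tgt _ _
  have hzero : (HomotopyCategory.quotient C (ComplexShape.up ℤ)).map g' = 0 := by
    rw [← Functor.map_zero]
    exact HomotopyCategory.eq_of_homotopy _ _ ((Cochain.equivHomotopy g' 0).symm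
      ⟨_, by simpa using hg'⟩)
  have hQ : Q.map g' = 0 := by
    rw [← cancel_epi ((quotientCompQhIso C).hom.app K'), comp_zero,
      ← (quotientCompQhIso C).hom.naturality g', Functor.comp_map, hzero, Functor.map_zero,
      zero_comp]
  have nat := (singleFunctorIsoCompQ C m).hom.naturality (pushout.inl φ (K'.fromOpcycles m m'))
  rw [← cancel_mono ((singleFunctorIsoCompQ C m).hom.app _), ← cancel_epi e.hom, zero_comp,
    comp_zero, assoc, nat, Functor.comp_map]
  have := congrArg (· ≫ Q.map ((CochainComplex.singleFunctor C m).map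
    (pushout.inl φ (K'.fromOpcycles m m')))) hg
  simp only [assoc] at this
  refine this.trans ?_
  rw [← Functor.map_comp]
  exact (congrArg (inv (Q.map s) ≫ ·) hQ).trans comp_zero

end

variable [HasExt.{w} C]

/-- A positive degree Ext class is killed by some monomorphism out of its target. -/
lemma exists_mono_comp_ext_eq_zero {X Y : C} (n : ℕ) (x : Abelian.Ext X Y (n + 1)) :
    ∃ (E : C) (ι : Y ⟶ E), Mono ι ∧ x.comp (Abelian.Ext.mk₀ ι) (add_zero _) = 0 := by
  letI := HasDerivedCategory.standard C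
  let sh := (DerivedCategory.singleFunctors C).shiftIso ((n + 1 : ℕ) : ℤ) (-((n + 1 : ℕ) : ℤ)) 0
    (by omega)
  obtain ⟨E, ι, hι, h⟩ := exists_mono_comp_single_eq_zero (X := (DerivedCategory.singleFunctor C 0).obj X)
    (-((n + 1 : ℕ) : ℤ)) (Y := Y)
    (IsZero.of_iso (HomologicalComplex.isZero_single_obj_homology _ _ _ _ (by omega))
      ((DerivedCategory.homologyFunctor C _).mapIso ((singleFunctorIsoCompQ C 0).app X) ≪≫
        (homologyFunctorFactors C _).app _))
    (x.hom ≫ sh.hom.app Y)
  refine ⟨E, ι, hι, Abelian.Ext.ext ?_⟩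
  rw [Abelian.Ext.comp_hom, Abelian.Ext.mk₀_hom, ShiftedHom.comp_mk₀, Abelian.Ext.zero_hom,
    ← cancel_mono (sh.hom.app E), zero_comp, assoc]
  have nat := sh.hom.naturality ι
  exact (congrArg (x.hom ≫ ·) nat).trans ((assoc _ _ _).symm.trans h)

/-- If all Ext classes of degree `n` vanish, so do those of degree `n + 1`. -/
lemma ext_succ_eq_zero (n : ℕ) (h : ∀ (B C' : C) (x : Abelian.Ext B C' n), x = 0) (X Y : C)
    (x : Abelian.Ext X Y (n + 1)) : x = 0 := by
  obtain ⟨E, ι, hι, hx⟩ := exists_mono_comp_ext_eq_zero n x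
  let S := ShortComplex.mk ι (cokernel.π ι) (cokernel.condition ι)
  have hS : S.ShortExact := { exact := ShortComplex.exact_cokernel ι }
  obtain ⟨y, rfl⟩ := Abelian.Ext.covariant_sequence_exact₁ _ hS x hx rfl
  rw [h _ _ y, Abelian.Ext.zero_comp]

end Groth.Agent.TriCat
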