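import Groth.Agent.TriCat.Sums
import Groth.Agent.TriCat.Compact
import Groth.Prelude.Def_DerLim
import Mathlib.CategoryTheory.Functor.OfSequence

/-! Sequential homotopy colimits. -/

universe w v u

open CategoryTheory Category Limits Pretriangulated Opposite DerLim

namespace Groth.Agent.TriCat

lemma hasCountableCoproducts_of_hasCoproducts (D : Type u) [Category.{v} D] [HasCoproducts.{v} D] :
    HasColimitsOfShape (Discrete ℕ) D :=
  hasColimitsOfShape_of_equivalence (Discrete.equivalence (Equiv.ulift.{v} : ULift.{v} ℕ ≃ ℕ))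

variable {D : Type u} [Category.{v} D] [Preadditive D]

lemma cocone_of_succ {C : Type*} [Category C] (F : ℕ ⥤ C) {L : C} (i : ∀ n, F.obj n ⟶ L)
    (hi : ∀ n, F.map (homOfLE (Nat.le_succ n)) ≫ i (n + 1) = i n) {m n : ℕ} (h : m ≤ n) :
    F.map (homOfLE h) ≫ i n = i m := by
  induction n, h using Nat.le_induction with
  | base => exact (congrArg (· ≫ i m) (F.map_id m)).trans (id_comp _)
  | succ k hk ih => rw [← homOfLE_comp hk (Nat.le_succ k), F.map_comp, assoc, hi, ih]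

section

variable (K : ℕ → D) (f : ∀ n, K n ⟶ K (n + 1)) [HasCoproduct K]

@[reassoc]
lemma ι_shiftMap (n : ℕ) : Sigma.ι K n ≫ shiftMap K f = f n ≫ Sigma.ι K (n + 1) := by
  simp [shiftMap]

lemma ι_one_sub_shiftMap (n : ℕ) :
    Sigma.ι K n ≫ (𝟙 (∐ K) - shiftMap K f) = Sigma.ι K n - f n ≫ Sigma.ι K (n + 1) := by
  rw [Preadditive.comp_sub, ι_shiftMap, comp_id]

lemma one_sub_shiftMap_proj_zero :
    (𝟙 (∐ K) - shiftMap K f) ≫ coprodProj K 0 = coprodProj K 0 := by
  ext n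
  rw [← assoc, ι_one_sub_shiftMap, Preadditive.sub_comp, assoc,
    ι_coprodProj_ne (i := 0) (j := n + 1) (Nat.succ_ne_zero n), comp_zero, sub_zero]

lemma one_sub_shiftMap_proj_succ (m : ℕ) :
    (𝟙 (∐ K) - shiftMap K f) ≫ coprodProj K (m + 1) =
      coprodProj K (m + 1) - coprodProj K m ≫ f m := by
  ext n
  rw [← assoc, ι_one_sub_shiftMap, Preadditive.sub_comp, assoc, Preadditive.comp_sub]
  congr 1
  rcases eq_or_ne n m with rfl | h
  · rw [ι_coprodProj_self, comp_id, ι_coprodProj_self_assoc]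
  · rw [ι_coprodProj_ne (by omega), comp_zero, ι_coprodProj_ne_assoc h, zero_comp]

/-- A morphism of finite support killed by `1 - shift` is zero. -/
lemma eq_zero_of_finFactor_comp_one_sub_shiftMap {C : D} {y : C ⟶ ∐ K} (hy : FinFactor y)
    (h : y ≫ (𝟙 (∐ K) - shiftMap K f) = 0) : y = 0 := by
  classical
  have hp : ∀ m, y ≫ coprodProj K m = 0 := by
    intro m
    induction m with
    | zero => rw [← one_sub_shiftMap_proj_zero K f, ← assoc, h, zero_comp]
    | succ m ih =>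
      have : y ≫ (𝟙 (∐ K) - shiftMap K f) ≫ coprodProj K (m + 1) = 0 := by
        rw [← assoc, h, zero_comp]
      rw [one_sub_shiftMap_proj_succ, Preadditive.comp_sub, ← assoc, ih, zero_comp, sub_zero] at this
      exact this
  obtain ⟨s, a, rfl⟩ := hy
  refine Finset.sum_eq_zero fun i hi => ?_
  have := hp i
  rw [Preadditive.sum_comp, Finset.sum_eq_single i] at this
  · rw [assoc, ι_coprodProj_self, comp_id] at this
    rw [this, zero_comp]
  · intro j _ hj
    rw [assoc, ι_coprodProj_ne hj, comp_zero]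
  · exact fun h => absurd hi h

end

/-- `1 - shift` is a split monomorphism on a countable sum of copies of one object. -/
lemma eq_zero_of_comp_one_sub_shiftMap_const {Q : D} [HasCoproduct (fun _ : ℕ => Q)] {C : D}
    {y : C ⟶ ∐ fun _ : ℕ => Q}
    (h : y ≫ (𝟙 _ - shiftMap (fun _ : ℕ => Q) (fun _ => 𝟙 Q)) = 0) : y = 0 := by
  let r : (∐ fun _ : ℕ => Q) ⟶ ∐ fun _ : ℕ => Q :=
    Sigma.desc fun n => -∑ k ∈ Finset.range n, Sigma.ι (fun _ : ℕ => Q) k
  have hr : (𝟙 _ - shiftMap (fun _ : ℕ => Q) (fun _ => 𝟙 Q)) ≫ r = 𝟙 _ := by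
    ext n
    rw [← assoc, ι_one_sub_shiftMap, Preadditive.sub_comp, assoc, comp_id]
    simp [r, Finset.sum_range_succ]
  rw [← comp_id y, ← hr, ← assoc, h, zero_comp]

variable [HasZeroObject D] [HasShift D ℤ] [∀ n : ℤ, (shiftFunctor D n).Additive] [Pretriangulated D]

section

variable {K : ℕ → D} {f : ∀ n, K n ⟶ K (n + 1)} [HasCoproduct K] {L : D} {i : ∀ n, K n ⟶ L}

lemma exists_isHocolim (K : ℕ → D) (f : ∀ n, K n ⟶ K (n + 1)) [HasCoproduct K] :
    ∃ (L : D) (i : ∀ n, K n ⟶ L), IsHocolim K f L i := by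
  obtain ⟨L, g, c, h⟩ := distinguished_cocone_triangle (𝟙 (∐ K) - shiftMap K f)
  refine ⟨L, fun n => Sigma.ι K n ≫ g, c, ?_⟩
  have : Sigma.desc (fun n => Sigma.ι K n ≫ g) = g := by ext n; simp
  rwa [this]

lemma IsHocolim.comp_i (hL : IsHocolim K f L i) (n : ℕ) : f n ≫ i (n + 1) = i n := by
  obtain ⟨c, hc⟩ := hL
  have : (𝟙 (∐ K) - shiftMap K f) ≫ Sigma.desc i = 0 := comp_distTriang_mor_zero₁₂ _ hc
  have := (reassoc_of% (ι_one_sub_shiftMap K f n)) (Sigma.desc i)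
  rw [‹(𝟙 (∐ K) - shiftMap K f) ≫ Sigma.desc i = 0›, comp_zero, Preadditive.sub_comp,
    assoc, Sigma.ι_desc, Sigma.ι_desc] at this
  exact (sub_eq_zero.1 this.symm).symm

lemma IsHocolim.exists_desc (hL : IsHocolim K f L i) {Y : D} (g : ∀ n, K n ⟶ Y)
    (hg : ∀ n, f n ≫ g (n + 1) = g n) : ∃ h : L ⟶ Y, ∀ n, i n ≫ h = g n := by
  obtain ⟨c, hc⟩ := hL
  obtain ⟨h, hh⟩ := Triangle.yoneda_exact₂ _ hc (Sigma.desc g) (by
    show (𝟙 (∐ K) - shiftMap K f) ≫ Sigma.desc g = 0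
    ext n
    rw [← assoc, ι_one_sub_shiftMap, Preadditive.sub_comp, assoc]
    simp [hg])
  refine ⟨h, fun n => ?_⟩
  have := congrArg (Sigma.ι K n ≫ ·) hh
  simp only [Sigma.ι_desc] at this
  rw [this]
  exact (Sigma.ι_desc_assoc i n h).symm

/-- The long exact sequence at a test object for which `1 - shift` is injective on both sides. -/
lemma IsHocolim.exists_lift_of_injective (hL : IsHocolim K f L i) {C : D}
    (hinj : ∀ y : C ⟶ (∐ K)⟦(1 : ℤ)⟧, y ≫ (𝟙 (∐ K) - shiftMap K f)⟦(1 : ℤ)⟧' = 0 → y = 0)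
    (g : C ⟶ L) : ∃ ψ : C ⟶ ∐ K, g = ψ ≫ Sigma.desc i := by
  obtain ⟨c, hc⟩ := hL
  refine Triangle.coyoneda_exact₂ _ (rot_of_distTriang _ hc) g ?_ |>.imp fun _ h => h
  refine hinj _ ?_
  have : c ≫ (𝟙 (∐ K) - shiftMap K f)⟦(1 : ℤ)⟧' = 0 := comp_distTriang_mor_zero₃₁ _ hc
  show (g ≫ c) ≫ _ = 0
  rw [assoc, this, comp_zero]

end

section Compact

variable {K : ℕ → D} {f : ∀ n, K n ⟶ K (n + 1)} [HasCoproducts.{v} D]
  [HasColimitsOfShape (Discrete ℕ) D] {L : D} {i : ∀ n, K n ⟶ L}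

lemma finFactor_of_isCompactObject {C : D} (hC : CohDer.IsCompactObject C) (g : C ⟶ ∐ K) :
    FinFactor g := by
  classical
  let e : (∐ fun k : ULift.{v} ℕ => K k.down) ≅ ∐ K :=
    { hom := Sigma.desc fun k => Sigma.ι K k.down
      inv := Sigma.desc fun n => Sigma.ι (fun k : ULift.{v} ℕ => K k.down) ⟨n⟩
      hom_inv_id := by ext ⟨n⟩; simp
      inv_hom_id := by ext n; simp }
  obtain ⟨s, a, ha⟩ := IsCompactObject.finFactor hC (g ≫ e.inv)
  refine ⟨s.image ULift.down, fun n => a ⟨n⟩, ?_⟩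
  rw [Finset.sum_image (fun _ _ _ _ h => ULift.ext _ _ h), ← comp_id g, ← e.inv_hom_id,
    ← assoc, ha, Preadditive.sum_comp]
  exact Finset.sum_congr rfl fun k _ => by simp [e]

lemma shift_one_sub_injective_of_compact {C : D} (hC : CohDer.IsCompactObject C)
    (y : C ⟶ (∐ K)⟦(1 : ℤ)⟧) (hy : y ≫ (𝟙 (∐ K) - shiftMap K f)⟦(1 : ℤ)⟧' = 0) : y = 0 := by
  let e : C⟦(-1 : ℤ)⟧⟦(1 : ℤ)⟧ ≅ C := (shiftFunctorCompIsoId D (-1 : ℤ) 1 (by simp)).app C
  obtain ⟨y0, hy0⟩ := (shiftFunctor D (1 : ℤ)).map_surjective (e.hom ≫ y)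
  have : y0 ≫ (𝟙 (∐ K) - shiftMap K f) = 0 := by
    apply (shiftFunctor D (1 : ℤ)).map_injective
    rw [Functor.map_comp, hy0, assoc, hy, comp_zero, Functor.map_zero]
  have := eq_zero_of_finFactor_comp_one_sub_shiftMap K f
    (finFactor_of_isCompactObject (isCompactObject_shift hC (-1)) y0) this
  rw [← cancel_epi e.hom, ← hy0, this, Functor.map_zero, comp_zero]

lemma sum_comp_eq_trans (hL : IsHocolim K f L i) {m n : ℕ} (h : m ≤ n) :
    (Functor.ofSequence f).map (homOfLE h) ≫ i n = i m :=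
  cocone_of_succ (Functor.ofSequence f) i (fun k => by
    rw [show (Functor.ofSequence f).map (homOfLE (Nat.le_succ k)) = f k from
      Functor.ofSequence_map_homOfLE_succ f k]
    exact IsHocolim.comp_i hL k) h

/-- A map from a compact object into a homotopy colimit factors through a finite stage. -/
lemma IsHocolim.exists_factor (hL : IsHocolim K f L i) {C : D} (hC : CohDer.IsCompactObject C)
    (g : C ⟶ L) : ∃ (n : ℕ) (g' : C ⟶ K n), g' ≫ i n = g := by
  classical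
  obtain ⟨ψ, rfl⟩ := IsHocolim.exists_lift_of_injective hL (shift_one_sub_injective_of_compact hC) g
  obtain ⟨s, a, rfl⟩ := finFactor_of_isCompactObject hC ψ
  refine ⟨s.sup id, ∑ j ∈ s, if h : j ≤ s.sup id then
    a j ≫ (Functor.ofSequence f).map (homOfLE h) else 0, ?_⟩
  rw [Preadditive.sum_comp, Preadditive.sum_comp]
  refine Finset.sum_congr rfl fun j hj => ?_
  have h : j ≤ s.sup id := Finset.le_sup (f := id) hj
  rw [dif_pos h]
  exact (assoc _ _ _).trans ((congrArg (a j ≫ ·) ((sum_comp_eq_trans hL h).trans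
    (Sigma.ι_desc i j).symm)).trans (assoc _ _ _).symm)

end Compact

end Groth.Agent.TriCat
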