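import Mathlib.CategoryTheory.Triangulated.Generators

/-! Finite products in the steps of a triangulated envelope. -/

universe v u

open CategoryTheory Category Limits Pretriangulated

namespace Groth.Agent.TriCat

variable {D : Type u} [Category.{v} D] [Preadditive D] [HasZeroObject D] [HasShift D ℤ]
  [∀ n : ℤ, (shiftFunctor D n).Additive] [Pretriangulated D]

lemma retractClosure_closedUnderBinaryProducts (P : ObjectProperty D)
    [P.IsClosedUnderBinaryProducts] : P.retractClosure.IsClosedUnderBinaryProducts where
  limitsOfShape_le := by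
    rintro X ⟨p⟩
    choose Y hY hr using p.prop_diag_obj
    let r := fun j => (hr j).some
    let e : X ≅ ∏ᶜ fun j : WalkingPair => p.diag.obj ⟨j⟩ :=
      p.isLimit.conePointUniqueUpToIso (limit.isLimit p.diag) ≪≫
        HasLimit.isoOfNatIso (Discrete.natIso fun ⟨j⟩ => Iso.refl _)
    refine ⟨∏ᶜ fun j : WalkingPair => Y ⟨j⟩,
      P.prop_limit _ fun ⟨j⟩ => hY ⟨j⟩, ⟨?_⟩⟩
    exact { i := e.hom ≫ Limits.Pi.map fun j => (r ⟨j⟩).i
            r := Limits.Pi.map (fun j => (r ⟨j⟩).r) ≫ e.inv
            retract := by
              rw [assoc, ← assoc (Limits.Pi.map _) (Limits.Pi.map _), Limits.Pi.map_comp_map]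
              simp }

lemma extensionProduct_closedUnderBinaryProducts (P Q : ObjectProperty D)
    [P.IsClosedUnderBinaryProducts] [Q.IsClosedUnderBinaryProducts] :
    (ObjectProperty.extensionProduct P Q).IsClosedUnderBinaryProducts where
  limitsOfShape_le := by
    rintro X ⟨p⟩
    choose Y Z f g h hT hY hZ using p.prop_diag_obj
    let e : X ≅ ∏ᶜ fun j : WalkingPair => p.diag.obj ⟨j⟩ :=
      p.isLimit.conePointUniqueUpToIso (limit.isLimit p.diag) ≪≫
        HasLimit.isoOfNatIso (Discrete.natIso fun ⟨j⟩ => Iso.refl _)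
    let T : WalkingPair → Triangle D := fun j => Triangle.mk (f ⟨j⟩) (g ⟨j⟩) (h ⟨j⟩)
    refine ObjectProperty.prop_of_iso _ e.symm
      ⟨_, _, _, _, _, productTriangle_distinguished T (fun j => hT ⟨j⟩),
        P.prop_limit _ fun ⟨j⟩ => hY ⟨j⟩, Q.prop_limit _ fun ⟨j⟩ => hZ ⟨j⟩⟩

lemma extensionProductIter_closedUnderBinaryProducts (P : ObjectProperty D)
    [P.IsClosedUnderBinaryProducts] (n : ℕ) :
    (P.extensionProductIter n).IsClosedUnderBinaryProducts := by
  induction n with
  | zero => assumption
  | succ n ih =>
    rw [ObjectProperty.extensionProductIter_succ]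
    exact extensionProduct_closedUnderBinaryProducts P _

lemma triangEnvelopeIter_closedUnderBinaryProducts (P : ObjectProperty D) (n : ℕ) :
    (P.triangEnvelopeIter n).IsClosedUnderBinaryProducts := by
  have := retractClosure_closedUnderBinaryProducts ((P.shiftClosure ℤ).binaryProductsClosure)
  have := extensionProductIter_closedUnderBinaryProducts
    ((P.shiftClosure ℤ).binaryProductsClosure.retractClosure) n
  exact retractClosure_closedUnderBinaryProducts _

lemma exists_triangEnvelopeIter_le [IsTriangulated D] (P Q : ObjectProperty D) (m : ℕ)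
    (h : P ≤ Q.triangEnvelopeIter m) (n : ℕ) :
    ∃ N, P.triangEnvelopeIter n ≤ Q.triangEnvelopeIter N := by
  have hbase : (P.shiftClosure ℤ).binaryProductsClosure.retractClosure ≤ Q.triangEnvelopeIter m := by
    have := triangEnvelopeIter_closedUnderBinaryProducts Q m
    rw [ObjectProperty.retractClosure_le_iff]
    refine ObjectProperty.limitsClosure_le ?_
    rwa [ObjectProperty.shiftClosure_le_iff]
  induction n with
  | zero => exact ⟨m, by rwa [ObjectProperty.triangEnvelopeIter_zero]⟩
  | succ n ih =>
    obtain ⟨N, hN⟩ := ih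
    refine ⟨m + (N + 1), ?_⟩
    rw [ObjectProperty.triangEnvelopeIter_succ, ObjectProperty.triangEnvelopeIter_add' Q rfl]
    exact ObjectProperty.monotone_retractClosure
      ((ObjectProperty.monotone_extensionProduct_left _ hbase).trans
        (ObjectProperty.monotone_extensionProduct_right _ hN))

end Groth.Agent.TriCat
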