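import Groth.Agent.TriCat.AcyclicObj

/-! The unit of `rightDerivedFunctorPlus` on objects. -/

universe w w' v v' u u'

open CategoryTheory Category Limits HomologicalComplex

namespace Groth.Agent.TriCat

variable {C : Type u} [Category.{v} C] [Abelian C] [HasDerivedCategory.{w} C] [EnoughInjectives C]
  {D : Type u'} [Category.{v'} D] [Abelian D] [HasDerivedCategory.{w'} D] (F : C ⥤ D) [F.Additive]

lemma isIso_unit_iff' {K J : CochainComplex.Plus C} (q : K ⟶ J) [QuasiIso q.hom]
    [∀ n, Injective (J.obj.X n)] :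
    IsIso (F.rightDerivedFunctorPlusUnit.app ((HomotopyCategory.Plus.quotient C).obj K)) ↔
      QuasiIso ((F.mapHomologicalComplex (ComplexShape.up ℤ)).map q.hom) := by
  let q' := (HomotopyCategory.Plus.quotient C).map q
  have hq : IsIso (DerivedCategory.Plus.Qh.map q') :=
    (isIso_plusQh_quotient_map_iff q).2 inferInstance
  have nat := F.rightDerivedFunctorPlusUnit.naturality q'
  have hJ : IsIso (F.rightDerivedFunctorPlusUnit.app ((HomotopyCategory.Plus.quotient C).obj J)) :=
    inferInstance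
  have hR : IsIso ((DerivedCategory.Plus.Qh ⋙ F.rightDerivedFunctorPlus).map q') :=
    F.rightDerivedFunctorPlus.map_isIso (DerivedCategory.Plus.Qh.map q')
  rw [← isIso_mapPlusQh_iff F q]
  constructor
  · intro h
    have h2 : IsIso ((F.mapHomotopyCategoryPlus ⋙ DerivedCategory.Plus.Qh).map q' ≫
        F.rightDerivedFunctorPlusUnit.app _) := nat ▸ IsIso.comp_isIso
    exact IsIso.of_isIso_comp_right ((F.mapHomotopyCategoryPlus ⋙ DerivedCategory.Plus.Qh).map q')
      (F.rightDerivedFunctorPlusUnit.app _)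
  · intro h
    have h' : IsIso ((F.mapHomotopyCategoryPlus ⋙ DerivedCategory.Plus.Qh).map q') := h
    have h2 : IsIso (F.rightDerivedFunctorPlusUnit.app ((HomotopyCategory.Plus.quotient C).obj K) ≫
        (DerivedCategory.Plus.Qh ⋙ F.rightDerivedFunctorPlus).map q') := nat ▸ IsIso.comp_isIso
    exact IsIso.of_isIso_comp_right _ ((DerivedCategory.Plus.Qh ⋙ F.rightDerivedFunctorPlus).map q')

omit [HasDerivedCategory.{w} C] [HasDerivedCategory.{w'} D] [EnoughInjectives C] in
/-- `toRightDerivedZero'` is an isomorphism iff the augmentation is a quasi-iso in degree zero. -/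
lemma quasiIsoAt_zero_iff {X : C} (R : InjectiveResolution X) :
    QuasiIsoAt ((F.mapHomologicalComplex (ComplexShape.up ℕ)).map R.ι) 0 ↔
      IsIso (R.toRightDerivedZero' F) := by
  let S := (F.mapHomologicalComplex (ComplexShape.up ℕ)).obj ((CochainComplex.single₀ C).obj X)
  let φ := (F.mapHomologicalComplex (ComplexShape.up ℕ)).map R.ι
  rw [quasiIsoAt_iff_isIso_homologyMap]
  have hd : ∀ j, S.d 0 j = 0 := fun j => by
    show F.map (((CochainComplex.single₀ C).obj X).d 0 j) = 0
    simp
    exact F.map_zero _ _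
  have hi : IsIso (S.iCycles 0) := S.isIso_iCycles 0 1 (by simp) (hd 1)
  let a : F.obj X ⟶ S.cycles 0 := @CategoryTheory.inv _ _ _ _ (S.iCycles 0) hi
  have hai : IsIso a := inferInstanceAs (IsIso (@CategoryTheory.inv _ _ _ _ (S.iCycles 0) hi))
  have ha : a ≫ cyclesMap φ 0 = R.toRightDerivedZero' F := by
    rw [← cancel_mono (HomologicalComplex.iCycles _ _), assoc, cyclesMap_i,
      InjectiveResolution.toRightDerivedZero'_comp_iCycles]
    exact @IsIso.inv_hom_id_assoc _ _ _ _ (S.iCycles 0) hi _ _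
  have hπ : homologyπ S 0 ≫ homologyMap φ 0 = cyclesMap φ 0 ≫ homologyπ _ 0 :=
    homologyπ_naturality φ 0
  rw [← ha, isIso_comp_left_iff]
  constructor
  · intro h
    have : IsIso (cyclesMap φ 0 ≫ homologyπ _ 0) := hπ ▸ IsIso.comp_isIso
    exact IsIso.of_isIso_comp_right (cyclesMap φ 0) (homologyπ _ 0)
  · intro h
    have : IsIso (homologyπ S 0 ≫ homologyMap φ 0) := hπ ▸ IsIso.comp_isIso
    exact IsIso.of_isIso_comp_left (homologyπ S 0) (homologyMap φ 0)

omit [HasDerivedCategory.{w} C] [HasDerivedCategory.{w'} D] [EnoughInjectives C] [Abelian C] in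
lemma quasiIso_map_iff_of_eq_comp {E : Type*} [Category E] {ι : Type*} {c : ComplexShape ι}
    (G : E ⥤ HomologicalComplex D c) {P Q R : E} (e : P ≅ Q) (f : Q ⟶ R) (g : P ⟶ R)
    (h : g = e.hom ≫ f) : QuasiIso (G.map g) ↔ QuasiIso (G.map f) := by
  subst h
  rw [G.map_comp, quasiIso_iff_comp_left]

omit [HasDerivedCategory.{w} C] [HasDerivedCategory.{w'} D] [EnoughInjectives C] [Abelian C] in
lemma quasiIso_iff_of_sq {ι : Type*} {c : ComplexShape ι} {P Q P' Q' : HomologicalComplex D c}
    (a : P ⟶ Q) (i : Q ≅ Q') (j : P ≅ P') (b : P' ⟶ Q') (h : a ≫ i.hom = j.hom ≫ b) :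
    QuasiIso a ↔ QuasiIso b := by
  rw [← quasiIso_iff_comp_right a i.hom, h, quasiIso_iff_comp_left]

omit [HasDerivedCategory.{w} C] [HasDerivedCategory.{w'} D] [EnoughInjectives C] [Abelian C] [Abelian D] in
lemma isIso_comp_iso_iff {P Q R S : D} (a : P ⟶ Q) (i : Q ≅ R) (j : S ≅ R) (g : P ⟶ S)
    (h : g = a ≫ i.hom ≫ j.inv) : IsIso g ↔ IsIso a := by
  subst h
  rw [isIso_comp_right_iff]

lemma isIso_unit_single_iff (X : C) :
    IsIso (F.rightDerivedFunctorPlusUnit.app ((HomotopyCategory.Plus.singleFunctor C 0).obj X)) ↔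
      (IsIso (F.toRightDerivedZero.app X) ∧ IsRightAcyclic F X) := by
  let R := injectiveResolution X
  have hJ : ∀ n, Injective ((resPlus R).obj.X n) := fun n =>
    inferInstanceAs (Injective (R.cochainComplex.X n))
  have hq : QuasiIso (augPlus R).hom := inferInstanceAs (QuasiIso R.ι')
  rw [show IsIso (F.rightDerivedFunctorPlusUnit.app ((HomotopyCategory.Plus.singleFunctor C 0).obj X)) ↔
      IsIso (F.rightDerivedFunctorPlusUnit.app ((HomotopyCategory.Plus.quotient C).obj
        (singlePlusFunctor.obj X))) from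
    NatTrans.isIso_app_iff_of_iso F.rightDerivedFunctorPlusUnit
      (Iso.refl _ : (HomotopyCategory.Plus.singleFunctor C 0).obj X ≅
        (HomotopyCategory.Plus.quotient C).obj (singlePlusFunctor.obj X)),
    isIso_unit_iff' F (augPlus R)]
  show QuasiIso ((F.mapHomologicalComplex (ComplexShape.up ℤ)).map R.ι') ↔ _
  have e1 : R.ι' = (HomologicalComplex.extendSingleIso _ _ _ _ (by simp)).inv ≫
      HomologicalComplex.extendMap R.ι ComplexShape.embeddingUpNat := rfl
  refine (quasiIso_map_iff_of_eq_comp (F.mapHomologicalComplex (ComplexShape.up ℤ))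
    (HomologicalComplex.extendSingleIso ComplexShape.embeddingUpNat X 0 0 (by simp)).symm _ _ e1).trans ?_
  have hnat := mapExtendIso_hom_naturality F ComplexShape.embeddingUpNat R.ι
  refine (quasiIso_iff_of_sq _ _ _ _ hnat).trans ?_
  rw [quasiIso_extendMap_iff]
  refine Iff.trans ?_ (and_congr_left' (isIso_comp_iso_iff _ _ _ _
    (InjectiveResolution.toRightDerivedZero_eq R F)).symm)
  rw [← quasiIsoAt_zero_iff]
  have hexact : ∀ i : ℕ, 0 < i →
      ((F.mapHomologicalComplex (ComplexShape.up ℕ)).obj ((CochainComplex.single₀ C).obj X)).ExactAt i :=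
    fun i hi => ShortComplex.exact_of_isZero_X₂ _
      (F.map_isZero (HomologicalComplex.isZero_single_obj_X (ComplexShape.up ℕ) 0 X i hi.ne'))
  have key : ∀ i : ℕ, 0 < i →
      (QuasiIsoAt ((F.mapHomologicalComplex (ComplexShape.up ℕ)).map R.ι) i ↔
        IsZero ((F.rightDerived i).obj X)) := fun i hi => by
    rw [quasiIsoAt_iff_exactAt _ _ (hexact i hi), exactAt_iff_isZero_homology]
    exact (R.isoRightDerivedObj F i).isZero_iff.symm
  constructor
  · intro h
    exact ⟨inferInstance, fun i hi => (key i hi).1 inferInstance⟩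
  · rintro ⟨h0, hi⟩
    refine ⟨fun i => ?_⟩
    rcases Nat.eq_zero_or_pos i with rfl | h
    · exact h0
    · exact (key i h).2 (hi i h)

end Groth.Agent.TriCat
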