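import Groth.Agent.TriCat.SeqColimit
import Mathlib.CategoryTheory.Triangulated.HomologicalFunctor
import Mathlib.CategoryTheory.Limits.Preserves.Shapes.Products

/-! Homological functors and sequential homotopy colimits. -/

universe v v' u u'

open CategoryTheory Category Limits Pretriangulated DerLim

namespace Groth.Agent.TriCat

attribute [local instance] Abelian.hasFiniteBiproducts

section

variable {D : Type u} [Category.{v} D] [Preadditive D] [HasColimitsOfShape (Discrete ℕ) D]
  {A : Type u'} [Category.{v'} A] [Abelian A] [HasColimitsOfShape (Discrete ℕ) A]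
  (G : D ⥤ A) [G.Additive] [PreservesColimitsOfShape (Discrete ℕ) G]
  (K : ℕ → D) (f : ∀ n, K n ⟶ K (n + 1))

omit [PreservesColimitsOfShape (Discrete ℕ) G] in
lemma sigmaComparison_one_sub_shiftMap :
    sigmaComparison G K ≫ G.map (𝟙 (∐ K) - shiftMap K f) =
      (𝟙 _ - shiftMap (fun n => G.obj (K n)) (fun n => G.map (f n))) ≫ sigmaComparison G K := by
  refine Sigma.hom_ext _ _ fun n => ?_
  rw [← assoc (Sigma.ι (fun n => G.obj (K n)) n) (𝟙 _ - shiftMap _ _), ι_one_sub_shiftMap,
    Preadditive.sub_comp, assoc, ι_comp_sigmaComparison, ι_comp_sigmaComparison, ← assoc,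
    ι_comp_sigmaComparison, ← G.map_comp, ι_one_sub_shiftMap, G.map_sub, G.map_comp]

lemma mono_map_one_sub_shiftMap [HasColimitsOfShape ℕ A] [HasExactColimitsOfShape ℕ A] :
    Mono (G.map (𝟙 (∐ K) - shiftMap K f)) := by
  let F := Functor.ofSequence (fun n => G.map (f n))
  have e : (fun n => F.map (homOfLE (Nat.le_succ n))) = fun n => G.map (f n) :=
    funext fun n => Functor.ofSequence_map_homOfLE_succ _ n
  have h := mono_one_sub_shiftMap F
  rw [e] at h
  have h' : Mono (𝟙 _ - shiftMap (fun n => G.obj (K n)) (fun n => G.map (f n))) := h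
  rw [← IsIso.inv_hom_id_assoc (sigmaComparison G K) (G.map (𝟙 (∐ K) - shiftMap K f)),
    sigmaComparison_one_sub_shiftMap]
  infer_instance

end

variable {D : Type u} [Category.{v} D] [Preadditive D] [HasZeroObject D] [HasShift D ℤ]
  [∀ n : ℤ, (shiftFunctor D n).Additive] [Pretriangulated D] [HasColimitsOfShape (Discrete ℕ) D]
  {A : Type u'} [Category.{v'} A] [Abelian A] [HasColimitsOfShape ℕ A] [HasExactColimitsOfShape ℕ A]
  [HasColimitsOfShape (Discrete ℕ) A]

theorem exists_colimit_iso (H : D ⥤ A) [H.IsHomological] [PreservesColimitsOfShape (Discrete ℕ) H]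
    (K : ℕ → D) (f : ∀ n, K n ⟶ K (n + 1)) (L : D) (i : ∀ n, K n ⟶ L) (hL : IsHocolim K f L i) :
    ∃ e : colimit (Functor.ofSequence fun n => H.map (f n)) ≅ H.obj L,
      ∀ n, colimit.ι (Functor.ofSequence fun n => H.map (f n)) n ≫ e.hom = H.map (i n) := by
  obtain ⟨c, hc⟩ := hL
  let F := Functor.ofSequence fun n => H.map (f n)
  let φ := 𝟙 (∐ K) - shiftMap K f
  have h₁ := H.map_distinguished_exact _ hc
  have h₂ := H.map_distinguished_exact _ (rot_of_distTriang _ hc)
  have h₃ := H.map_distinguished_exact _ (rot_of_distTriang _ (rot_of_distTriang _ hc))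
  have hm : Mono (H.map (-φ⟦(1 : ℤ)⟧')) := by
    rw [H.map_neg]
    have : Mono (H.map (φ⟦(1 : ℤ)⟧')) :=
      mono_map_one_sub_shiftMap (shiftFunctor D (1 : ℤ) ⋙ H) K f
    infer_instance
  have hc0 : H.map c = 0 := h₃.mono_g_iff.1 hm
  have hepi : Epi (H.map (Sigma.desc i)) := h₂.epi_f hc0
  let P := fun n => H.obj (K n)
  let σ : (∐ P) ⟶ H.obj (∐ K) := sigmaComparison H K
  have : IsIso σ := inferInstanceAs (IsIso (sigmaComparison H K))
  let g₂ : (∐ P) ⟶ H.obj L := Sigma.desc fun n => H.map (i n)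
  have hg₂ : σ ≫ H.map (Sigma.desc i) = g₂ := by
    refine Sigma.hom_ext _ _ fun n => ?_
    rw [ι_comp_sigmaComparison_assoc, ← H.map_comp, Sigma.ι_desc, Sigma.ι_desc]
  let ψ := 𝟙 (∐ P) - shiftMap P (fun n => H.map (f n))
  have hψ : σ ≫ H.map φ = ψ ≫ σ := sigmaComparison_one_sub_shiftMap H K f
  have w₂ : ψ ≫ g₂ = 0 := by
    rw [← hg₂, ← assoc, ← hψ, assoc, ← H.map_comp,
      show φ ≫ Sigma.desc i = 0 from comp_distTriang_mor_zero₁₂ _ hc, H.map_zero, comp_zero]
  let eσ := asIso σ
  let iso : ShortComplex.mk ψ g₂ w₂ ≅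
      (shortComplexOfDistTriangle _ hc).map H :=
    ShortComplex.isoMk eσ eσ (Iso.refl _) hψ (hg₂.trans (comp_id _).symm)
  have hex₂ : (ShortComplex.mk ψ g₂ w₂).Exact := (ShortComplex.exact_iff_of_iso iso).2 h₁
  have : Epi g₂ := hg₂ ▸ epi_comp σ _
  have : HasCoproduct F.obj := inferInstanceAs (HasCoproduct P)
  have e : (fun n => F.map (homOfLE (Nat.le_succ n))) = fun n => H.map (f n) :=
    funext fun n => Functor.ofSequence_map_homOfLE_succ _ n
  have hT := telescope_shortExact F
  have hTw := telescope_comp_desc F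
  have w₁ : ψ ≫ Sigma.desc (fun n => colimit.ι F n) = 0 := by
    simp only [ψ, ← e]
    exact hTw
  have hex₁ : (ShortComplex.mk ψ (Sigma.desc fun n => colimit.ι F n) w₁).ShortExact := by
    simp only [ψ, ← e]
    exact hT
  have : Epi (Sigma.desc fun n => colimit.ι F n : (∐ P) ⟶ colimit F) := hex₁.epi_g
  let u := IsColimit.coconePointUniqueUpToIso hex₁.exact.gIsCokernel hex₂.gIsCokernel
  refine ⟨u, fun n => ?_⟩
  have := congrArg (Sigma.ι P n ≫ ·)
    (IsColimit.comp_coconePointUniqueUpToIso_hom hex₁.exact.gIsCokernel hex₂.gIsCokernel .one)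
  simp only [g₂] at this
  rw [← Sigma.ι_desc (fun n => colimit.ι F n) n, assoc]
  exact this.trans (Sigma.ι_desc _ n)

end Groth.Agent.TriCat
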