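import Mathlib.CategoryTheory.Triangulated.Orthogonal
import Mathlib.CategoryTheory.Adjunction.Comma

/-! Orthogonal decompositions and adjoints to inclusions of triangulated subcategories. -/

universe v u

open CategoryTheory Category Limits Pretriangulated ZeroObject ObjectProperty

namespace Groth.Agent.TriCat

variable {D : Type u} [Category.{v} D] [Preadditive D] [HasZeroObject D] [HasShift D ℤ]
  [∀ n : ℤ, (shiftFunctor D n).Additive] [Pretriangulated D]

lemma extensionProduct_swap_le {P Q : ObjectProperty D}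
    (h : ∀ p q, P p → Q q → ∀ f : p ⟶ q⟦(1 : ℤ)⟧, f = 0) :
    extensionProduct Q P ≤ extensionProduct P Q := by
  intro X ⟨q, p, f, g, δ, hT, hq, hp⟩
  obtain ⟨e, -⟩ := exists_iso_binaryBiproduct_of_distTriang _ hT (h p q hp hq δ)
  refine (extensionProduct P Q).prop_of_iso (e ≪≫ biprod.braiding q p).symm ?_
  exact ⟨p, q, _, _, _, binaryBiproductTriangle_distinguished p q, hp, hq⟩

lemma extensionProduct_self_le (P : ObjectProperty D) [P.IsTriangulatedClosed₂] :
    extensionProduct P P ≤ P.isoClosure :=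
  extensionProduct_le_of_isTriangulatedClosed₂' le_rfl le_rfl

lemma extensionProduct_isTriangulated [IsTriangulated D] (P Q : ObjectProperty D)
    [P.IsTriangulated] [Q.IsTriangulated]
    (h : ∀ p q, P p → Q q → ∀ f : p ⟶ q⟦(1 : ℤ)⟧, f = 0) :
    (extensionProduct P Q).IsTriangulated where
  exists_zero := by
    obtain ⟨Z, hZ, hPZ⟩ := P.exists_prop_of_containsZero
    exact ⟨Z, hZ, le_extensionProduct_left Q Z hPZ⟩
  toIsTriangulatedClosed₂ := IsTriangulatedClosed₂.mk' fun T hT h₁ h₃ => by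
    have : extensionProduct (extensionProduct P Q) (extensionProduct P Q) ≤ extensionProduct P Q := by
      rw [extensionProduct_assoc, ← extensionProduct_assoc (P := Q)]
      refine le_trans (monotone_extensionProduct_right P
        (monotone_extensionProduct_left Q (extensionProduct_swap_le h))) ?_
      rw [extensionProduct_assoc, ← extensionProduct_assoc]
      refine le_trans (monotone_extensionProduct_left _ (extensionProduct_self_le P)) ?_
      rw [extensionProduct_isoClosure_left]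
      refine le_trans (monotone_extensionProduct_right _ (extensionProduct_self_le Q)) ?_
      rw [extensionProduct_isoClosure_right]
    exact this _ ⟨_, _, _, _, _, hT, h₁, h₃⟩

variable (P : ObjectProperty D) [P.IsTriangulated]

lemma isLeftAdjoint_ι_iff :
    P.ι.IsLeftAdjoint ↔ ∀ X : D, ∃ (A B : D) (f : A ⟶ X) (g : X ⟶ B) (h : B ⟶ A⟦(1 : ℤ)⟧),
      Triangle.mk f g h ∈ distTriang D ∧ P A ∧ P.rightOrthogonal B := by
  rw [isLeftAdjoint_iff_hasTerminal_costructuredArrow]
  constructor
  · intro hX X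
    let t := ⊤_ CostructuredArrow P.ι X
    obtain ⟨A, hA, f, hex, huniq⟩ : ∃ (A : D) (_ : P A) (f : A ⟶ X),
        (∀ (A' : D), P A' → ∀ k : A' ⟶ X, ∃ l : A' ⟶ A, l ≫ f = k) ∧
        (∀ (A' : D), P A' → ∀ l : A' ⟶ A, l ≫ f = 0 → l = 0) := by
      refine ⟨t.left.obj, t.left.property, t.hom, fun A' hA' k => ?_, fun A' hA' l hl => ?_⟩
      · let y : CostructuredArrow P.ι X := CostructuredArrow.mk (Y := (⟨A', hA'⟩ : P.FullSubcategory)) k
        exact ⟨(terminal.from y).left.hom, CostructuredArrow.w (terminal.from y)⟩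
      · let y : CostructuredArrow P.ι X :=
          CostructuredArrow.mk (Y := (⟨A', hA'⟩ : P.FullSubcategory)) (0 : A' ⟶ X)
        let a : y ⟶ t := CostructuredArrow.homMk (ObjectProperty.homMk l) hl
        let b : y ⟶ t := CostructuredArrow.homMk (ObjectProperty.homMk 0) zero_comp
        have : a = b := Subsingleton.elim _ _
        exact congrArg (fun m : y ⟶ t => m.left.hom) this
    obtain ⟨B, g, h, hT⟩ := distinguished_cocone_triangle f
    refine ⟨A, B, f, g, h, hT, hA, fun A' φ hA' => ?_⟩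
    have h1 : φ ≫ h = 0 := by
      let e : (A'⟦(-1 : ℤ)⟧)⟦(1 : ℤ)⟧ ≅ A' :=
        (shiftFunctorCompIsoId D (-1 : ℤ) 1 (by omega)).app A'
      obtain ⟨l, hl⟩ := (shiftFunctor D (1 : ℤ)).map_surjective (e.hom ≫ φ ≫ h)
      have hl' : l = 0 := huniq _ (P.le_shift _ _ hA') l ((shiftFunctor D (1 : ℤ)).map_injective (by
        rw [Functor.map_comp, Functor.map_zero, hl, assoc, assoc]
        have : h ≫ f⟦(1 : ℤ)⟧' = 0 := comp_distTriang_mor_zero₃₁ _ hT
        rw [this, comp_zero, comp_zero]))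
      rw [hl', Functor.map_zero] at hl
      exact (cancel_epi e.hom).1 (hl.symm.trans comp_zero.symm)
    obtain ⟨k, hk⟩ := Triangle.coyoneda_exact₃ _ hT φ h1
    obtain ⟨l, hl⟩ := hex A' hA' k
    rw [hk, ← hl]
    show (l ≫ f) ≫ g = 0
    have : f ≫ g = 0 := comp_distTriang_mor_zero₁₂ _ hT
    rw [assoc, this, comp_zero]
  · intro hX X
    obtain ⟨A, B, f, g, h, hT, hA, hB⟩ := hX X
    have hex : ∀ y : CostructuredArrow P.ι X, ∃ l : y.left.obj ⟶ A, y.hom = l ≫ f := fun y =>
      Triangle.coyoneda_exact₂ _ hT y.hom (hB _ y.left.property)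
    have huniq : ∀ (A' : D), P A' → ∀ l : A' ⟶ A, l ≫ f = 0 → l = 0 := fun A' hA' l hl => by
      obtain ⟨k, hk⟩ := Triangle.coyoneda_exact₂ _ (inv_rot_of_distTriang _ hT) l hl
      rw [hk, show k = 0 from P.rightOrthogonal.le_shift (-1 : ℤ) B hB k hA']
      exact zero_comp
    choose l hl using hex
    let t : CostructuredArrow P.ι X := CostructuredArrow.mk (Y := (⟨A, hA⟩ : P.FullSubcategory)) f
    exact (IsTerminal.ofUniqueHom (Y := t)
      (fun y => CostructuredArrow.homMk (ObjectProperty.homMk (l y)) (by exact (hl y).symm))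
      (fun y m => by
        apply CostructuredArrow.hom_ext
        apply ObjectProperty.hom_ext
        let m' : y.left.obj ⟶ A := m.left.hom
        show m' = l y
        refine sub_eq_zero.1 (huniq _ y.left.property (m' - l y) ?_)
        rw [Preadditive.sub_comp, ← hl y, sub_eq_zero]
        exact CostructuredArrow.w m)).hasTerminal

lemma isRightAdjoint_ι_iff :
    P.ι.IsRightAdjoint ↔ ∀ X : D, ∃ (A B : D) (f : A ⟶ X) (g : X ⟶ B) (h : B ⟶ A⟦(1 : ℤ)⟧),
      Triangle.mk f g h ∈ distTriang D ∧ P B ∧ P.leftOrthogonal A := by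
  rw [isRightAdjoint_iff_hasInitial_structuredArrow]
  constructor
  · intro hX X
    let t := ⊥_ StructuredArrow X P.ι
    obtain ⟨B, hB, g, hex, huniq⟩ : ∃ (B : D) (_ : P B) (g : X ⟶ B),
        (∀ (B' : D), P B' → ∀ k : X ⟶ B', ∃ l : B ⟶ B', g ≫ l = k) ∧
        (∀ (B' : D), P B' → ∀ l : B ⟶ B', g ≫ l = 0 → l = 0) := by
      refine ⟨t.right.obj, t.right.property, t.hom, fun B' hB' k => ?_, fun B' hB' l hl => ?_⟩
      · let y : StructuredArrow X P.ι := StructuredArrow.mk (Y := (⟨B', hB'⟩ : P.FullSubcategory)) k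
        exact ⟨(initial.to y).right.hom, StructuredArrow.w (initial.to y)⟩
      · let y : StructuredArrow X P.ι :=
          StructuredArrow.mk (Y := (⟨B', hB'⟩ : P.FullSubcategory)) (0 : X ⟶ B')
        let a : t ⟶ y := StructuredArrow.homMk (ObjectProperty.homMk l) hl
        let b : t ⟶ y := StructuredArrow.homMk (ObjectProperty.homMk 0) comp_zero
        have : a = b := Subsingleton.elim _ _
        exact congrArg (fun m : t ⟶ y => m.right.hom) this
    obtain ⟨A, f, h, hT⟩ := distinguished_cocone_triangle₁ g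
    refine ⟨A, B, f, g, h, hT, hB, fun B' φ hB' => ?_⟩
    have h1 : h ≫ φ⟦(1 : ℤ)⟧' = 0 := huniq _ (P.le_shift _ _ hB') _ (by
      have : g ≫ h = 0 := comp_distTriang_mor_zero₂₃ _ hT
      rw [← assoc, this, zero_comp])
    obtain ⟨ψ, hψ⟩ := Triangle.yoneda_exact₃ _ (rot_of_distTriang _ hT) (φ⟦(1 : ℤ)⟧') h1
    obtain ⟨ψ', rfl⟩ : ∃ a : X ⟶ B', a⟦(1 : ℤ)⟧' = ψ :=
      (shiftFunctor D (1 : ℤ)).map_surjective ψ
    obtain ⟨l, hl⟩ := hex B' hB' (-ψ')
    apply (shiftFunctor D (1 : ℤ)).map_injective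
    rw [Functor.map_zero]
    refine hψ.trans ?_
    show (-f⟦(1 : ℤ)⟧') ≫ ψ'⟦(1 : ℤ)⟧' = 0
    have : f ≫ g = 0 := comp_distTriang_mor_zero₁₂ _ hT
    rw [Preadditive.neg_comp, ← Functor.map_comp, neg_eq_zero, ← neg_neg ψ', ← hl,
      Preadditive.comp_neg, reassoc_of% this, zero_comp, neg_zero, Functor.map_zero]
  · intro hX X
    obtain ⟨A, B, f, g, h, hT, hB, hA⟩ := hX X
    have hex : ∀ y : StructuredArrow X P.ι, ∃ l : B ⟶ y.right.obj, y.hom = g ≫ l := fun y =>
      Triangle.yoneda_exact₂ _ hT y.hom (hA _ y.right.property)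
    have huniq : ∀ (B' : D), P B' → ∀ l : B ⟶ B', g ≫ l = 0 → l = 0 := fun B' hB' l hl => by
      obtain ⟨k, hk⟩ := Triangle.yoneda_exact₃ _ hT l hl
      rw [hk, show k = 0 from P.leftOrthogonal.le_shift (1 : ℤ) A hA k hB']
      exact comp_zero
    choose l hl using hex
    let t : StructuredArrow X P.ι := StructuredArrow.mk (Y := (⟨B, hB⟩ : P.FullSubcategory)) g
    exact (IsInitial.ofUniqueHom (X := t)
      (fun y => StructuredArrow.homMk (ObjectProperty.homMk (l y)) (by exact (hl y).symm))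
      (fun y m => by
        apply StructuredArrow.hom_ext
        apply ObjectProperty.hom_ext
        let m' : B ⟶ y.right.obj := m.right.hom
        show m' = l y
        refine sub_eq_zero.1 (huniq _ y.right.property (m' - l y) ?_)
        rw [Preadditive.comp_sub, ← hl y, sub_eq_zero]
        exact StructuredArrow.w m)).hasInitial

end Groth.Agent.TriCat
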