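import Mathlib.CategoryTheory.Triangulated.Opposite.Pretriangulated
import Mathlib.CategoryTheory.Idempotents.Basic
import Mathlib.CategoryTheory.Limits.Shapes.Products

/-! Countable coproducts split idempotents in a pretriangulated category. -/

universe v u

open CategoryTheory Category Limits Pretriangulated ZeroObject

namespace Groth.Agent.TriCat

variable {D : Type u} [Category.{v} D] [Preadditive D] [HasZeroObject D] [HasShift D ℤ]
  [∀ n : ℤ, (shiftFunctor D n).Additive] [Pretriangulated D]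

lemma isIdempotentComplete_of_hasColimitsOfShape [HasColimitsOfShape (Discrete ℕ) D] :
    IsIdempotentComplete D := by
  refine ⟨fun X e he => ?_⟩
  let ι := fun n : ℕ => Sigma.ι (fun _ : ℕ => X) n
  let σ : (∐ fun _ : ℕ => X) ⟶ ∐ fun _ : ℕ => X := Sigma.desc fun n => e ≫ ι (n + 1)
  let r : (∐ fun _ : ℕ => X) ⟶ ∐ fun _ : ℕ => X :=
    Sigma.desc fun n => (𝟙 X - e) ≫ ι n - e ≫ ∑ j ∈ Finset.range n, ι j
  let q : (∐ fun _ : ℕ => X) ⟶ X := Sigma.desc fun _ => e
  let s : X ⟶ ∐ fun _ : ℕ => X := e ≫ ι 0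
  have hσ : ∀ n, ι n ≫ σ = e ≫ ι (n + 1) := fun n => Sigma.ι_desc _ _
  have hr : ∀ n, ι n ≫ r = (𝟙 X - e) ≫ ι n - e ≫ ∑ j ∈ Finset.range n, ι j :=
    fun n => Sigma.ι_desc _ _
  have hq : ∀ n, ι n ≫ q = e := fun n => Sigma.ι_desc _ _
  have hret : (𝟙 _ - σ) ≫ r = 𝟙 _ := by
    refine Sigma.hom_ext _ _ fun n => ?_
    show ι n ≫ (𝟙 _ - σ) ≫ r = ι n ≫ 𝟙 _
    rw [Preadditive.sub_comp, Preadditive.comp_sub, id_comp, reassoc_of% hσ, hr, hr,
      Finset.sum_range_succ]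
    simp only [Preadditive.comp_sub, Preadditive.comp_add, Preadditive.sub_comp, id_comp,
      reassoc_of% he, comp_id]
    abel
  obtain ⟨L, g, δ, hT⟩ := distinguished_cocone_triangle (𝟙 (∐ fun _ : ℕ => X) - σ)
  have hm : Mono (𝟙 (∐ fun _ : ℕ => X) - σ) := SplitMono.mono ⟨r, hret⟩
  have hg : Epi g := Triangle.epi₂ _ hT (Triangle.mor₃_eq_zero_of_mono₁ _ hT hm)
  have hg0 : (𝟙 (∐ fun _ : ℕ => X) - σ) ≫ g = 0 := comp_distTriang_mor_zero₁₂ _ hT
  have hP : ∀ n, ι n ≫ q ≫ s = ι n - ι n ≫ r ≫ (𝟙 _ - σ) := by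
    intro n
    rw [reassoc_of% hq, reassoc_of% hr]
    simp only [s, reassoc_of% he, Preadditive.sub_comp, assoc, Preadditive.comp_sub,
      Preadditive.sum_comp, hσ, id_comp, comp_id, Preadditive.comp_sum, Finset.sum_sub_distrib]
    have h1 := Finset.sum_range_sub' (fun j => e ≫ ι j) n
    rw [Finset.sum_sub_distrib] at h1
    rw [sub_eq_iff_eq_add'.1 h1]
    abel
  obtain ⟨q', hq'⟩ : ∃ q' : L ⟶ X, q = g ≫ q' := Triangle.yoneda_exact₂ _ hT q (by
    show (𝟙 (∐ fun _ : ℕ => X) - σ) ≫ q = 0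
    refine Sigma.hom_ext _ _ fun n => ?_
    show ι n ≫ (𝟙 _ - σ) ≫ q = ι n ≫ 0
    rw [Preadditive.sub_comp, Preadditive.comp_sub, id_comp, reassoc_of% hσ, hq, hq, he, sub_self,
      comp_zero])
  refine ⟨L, q', s ≫ g, ?_, ?_⟩
  · rw [← cancel_epi g, comp_id, ← assoc g q', ← hq']
    refine Sigma.hom_ext _ _ fun n => ?_
    show ι n ≫ q ≫ s ≫ g = ι n ≫ g
    rw [← assoc q, ← assoc (ι n), hP, Preadditive.sub_comp, assoc, assoc, hg0, comp_zero,
      comp_zero, sub_zero]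
  · rw [assoc, ← hq']
    simp only [s, assoc, hq, he]

open Pretriangulated.Opposite in
lemma isIdempotentComplete_of_hasLimitsOfShape [HasLimitsOfShape (Discrete ℕ) D] :
    IsIdempotentComplete D := by
  have : HasColimitsOfShape (Discrete ℕ) Dᵒᵖ := by
    have : HasLimitsOfShape (Discrete ℕ)ᵒᵖ D :=
      hasLimitsOfShape_of_equivalence (Discrete.opposite ℕ).symm
    exact hasColimitsOfShape_op_of_hasLimitsOfShape
  exact Idempotents.isIdempotentComplete_iff_opposite.1 isIdempotentComplete_of_hasColimitsOfShape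

end Groth.Agent.TriCat
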