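import Mathlib.CategoryTheory.Triangulated.HomologicalFunctor
import Mathlib.CategoryTheory.Triangulated.Subcategory

/-! Objects on which a homological functor vanishes in a half-line of degrees. -/

universe v v' u u'

open CategoryTheory Category Limits Pretriangulated ZeroObject

namespace Groth.Agent.TriCat

variable {D : Type u} [Category.{v} D] [Preadditive D] [HasZeroObject D] [HasShift D ℤ]
  [∀ n : ℤ, (shiftFunctor D n).Additive] [Pretriangulated D]
  {A : Type u'} [Category.{v'} A] [Abelian A] (H : D ⥤ A) [H.IsHomological]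

lemma isZero_obj₂_shift (T : Triangle D) (hT : T ∈ distTriang D) (n : ℤ)
    (h₁ : IsZero (H.obj (T.obj₁⟦n⟧))) (h₃ : IsZero (H.obj (T.obj₃⟦n⟧))) :
    IsZero (H.obj (T.obj₂⟦n⟧)) :=
  (H.map_distinguished_exact _ (Triangle.shift_distinguished _ hT n)).isZero_X₂
    (h₁.eq_of_src _ _) (h₃.eq_of_tgt _ _)

/-- A predicate on degrees. -/
structure Admissible (S : (ℤ → Prop) → Prop) : Prop where
  all : S (fun _ => True)
  inter : ∀ p q, S p → S q → S (fun n => p n ∧ q n)
  mono : ∀ p q : ℤ → Prop, (∀ n, p n → q n) → S p → S q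
  shift : ∀ p (a : ℤ), S p → S (fun n => p (n + a))

variable (S : (ℤ → Prop) → Prop) (hS : Admissible S)

include hS

lemma isTriangulated_of_admissible :
    ObjectProperty.IsTriangulated (fun X : D => S (fun n => IsZero (H.obj (X⟦n⟧)))) ∧
    ObjectProperty.IsClosedUnderIsomorphisms (fun X : D => S (fun n => IsZero (H.obj (X⟦n⟧)))) ∧
    (∀ X Y : D, S (fun n => IsZero (H.obj ((X ⊞ Y)⟦n⟧))) →
      S (fun n => IsZero (H.obj (X⟦n⟧))) ∧ S (fun n => IsZero (H.obj (Y⟦n⟧)))) := by
  have hiso : ObjectProperty.IsClosedUnderIsomorphisms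
      (fun X : D => S (fun n => IsZero (H.obj (X⟦n⟧)))) :=
    ⟨fun e h => hS.mono _ _ (fun n hn =>
      hn.of_iso ((shiftFunctor D n ⋙ H).mapIso e.symm)) h⟩
  have hretr : ∀ {X Y : D} (i : X ⟶ Y) (p : Y ⟶ X), i ≫ p = 𝟙 X →
      S (fun n => IsZero (H.obj (Y⟦n⟧))) → S (fun n => IsZero (H.obj (X⟦n⟧))) := fun i p hip h =>
    hS.mono _ _ (fun n hn => (IsZero.iff_id_eq_zero _).2 (by
      refine ((shiftFunctor D n ⋙ H).map_id _).symm.trans ?_
      rw [← hip, Functor.map_comp,
        (show IsZero ((shiftFunctor D n ⋙ H).obj _) from hn).eq_of_src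
          ((shiftFunctor D n ⋙ H).map p) 0, comp_zero])) h
  refine ⟨?_, hiso, fun X Y h => ⟨hretr biprod.inl biprod.fst biprod.inl_fst h,
    hretr biprod.inr biprod.snd biprod.inr_snd h⟩⟩
  exact
    { exists_zero := ⟨(0 : D), isZero_zero D, hS.mono _ _
        (fun n _ => (shiftFunctor D n ⋙ H).map_isZero (isZero_zero D)) hS.all⟩
      isStableUnderShiftBy := fun a => ⟨fun X h => hS.mono _ _
        (fun n hn => hn.of_iso (H.mapIso ((shiftFunctorAdd' D a n (n + a) (add_comm _ _)).app X).symm))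
        (hS.shift _ a h)⟩
      toIsTriangulatedClosed₂ := ObjectProperty.IsTriangulatedClosed₂.mk' fun T hT h₁ h₃ =>
        hS.mono _ _ (fun n hn => isZero_obj₂_shift H T hT n hn.1 hn.2) (hS.inter _ _ h₁ h₃) }

end Groth.Agent.TriCat
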