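import Groth.Agent.TriCat.Hocolim
import Mathlib.Algebra.BigOperators.Intervals

/-! Homotopy colimits of cofinal subsequences. -/

universe v u

open CategoryTheory Category Limits Pretriangulated DerLim Finset

namespace Groth.Agent.TriCat

variable {D : Type u} [Category.{v} D] [Preadditive D]

section

variable (F : ℕ ⥤ D) [HasCoproduct F.obj]

/-- Transition to the `k`-th summand. -/
noncomputable def toSummand (m k : ℕ) : F.obj m ⟶ ∐ F.obj :=
  if h : m ≤ k then F.map (homOfLE h) ≫ Sigma.ι F.obj k else 0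

lemma toSummand_of_le {m k : ℕ} (h : m ≤ k) :
    toSummand F m k = F.map (homOfLE h) ≫ Sigma.ι F.obj k := dif_pos h

lemma toSummand_self (m : ℕ) : toSummand F m m = Sigma.ι F.obj m := by
  rw [toSummand_of_le F le_rfl, show homOfLE (le_refl m) = 𝟙 m from rfl,
    CategoryTheory.Functor.map_id, id_comp]

lemma map_toSummand {p m k : ℕ} (h : p ≤ m) (h' : m ≤ k) :
    F.map (homOfLE h) ≫ toSummand F m k = toSummand F p k := by
  rw [toSummand_of_le F h', toSummand_of_le F (h.trans h'), ← assoc, ← F.map_comp, homOfLE_comp]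

lemma toSummand_one_sub {m k : ℕ} (h : m ≤ k) :
    toSummand F m k ≫ (𝟙 _ - shiftMap F.obj (fun j => F.map (homOfLE (Nat.le_succ j)))) =
      toSummand F m k - toSummand F m (k + 1) := by
  rw [toSummand_of_le F h, toSummand_of_le F (h.trans (Nat.le_succ k)), assoc, ι_one_sub_shiftMap,
    Preadditive.comp_sub, ← assoc (F.map _) (F.map _), ← F.map_comp, homOfLE_comp]

lemma toSummand_sum_one_sub {p m k : ℕ} (hp : p ≤ m) (h : m ≤ k) :
    (∑ j ∈ Ico m k, toSummand F p j) ≫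
        (𝟙 _ - shiftMap F.obj (fun j => F.map (homOfLE (Nat.le_succ j)))) =
      toSummand F p m - toSummand F p k := by
  rw [Preadditive.sum_comp]
  induction k, h using Nat.le_induction with
  | base => simp
  | succ k hk ih =>
    rw [Finset.sum_Ico_succ_top hk, ih, toSummand_one_sub F (hp.trans hk)]
    abel

lemma map_sum_toSummand {p m a b : ℕ} (h : p ≤ m) (ha : m ≤ a) :
    F.map (homOfLE h) ≫ ∑ j ∈ Ico a b, toSummand F m j = ∑ j ∈ Ico a b, toSummand F p j := by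
  rw [Preadditive.comp_sum]
  exact sum_congr rfl fun j hj => map_toSummand F h (ha.trans (mem_Ico.1 hj).1)

end

variable [HasZeroObject D] [HasShift D ℤ] [∀ n : ℤ, (shiftFunctor D n).Additive] [Pretriangulated D]

theorem exists_subsequence_iso (F : ℕ ⥤ D) (n : ℕ → ℕ) (hn : StrictMono n)
    [HasCoproduct F.obj] [HasCoproduct (fun i => F.obj (n i))]
    (L : D) (ι : ∀ m, F.obj m ⟶ L)
    (hL : IsHocolim F.obj (fun m => F.map (homOfLE (Nat.le_succ m))) L ι)
    (L' : D) (ι' : ∀ i, F.obj (n i) ⟶ L')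
    (hL' : IsHocolim (fun i => F.obj (n i))
      (fun i => F.map (homOfLE (hn.monotone (Nat.le_succ i)))) L' ι') :
    ∃ e : L' ≅ L, ∀ i, ι' i ≫ e.hom = ι (n i) := by
  classical
  obtain ⟨c₀, hc⟩ := hL
  obtain ⟨c₀', hc'⟩ := hL'
  let f := fun m => F.map (homOfLE (Nat.le_succ m))
  let P := fun i => F.obj (n i)
  let f' : ∀ i, P i ⟶ P (i + 1) := fun i => F.map (homOfLE (hn.monotone (Nat.le_succ i)))
  have hex : ∀ m, ∃ i, m ≤ n i := fun m => ⟨m, hn.id_le m⟩
  let pos : ℕ → ℕ := fun m => Nat.find (hex m)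
  have pos_le : ∀ m, m ≤ n (pos m) := fun m => Nat.find_spec (hex m)
  have pos_min : ∀ {m i}, m ≤ n i → pos m ≤ i := fun h => Nat.find_min' _ h
  have pos_n : ∀ i, pos (n i) = i := fun i =>
    le_antisymm (pos_min le_rfl) (hn.le_iff_le.1 (pos_le (n i)))
  have pos_eq : ∀ {m}, m ≠ n (pos m) → pos (m + 1) = pos m := fun {m} h =>
    le_antisymm (pos_min (Nat.lt_of_le_of_ne (pos_le m) h))
      (pos_min ((Nat.le_succ m).trans (pos_le (m + 1))))
  have pos_succ : ∀ {m}, m = n (pos m) → pos (m + 1) = pos m + 1 := fun {m} h => by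
    refine le_antisymm (pos_min ?_) (hn.lt_iff_lt.1 ?_)
    · have := hn (show pos m < pos m + 1 by omega); omega
    · have := pos_le (m + 1); omega
  let τ : ∀ m i, F.obj m ⟶ ∐ P := fun m i =>
    if h : m ≤ n i then F.map (homOfLE h) ≫ Sigma.ι P i else 0
  have τ_map : ∀ {p m i} (h : p ≤ m), m ≤ n i → F.map (homOfLE h) ≫ τ m i = τ p i := by
    intro p m i h h'
    simp only [τ, dif_pos h', dif_pos (h.trans h'), ← assoc, ← F.map_comp, homOfLE_comp]
  have τ_self : ∀ i, τ (n i) i = Sigma.ι P i := by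
    intro i
    simp only [τ, dif_pos le_rfl]
    rw [show homOfLE (le_refl (n i)) = 𝟙 _ from rfl, CategoryTheory.Functor.map_id, id_comp]
  let b : (∐ P) ⟶ ∐ F.obj := Sigma.desc fun i => Sigma.ι F.obj (n i)
  let a : (∐ P) ⟶ ∐ F.obj :=
    Sigma.desc fun i => ∑ m ∈ Ico (n i) (n (i + 1)), toSummand F (n i) m
  let b' : (∐ F.obj) ⟶ ∐ P := Sigma.desc fun m => τ m (pos m)
  let a' : (∐ F.obj) ⟶ ∐ P := Sigma.desc fun m => if m = n (pos m) then τ m (pos m) else 0
  have τb : ∀ {m i}, m ≤ n i → τ m i ≫ b = toSummand F m (n i) := fun {m i} h => by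
    simp only [τ, dif_pos h, b, assoc, Sigma.ι_desc]
    exact (toSummand_of_le F h).symm
  have τa : ∀ {m i}, m ≤ n i → τ m i ≫ a = ∑ j ∈ Ico (n i) (n (i + 1)), toSummand F m j := by
    intro m i h
    simp only [τ, dif_pos h, a, assoc, Sigma.ι_desc]
    exact map_sum_toSummand F h le_rfl
  have sq : (𝟙 (∐ P) - shiftMap P f') ≫ b = a ≫ (𝟙 _ - shiftMap F.obj f) := by
    refine Sigma.hom_ext _ _ fun i => ?_
    rw [← assoc, ι_one_sub_shiftMap, ← assoc]
    simp only [a, Sigma.ι_desc]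
    rw [toSummand_sum_one_sub F le_rfl (hn.monotone (Nat.le_succ i)), toSummand_self,
      Preadditive.sub_comp, assoc]
    simp only [b, Sigma.ι_desc]
    exact congrArg _ (toSummand_of_le F (hn.monotone (Nat.le_succ i))).symm
  have sq' : (𝟙 (∐ F.obj) - shiftMap F.obj f) ≫ b' = a' ≫ (𝟙 _ - shiftMap P f') := by
    refine Sigma.hom_ext _ _ fun m => ?_
    rw [← assoc, ι_one_sub_shiftMap, ← assoc, Preadditive.sub_comp, assoc]
    simp only [a', b', Sigma.ι_desc]
    by_cases h : m = n (pos m)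
    · rw [if_pos h, pos_succ h]
      have h' : m + 1 ≤ n (pos m + 1) := by have := hn (show pos m < pos m + 1 by omega); omega
      rw [τ_map (Nat.le_succ m) h']
      simp only [τ, dif_pos (pos_le m), dif_pos (show m ≤ n (pos m + 1) by omega), assoc,
        ι_one_sub_shiftMap, Preadditive.comp_sub]
      congr 1
      · exact congrArg (fun t => F.map (homOfLE (pos_le m)) ≫ t) (Category.comp_id (Sigma.ι P (pos m))).symm
      · erw [ι_shiftMap P f' (pos m)]
        symm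
        refine (assoc (F.map (homOfLE (pos_le m))) (f' (pos m)) _).symm.trans ?_
        refine congrArg (fun t => t ≫ Sigma.ι P (pos m + 1)) ?_
        exact (F.map_comp _ _).symm.trans (congrArg F.map (Subsingleton.elim _ _))
    · rw [if_neg h, pos_eq h, zero_comp, τ_map (Nat.le_succ m) (Nat.lt_of_le_of_ne (pos_le m) h),
        sub_self]
  let T := Triangle.mk (𝟙 (∐ F.obj) - shiftMap F.obj f) (Sigma.desc ι) c₀
  let T' := Triangle.mk (𝟙 (∐ P) - shiftMap P f') (Sigma.desc ι') c₀'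
  obtain ⟨c, hc₁, hc₂⟩ : ∃ c : L' ⟶ L, Sigma.desc ι' ≫ c = b ≫ Sigma.desc ι ∧
      c₀' ≫ a⟦(1 : ℤ)⟧' = c ≫ c₀ := complete_distinguished_triangle_morphism T' T hc' hc a b sq
  obtain ⟨c', hc₁', hc₂'⟩ : ∃ c' : L ⟶ L', Sigma.desc ι ≫ c' = b' ≫ Sigma.desc ι' ∧
      c₀ ≫ a'⟦(1 : ℤ)⟧' = c' ≫ c₀' := complete_distinguished_triangle_morphism T T' hc hc' a' b' sq'
  have bb : b ≫ b' = 𝟙 _ := Sigma.hom_ext _ _ fun i => by
    simp only [b, b', Sigma.ι_desc_assoc, Sigma.ι_desc, pos_n, τ_self, comp_id]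
  have aa : a ≫ a' = 𝟙 _ := Sigma.hom_ext _ _ fun i => by
    simp only [a, Sigma.ι_desc_assoc, Preadditive.sum_comp, comp_id]
    rw [Finset.sum_eq_single (n i)]
    · simp only [toSummand_self, a', Sigma.ι_desc, pos_n, τ_self, if_true]
    · intro m hm hne
      rw [mem_Ico] at hm
      have : pos m = i + 1 := le_antisymm (pos_min hm.2.le) (hn.lt_iff_lt.1
        (lt_of_lt_of_le (lt_of_le_of_ne hm.1 (Ne.symm hne)) (pos_le m)))
      simp only [toSummand_of_le F hm.1, a', assoc, Sigma.ι_desc, this,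
        if_neg (show ¬ m = n (i + 1) by omega), comp_zero]
    · exact fun h => absurd (mem_Ico.2 ⟨le_rfl, hn (show i < i + 1 by omega)⟩) h
  have h₁ : IsIso (c ≫ c') := by
    refine isIso₃_of_isIso₁₂ (Triangle.homMk T' T' (a ≫ a') (b ≫ b') (c ≫ c') ?_ ?_ ?_) hc' hc' ?_ ?_
    · show _ ≫ b ≫ b' = (a ≫ a') ≫ _
      rw [bb, aa]
      exact (comp_id _).trans (id_comp _).symm
    · show Sigma.desc ι' ≫ c ≫ c' = (b ≫ b') ≫ Sigma.desc ι'
      rw [← assoc, hc₁, assoc, hc₁', assoc]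
    · show c₀' ≫ (a ≫ a')⟦(1 : ℤ)⟧' = (c ≫ c') ≫ c₀'
      rw [Functor.map_comp, ← assoc, hc₂, assoc, hc₂', assoc]
    · show IsIso (a ≫ a')
      rw [aa]; exact inferInstanceAs (IsIso (𝟙 _))
    · show IsIso (b ≫ b')
      rw [bb]; exact inferInstanceAs (IsIso (𝟙 _))
  let h : (∐ F.obj) ⟶ ∐ F.obj :=
    Sigma.desc fun m => -∑ k ∈ Ico m (n (pos m)), toSummand F m k
  have hb : b' ≫ b - 𝟙 _ = h ≫ (𝟙 _ - shiftMap F.obj f) := by
    refine Sigma.hom_ext _ _ fun m => ?_
    rw [Preadditive.comp_sub, comp_id, ← assoc, ← assoc]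
    simp only [b', h, Sigma.ι_desc]
    rw [τb (pos_le m), Preadditive.neg_comp, toSummand_sum_one_sub F le_rfl (pos_le m),
      toSummand_self, neg_sub]
  have ha : a' ≫ a - 𝟙 _ = (𝟙 _ - shiftMap F.obj f) ≫ h := by
    refine Sigma.hom_ext _ _ fun m => ?_
    rw [Preadditive.comp_sub, comp_id, ← assoc, ← assoc, ι_one_sub_shiftMap, Preadditive.sub_comp,
      assoc]
    simp only [a', h, f, assoc, Sigma.ι_desc, Sigma.ι_desc_assoc, Preadditive.comp_neg]
    have hle : m + 1 ≤ n (pos (m + 1)) := pos_le (m + 1)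
    rw [map_sum_toSummand F (Nat.le_succ m) le_rfl]
    by_cases hm : m = n (pos m)
    · rw [if_pos hm, pos_succ hm, τa (pos_le m), ← hm, Finset.Ico_self, sum_empty,
        Finset.sum_eq_sum_Ico_succ_bot (by have := pos_succ hm ▸ hle; omega), toSummand_self]
      abel
    · rw [if_neg hm, pos_eq hm, zero_comp,
        Finset.sum_eq_sum_Ico_succ_bot (Nat.lt_of_le_of_ne (pos_le m) hm), toSummand_self]
      abel
  let d := c' ≫ c - 𝟙 L
  have hd₁ : Sigma.desc ι ≫ d = 0 := by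
    simp only [d, Preadditive.comp_sub, comp_id]
    rw [← assoc, hc₁', assoc, hc₁, ← assoc, sub_eq_zero]
    calc (b' ≫ b) ≫ Sigma.desc ι = (b' ≫ b - 𝟙 _) ≫ Sigma.desc ι + Sigma.desc ι := by
          rw [Preadditive.sub_comp, id_comp]; abel
      _ = Sigma.desc ι := by
          rw [hb, assoc, show (𝟙 _ - shiftMap F.obj f) ≫ Sigma.desc ι = 0 from
            comp_distTriang_mor_zero₁₂ _ hc, comp_zero, zero_add]
  have hd₂ : d ≫ c₀ = 0 := by
    simp only [d, Preadditive.sub_comp, id_comp]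
    rw [assoc, ← hc₂, ← assoc, ← hc₂', assoc, ← Functor.map_comp]
    calc c₀ ≫ (a' ≫ a)⟦(1 : ℤ)⟧' - c₀ = c₀ ≫ (a' ≫ a - 𝟙 _)⟦(1 : ℤ)⟧' := by
          rw [Functor.map_sub, CategoryTheory.Functor.map_id, Preadditive.comp_sub, comp_id]
      _ = 0 := by
          rw [ha, Functor.map_comp, ← assoc,
            show c₀ ≫ (𝟙 _ - shiftMap F.obj f)⟦(1 : ℤ)⟧' = 0 from comp_distTriang_mor_zero₃₁ _ hc,
            zero_comp]
  have hd : d ≫ d = 0 := by
    obtain ⟨ψ, hψ⟩ := Triangle.coyoneda_exact₂ _ (rot_of_distTriang _ hc) d hd₂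
    change L ⟶ ∐ F.obj at ψ
    change d = ψ ≫ Sigma.desc ι at hψ
    nth_rw 1 [hψ]
    rw [assoc, hd₁, comp_zero]
  have h₂ : IsIso (c' ≫ c) := by
    refine ⟨𝟙 L - d, ?_, ?_⟩
    · rw [show c' ≫ c = 𝟙 L + d by simp [d], Preadditive.add_comp, id_comp, Preadditive.comp_sub,
        comp_id, hd]
      abel
    · rw [show c' ≫ c = 𝟙 L + d by simp [d], Preadditive.comp_add, comp_id, Preadditive.sub_comp,
        id_comp, hd]
      abel
  have : IsIso c := by
    have : SplitMono c := ⟨c' ≫ inv (c ≫ c'), by rw [← assoc, IsIso.hom_inv_id]⟩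
    have : Mono c := this.mono
    have : IsSplitEpi c := IsSplitEpi.mk' ⟨inv (c' ≫ c) ≫ c', by rw [assoc, IsIso.inv_hom_id]⟩
    exact isIso_of_mono_of_isSplitEpi c
  refine ⟨asIso c, fun i => ?_⟩
  have := congrArg (Sigma.ι P i ≫ ·) hc₁
  simpa [b, Sigma.ι_desc_assoc] using this

end Groth.Agent.TriCat
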