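import Mathlib.CategoryTheory.Localization.Triangulated
import Mathlib.CategoryTheory.Triangulated.Subcategory

/-! Zero objects and isomorphisms in a localization of a pretriangulated category. -/

universe v v' u u'

open CategoryTheory Category Limits Pretriangulated ZeroObject

namespace Groth.Agent.TriCat

variable {D : Type u} [Category.{v} D] [Preadditive D] [HasZeroObject D] [HasShift D ℤ]
  [∀ n : ℤ, (shiftFunctor D n).Additive] [Pretriangulated D]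
  (S : MorphismProperty D) [S.HasLeftCalculusOfFractions]
  [S.IsCompatibleWithTriangulation]
  {E : Type u'} [Category.{v'} E] (Q : D ⥤ E) [Q.IsLocalization S]

lemma isIso_map_iff_isIso_Q_map {X Y : D} (f : X ⟶ Y) : IsIso (Q.map f) ↔ IsIso (S.Q.map f) := by
  let e := Localization.compUniqFunctor S.Q Q S
  rw [← NatIso.isIso_map_iff e f]
  exact ⟨fun h => @isIso_of_reflects_iso _ _ _ _ _ _ (S.Q.map f) (Localization.uniq S.Q Q S).functor h _,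
    fun h => by dsimp; infer_instance⟩

omit [Preadditive D] [HasZeroObject D] [HasShift D ℤ] in
lemma isZero_obj_iff_of_equivalence {E₁ E₂ : Type*} [Category E₁] [Category E₂] (F : E₁ ≌ E₂)
    (X : E₁) : IsZero (F.functor.obj X) ↔ IsZero X := by
  refine ⟨fun h => ⟨fun Y => ⟨⟨⟨F.fullyFaithfulFunctor.preimage (h.to_ _)⟩,
      fun f => F.functor.map_injective (h.eq_of_src _ _)⟩⟩,
    fun Y => ⟨⟨⟨F.fullyFaithfulFunctor.preimage (h.from_ _)⟩,
      fun f => F.functor.map_injective (h.eq_of_tgt _ _)⟩⟩⟩, fun h => ?_⟩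
  exact ⟨fun Y => ⟨⟨⟨(F.toAdjunction.homEquiv _ _).symm (h.to_ _)⟩, fun f =>
      (F.toAdjunction.homEquiv _ _).injective (h.eq_of_src _ _)⟩⟩,
    fun Y => ⟨⟨⟨(F.symm.toAdjunction.homEquiv _ _) (h.from_ _)⟩, fun f =>
      (F.symm.toAdjunction.homEquiv _ _).symm.injective (h.eq_of_tgt _ _)⟩⟩⟩

lemma isZero_obj_iff_isZero_Q_obj (Z : D) : IsZero (Q.obj Z) ↔ IsZero (S.Q.obj Z) := by
  let e := (Localization.compUniqFunctor S.Q Q S).app Z
  rw [← isZero_obj_iff_of_equivalence (Localization.uniq S.Q Q S) (S.Q.obj Z)]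
  exact ⟨fun h => h.of_iso e, fun h => h.of_iso e.symm⟩

include S in
lemma isIso_map_iff_cone (T : Triangle D) (hT : T ∈ distTriang D) :
    IsIso (Q.map T.mor₁) ↔ IsZero (Q.obj T.obj₃) := by
  rw [isIso_map_iff_isIso_Q_map S Q, isZero_obj_iff_isZero_Q_obj S Q]
  exact (Triangle.isZero₃_iff_isIso₁ _ (S.Q.map_distinguished T hT)).symm

lemma isZero_obj_iff_postcomp (Z : D) :
    IsZero (Q.obj Z) ↔ ∃ Z' : D, S (0 : Z ⟶ Z') := by
  refine ⟨fun h => ?_, fun ⟨Z', hs⟩ => ?_⟩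
  · obtain ⟨Z', s, hs, eq⟩ := (MorphismProperty.map_eq_iff_postcomp Q S (𝟙 Z) 0).1 (h.eq_of_src _ _)
    rw [id_comp, zero_comp] at eq
    subst eq
    exact ⟨Z', hs⟩
  · rw [isZero_obj_iff_isZero_Q_obj S Q, IsZero.iff_id_eq_zero]
    have : IsIso (S.Q.map (0 : Z ⟶ Z')) := Localization.inverts S.Q S _ hs
    rw [← cancel_mono (S.Q.map (0 : Z ⟶ Z')), Functor.map_zero, comp_zero, comp_zero]

lemma isZero_obj_iff_precomp [S.HasRightCalculusOfFractions] (Z : D) :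
    IsZero (Q.obj Z) ↔ ∃ Z' : D, S (0 : Z' ⟶ Z) := by
  refine ⟨fun h => ?_, fun ⟨Z', hs⟩ => ?_⟩
  · obtain ⟨Z', s, hs, eq⟩ := (MorphismProperty.map_eq_iff_precomp Q S (𝟙 Z) 0).1 (h.eq_of_src _ _)
    rw [comp_id, comp_zero] at eq
    subst eq
    exact ⟨Z', hs⟩
  · rw [isZero_obj_iff_isZero_Q_obj S Q, IsZero.iff_id_eq_zero]
    have : IsIso (S.Q.map (0 : Z' ⟶ Z)) := Localization.inverts S.Q S _ hs
    rw [← cancel_epi (S.Q.map (0 : Z' ⟶ Z)), Functor.map_zero, zero_comp, zero_comp]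

lemma isZero_obj_of_biprod_cone {Z Z' X Y : D} {f : X ⟶ Y} {g : Y ⟶ Z ⊞ Z'}
    {h : Z ⊞ Z' ⟶ X⟦(1 : ℤ)⟧} (hT : Triangle.mk f g h ∈ distTriang D) (hf : S f) :
    IsZero (Q.obj Z) := by
  have h1 : IsZero (Q.obj (Z ⊞ Z')) :=
    (isIso_map_iff_cone S Q _ hT).1 (Localization.inverts Q S _ hf)
  rw [isZero_obj_iff_isZero_Q_obj S Q] at h1 ⊢
  rw [IsZero.iff_id_eq_zero, ← CategoryTheory.Functor.map_id, ← biprod.inl_fst, Functor.map_comp,
    h1.eq_of_tgt (S.Q.map biprod.inl) 0, zero_comp]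

lemma exists_biprod_cone_of_isZero_obj [S.HasRightCalculusOfFractions] {Z : D}
    (hZ : IsZero (Q.obj Z)) :
    ∃ (Z' X Y : D) (f : X ⟶ Y) (g : Y ⟶ Z ⊞ Z') (h : Z ⊞ Z' ⟶ X⟦(1 : ℤ)⟧),
      Triangle.mk f g h ∈ distTriang D ∧ S f := by
  obtain ⟨Z', hs⟩ := (isZero_obj_iff_precomp S Q Z).1 hZ
  obtain ⟨C, g, h, hT⟩ := distinguished_cocone_triangle (0 : Z' ⟶ Z)
  obtain ⟨e, -⟩ := exists_iso_binaryBiproduct_of_distTriang _ (rot_of_distTriang _ hT)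
    (show -((shiftFunctor D (1 : ℤ)).map (0 : Z' ⟶ Z)) = 0 by simp)
  let e' : C ≅ Z ⊞ Z'⟦(1 : ℤ)⟧ := e
  exact ⟨Z'⟦(1 : ℤ)⟧, Z', Z, 0, g ≫ e'.hom, e'.inv ≫ h,
    isomorphic_distinguished _ hT _ (Triangle.isoMk _ _ (Iso.refl _) (Iso.refl _) e'.symm
      (by exact (comp_id _).trans (id_comp _).symm)
      (by show (g ≫ e'.hom) ≫ e'.inv = 𝟙 Z ≫ g; rw [assoc, Iso.hom_inv_id, comp_id, id_comp])
      (by show (e'.inv ≫ h) ≫ (shiftFunctor D (1 : ℤ)).map (𝟙 Z') = e'.inv ≫ h; rw [CategoryTheory.Functor.map_id, comp_id])), hs⟩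

end Groth.Agent.TriCat
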