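import Mathlib.Algebra.Homology.ModelCategory.Lifting
import Mathlib.Algebra.Homology.HomotopyCategory.KInjective
import Mathlib.Algebra.Homology.HomologySequenceLemmas

/-! Extensions along monomorphic quasi-isomorphisms into K-injective complexes of injectives. -/

universe v u

open CategoryTheory Category Limits ZeroObject

namespace Groth.Agent.TriCat

variable {A : Type u} [Category.{v} A] [Abelian A]

lemma exists_extension_of_mono_quasiIso {K L I : CochainComplex A ℤ} (α : K ⟶ L) [Mono α]
    [QuasiIso α] [I.IsKInjective] [∀ n, Injective (I.X n)] (γ : K ⟶ I) :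
    ∃ β : L ⟶ I, α ≫ β = γ := by
  have sq : CommSq γ α (0 : I ⟶ 0) (0 : L ⟶ 0) := ⟨by simp⟩
  have hsq : ∀ n, (sq.map (HomologicalComplex.eval _ _ n)).LiftStruct := fun n =>
    { l := (Injective.factorThru (J := I.X n) (γ.f n) (α.f n) : L.X n ⟶ I.X n)
      fac_left := Injective.comp_factorThru (J := I.X n) (γ.f n) (α.f n)
      fac_right := comp_zero }
  have hK : IsLimit (KernelFork.ofι (𝟙 I) (show 𝟙 I ≫ (0 : I ⟶ 0) = 0 by simp)) :=
    KernelFork.IsLimit.ofId _ rfl
  have hS : (ShortComplex.mk _ _ (cokernel.condition α)).ShortExact :=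
    { exact := ShortComplex.exact_cokernel α }
  have hac : (cokernel α).Acyclic := hS.acyclic_X₃ (by dsimp; infer_instance)
  obtain ⟨a, ha⟩ := CochainComplex.IsKInjective.eq_δ_of_cocycle
    (CochainComplex.Lifting.cocycle₁ sq hsq (hπ := cokernel.condition α) (cokernelIsCokernel α) hK) hac 0 (by simp)
  have := CochainComplex.Lifting.hasLift sq hsq (hπ := cokernel.condition α) (cokernelIsCokernel α) hK a ha
  exact ⟨sq.lift, sq.fac_left⟩

end Groth.Agent.TriCat
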