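import Mathlib.Algebra.Homology.HomotopyCategory.Plus
import Mathlib.Algebra.Homology.HomotopyCategory.Triangulated

/-! Bounded above and bounded complexes as triangulated subcategories of the homotopy category. -/

universe v u

open CategoryTheory Limits ZeroObject Pretriangulated HomotopyCategory

namespace Groth.Agent.TriCat

variable (V : Type u) [Category.{v} V] [Preadditive V]

/-- Strictly bounded above objects of the homotopy category. -/
abbrev minusK : ObjectProperty (HomotopyCategory V (ComplexShape.up ℤ)) :=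
  fun K => ∃ n : ℤ, CochainComplex.IsStrictlyLE K.as n

/-- Strictly bounded objects of the homotopy category. -/
abbrev boundedK : ObjectProperty (HomotopyCategory V (ComplexShape.up ℤ)) :=
  fun K => ∃ a b : ℤ, CochainComplex.IsStrictlyGE K.as a ∧ CochainComplex.IsStrictlyLE K.as b

variable {V}

lemma isStrictlyLE_mappingCone [HasBinaryBiproducts V] {K L : CochainComplex V ℤ} (f : K ⟶ L)
    (n₁ n₂ n : ℤ) [K.IsStrictlyLE n₁] [L.IsStrictlyLE n₂] (h₁ : n₁ ≤ n) (h₂ : n₂ ≤ n) :
    (CochainComplex.mappingCone f).IsStrictlyLE n := by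
  rw [CochainComplex.isStrictlyLE_iff]
  intro i hi
  simp only [CochainComplex.mappingCone.isZero_X_iff]
  exact ⟨K.isZero_of_isStrictlyLE n₁ _, L.isZero_of_isStrictlyLE n₂ _⟩

variable [HasZeroObject V]

instance : (minusK V).ContainsZero where
  exists_zero := ⟨(quotient _ _).obj 0, Functor.map_isZero _ (isZero_zero _),
    0, (inferInstance : CochainComplex.IsStrictlyLE (0 : CochainComplex V ℤ) 0)⟩

instance : (boundedK V).ContainsZero where
  exists_zero := ⟨(quotient _ _).obj 0, Functor.map_isZero _ (isZero_zero _),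
    0, 0, (inferInstance : CochainComplex.IsStrictlyGE (0 : CochainComplex V ℤ) 0),
    (inferInstance : CochainComplex.IsStrictlyLE (0 : CochainComplex V ℤ) 0)⟩

instance : (minusK V).IsStableUnderShift ℤ where
  isStableUnderShiftBy n :=
    { le_shift K hK := by
        obtain ⟨K : CochainComplex _ _, rfl⟩ := K.quotient_obj_surjective
        obtain ⟨q, hq⟩ := hK
        have : K.IsStrictlyLE q := hq
        rw [ObjectProperty.prop_shift_iff, shift_quotient_obj]
        exact ⟨q - n, CochainComplex.isStrictlyLE_shift K q n (q - n) (by lia)⟩ }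

instance : (boundedK V).IsStableUnderShift ℤ where
  isStableUnderShiftBy n :=
    { le_shift K hK := by
        obtain ⟨K : CochainComplex _ _, rfl⟩ := K.quotient_obj_surjective
        obtain ⟨p, q, hp, hq⟩ := hK
        have : K.IsStrictlyLE q := hq
        have : K.IsStrictlyGE p := hp
        rw [ObjectProperty.prop_shift_iff, shift_quotient_obj]
        exact ⟨p - n, q - n, CochainComplex.isStrictlyGE_shift K p n (p - n) (by lia),
          CochainComplex.isStrictlyLE_shift K q n (q - n) (by lia)⟩ }

variable [HasBinaryBiproducts V]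

instance : (minusK V).IsTriangulatedClosed₃ where
  ext₃' T hT h₁ h₂ := by
    obtain ⟨n₁, _⟩ := h₁
    obtain ⟨n₂, _⟩ := h₂
    obtain ⟨f : T.obj₁.as ⟶ T.obj₂.as, hf⟩ := (quotient _ _).map_surjective T.mor₁
    refine ⟨_, ?_, ⟨Triangle.π₃.mapIso (isoTriangleOfIso₁₂ T _ hT
      (mappingCone_triangleh_distinguished f) (Iso.refl _) (Iso.refl _) ((Category.comp_id _).trans (hf.symm.trans (Category.id_comp _).symm)))⟩⟩
    exact ⟨max n₁ n₂, isStrictlyLE_mappingCone f n₁ n₂ _ (le_max_left _ _) (le_max_right _ _)⟩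

instance : (boundedK V).IsTriangulatedClosed₃ where
  ext₃' T hT h₁ h₂ := by
    obtain ⟨a₁, n₁, _, _⟩ := h₁
    obtain ⟨a₂, n₂, _, _⟩ := h₂
    obtain ⟨f : T.obj₁.as ⟶ T.obj₂.as, hf⟩ := (quotient _ _).map_surjective T.mor₁
    refine ⟨_, ?_, ⟨Triangle.π₃.mapIso (isoTriangleOfIso₁₂ T _ hT
      (mappingCone_triangleh_distinguished f) (Iso.refl _) (Iso.refl _) ((Category.comp_id _).trans (hf.symm.trans (Category.id_comp _).symm)))⟩⟩
    exact ⟨min (a₁ - 1) a₂, max n₁ n₂,
      CochainComplex.isStrictlyGE_mappingCone f a₁ a₂ _ (by simp) (by simp),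
      isStrictlyLE_mappingCone f n₁ n₂ _ (le_max_left _ _) (le_max_right _ _)⟩

lemma isTriangulated_minusK : (minusK V).IsTriangulated where
  toIsTriangulatedClosed₂ := .of_isTriangulatedClosed₃

lemma isTriangulated_boundedK : (boundedK V).IsTriangulated where
  toIsTriangulatedClosed₂ := .of_isTriangulatedClosed₃

end Groth.Agent.TriCat
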