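import Groth.Agent.TriCat.Adapted
import Groth.Agent.TriCat.RPlus

/-! When is the unit of `rightDerivedFunctorPlus` an isomorphism. -/

universe w w' v v' u u'

open CategoryTheory Category Limits HomologicalComplex ZeroObject

namespace Groth.Agent.TriCat

variable {C : Type u} [Category.{v} C] [Abelian C] [HasDerivedCategory.{w} C] [EnoughInjectives C]
  {D : Type u'} [Category.{v'} D] [Abelian D] [HasDerivedCategory.{w'} D] (F : C ⥤ D) [F.Additive]

omit [EnoughInjectives C] in
lemma isIso_plusQh_quotient_map_iff {K L : CochainComplex.Plus C} (q : K ⟶ L) :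
    IsIso (DerivedCategory.Plus.Qh.map ((HomotopyCategory.Plus.quotient C).map q)) ↔
      QuasiIso q.hom := by
  have h1 : IsIso (DerivedCategory.Plus.Qh.map ((HomotopyCategory.Plus.quotient C).map q)) ↔
      IsIso ((HomotopyCategory.quotient C (ComplexShape.up ℤ) ⋙ DerivedCategory.Qh).map q.hom) :=
    ⟨fun h => DerivedCategory.Plus.ι.map_isIso
        (DerivedCategory.Plus.Qh.map ((HomotopyCategory.Plus.quotient C).map q)),
      fun h => @isIso_of_fully_faithful _ _ _ _ DerivedCategory.Plus.ι _ _ _ _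
        (DerivedCategory.Plus.Qh.map ((HomotopyCategory.Plus.quotient C).map q)) h⟩
  rw [h1, NatIso.isIso_map_iff (DerivedCategory.quotientCompQhIso C),
    DerivedCategory.isIso_Q_map_iff_quasiIso]

omit [EnoughInjectives C] [HasDerivedCategory.{w} C] in
lemma isIso_mapPlusQh_iff {K L : CochainComplex.Plus C} (q : K ⟶ L) :
    IsIso (DerivedCategory.Plus.Qh.map
        (F.mapHomotopyCategoryPlus.map ((HomotopyCategory.Plus.quotient C).map q))) ↔
      QuasiIso ((F.mapHomologicalComplex (ComplexShape.up ℤ)).map q.hom) := by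
  exact isIso_plusQh_quotient_map_iff (F.mapCochainComplexPlus.map q)

lemma isIso_unit_iff {K : CochainComplex.Plus C}
    {L : CochainComplex.Plus (InjectiveObject C)}
    (q : K ⟶ (InjectiveObject.ι C).mapCochainComplexPlus.obj L) [QuasiIso q.hom] :
    IsIso (F.rightDerivedFunctorPlusUnit.app ((HomotopyCategory.Plus.quotient C).obj K)) ↔
      QuasiIso ((F.mapHomologicalComplex (ComplexShape.up ℤ)).map q.hom) := by
  let q' := (HomotopyCategory.Plus.quotient C).map q
  have hq : IsIso (DerivedCategory.Plus.Qh.map q') := (isIso_plusQh_quotient_map_iff q).2 inferInstance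
  have nat := F.rightDerivedFunctorPlusUnit.naturality q'
  rw [← isIso_mapPlusQh_iff F q]
  have hR : IsIso ((DerivedCategory.Plus.Qh ⋙ F.rightDerivedFunctorPlus).map q') :=
    F.rightDerivedFunctorPlus.map_isIso (DerivedCategory.Plus.Qh.map q')
  constructor
  · intro h
    have h2 : IsIso ((F.mapHomotopyCategoryPlus ⋙ DerivedCategory.Plus.Qh).map q' ≫
        F.rightDerivedFunctorPlusUnit.app _) := nat ▸ IsIso.comp_isIso
    exact IsIso.of_isIso_comp_right ((F.mapHomotopyCategoryPlus ⋙ DerivedCategory.Plus.Qh).map q')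
      (F.rightDerivedFunctorPlusUnit.app _)
  · intro h
    have h' : IsIso ((F.mapHomotopyCategoryPlus ⋙ DerivedCategory.Plus.Qh).map q') := h
    have h2 : IsIso (F.rightDerivedFunctorPlusUnit.app ((HomotopyCategory.Plus.quotient C).obj K) ≫
        (DerivedCategory.Plus.Qh ⋙ F.rightDerivedFunctorPlus).map q') := nat ▸ IsIso.comp_isIso
    exact IsIso.of_isIso_comp_right _ ((DerivedCategory.Plus.Qh ⋙ F.rightDerivedFunctorPlus).map q')

omit [HasDerivedCategory.{w} C] in
lemma exists_mono_injective_resolution (K : CochainComplex.Plus C) :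
    ∃ (L : CochainComplex.Plus (InjectiveObject C))
      (q : K ⟶ (InjectiveObject.ι C).mapCochainComplexPlus.obj L),
      QuasiIso q.hom ∧ ∀ n, Mono (q.hom.f n) := by
  obtain ⟨n, hn⟩ := K.2
  obtain ⟨J, α, hJ, hJi, hm, hq⟩ := exists_quasiIso_resolution (fun X : C => Injective X)
    ⟨_, isZero_zero C, Injective.zero_injective⟩
    (fun X => ⟨Injective.under X, Injective.ι X, inferInstance, inferInstance⟩) K.obj n
  let L : CochainComplex (InjectiveObject C) ℤ :=
    HomologicalComplex.liftObjectProperty _ J hJi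
  have hL : L.IsStrictlyGE n := by
    rwa [← CochainComplex.isStrictlyGE_mapHomologicalComplex_obj_iff _ (InjectiveObject.ι _)]
  exact ⟨⟨L, n, hL⟩, ObjectProperty.homMk α, hq, hm⟩

/-- The unit is an isomorphism on bounded below complexes with terms in an adapted class with
enough monomorphisms. -/
lemma isIso_unit_of_adapted {P : C → Prop} (hP : IsAdapted F P)
    (h1 : ∀ X : C, ∃ (Y : C) (ι : X ⟶ Y), P Y ∧ Mono ι) (K : CochainComplex.Plus C)
    (hK : ∀ n, P (K.obj.X n)) :
    IsIso (F.rightDerivedFunctorPlusUnit.app ((HomotopyCategory.Plus.quotient C).obj K)) := by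
  obtain ⟨L, q, hq, hqm⟩ := exists_mono_injective_resolution K
  rw [isIso_unit_iff F q]
  let J := ((InjectiveObject.ι C).mapCochainComplexPlus.obj L).obj
  obtain ⟨nJ, hnJ⟩ := ((InjectiveObject.ι C).mapCochainComplexPlus.obj L).2
  obtain ⟨nK, hnK⟩ := K.2
  obtain ⟨a, ha₁, ha₂⟩ : ∃ a : ℤ, a ≤ nK ∧ a ≤ nJ :=
    ⟨min nK nJ, min_le_left _ _, min_le_right _ _⟩
  have hJa : J.IsStrictlyGE a := CochainComplex.isStrictlyGE_of_ge J a nJ ha₂
  have hKa : K.obj.IsStrictlyGE a := CochainComplex.isStrictlyGE_of_ge K.obj a nK ha₁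
  obtain ⟨Y, r, hY, hYP, hrm, hr⟩ := exists_quasiIso_resolution P ⟨_, isZero_zero C, hP.zero _ (isZero_zero C)⟩ h1 J a
  let q₀ : K.obj ⟶ J := q.hom
  have : QuasiIso q₀ := hq
  have hcomp : QuasiIso ((F.mapHomologicalComplex (ComplexShape.up ℤ)).map (q₀ ≫ r)) :=
    quasiIso_map_of_adapted hP _ (fun n => by
      have := hqm n; have := hrm n
      rw [HomologicalComplex.comp_f]; exact mono_comp (q.hom.f n) (r.f n)) a hK hYP
  -- `F r` is split mono in the homotopy category
  have hJK : CochainComplex.IsKInjective J :=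
    inferInstanceAs (CochainComplex.IsKInjective
      (((InjectiveObject.ι C).mapHomologicalComplex (ComplexShape.up ℤ)).obj L.obj))
  have hrQ : IsIso (DerivedCategory.Qh.map ((HomotopyCategory.quotient C (ComplexShape.up ℤ)).map r)) := by
    have : IsIso ((HomotopyCategory.quotient C (ComplexShape.up ℤ) ⋙ DerivedCategory.Qh).map r) := by
      rw [NatIso.isIso_map_iff (DerivedCategory.quotientCompQhIso C),
        DerivedCategory.isIso_Q_map_iff_quasiIso]
      exact hr
    exact this
  obtain ⟨ρ, hρ⟩ := (CochainComplex.IsKInjective.Qh_map_bijective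
    ((HomotopyCategory.quotient C (ComplexShape.up ℤ)).obj Y) J).2
    (inv (DerivedCategory.Qh.map ((HomotopyCategory.quotient C (ComplexShape.up ℤ)).map r)))
  obtain ⟨ρ, rfl⟩ := (HomotopyCategory.quotient C (ComplexShape.up ℤ)).map_surjective ρ
  have hsplit : (HomotopyCategory.quotient C (ComplexShape.up ℤ)).map (r ≫ ρ) =
      (HomotopyCategory.quotient C (ComplexShape.up ℤ)).map (𝟙 J) := by
    apply (CochainComplex.IsKInjective.Qh_map_bijective
      ((HomotopyCategory.quotient C (ComplexShape.up ℤ)).obj J) J).1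
    rw [Functor.map_comp, Functor.map_comp, hρ, IsIso.hom_inv_id,
      CategoryTheory.Functor.map_id, CategoryTheory.Functor.map_id]
  have h3 := Homotopy.homologyMap_eq
    ((F.mapHomotopy) (HomotopyCategory.homotopyOfEq _ _ hsplit))
  refine ⟨fun n => ?_⟩
  rw [quasiIsoAt_iff_isIso_homologyMap]
  have h4 : homologyMap ((F.mapHomologicalComplex (ComplexShape.up ℤ)).map r) n ≫
      homologyMap ((F.mapHomologicalComplex (ComplexShape.up ℤ)).map ρ) n = 𝟙 _ := by
    rw [← homologyMap_comp, ← Functor.map_comp, h3 n, CategoryTheory.Functor.map_id, homologyMap_id]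
  have h5 : IsIso (homologyMap ((F.mapHomologicalComplex (ComplexShape.up ℤ)).map q₀) n ≫
      homologyMap ((F.mapHomologicalComplex (ComplexShape.up ℤ)).map r) n) := by
    rw [← homologyMap_comp, ← Functor.map_comp]
    infer_instance
  have : Mono (homologyMap ((F.mapHomologicalComplex (ComplexShape.up ℤ)).map r) n) :=
    SplitMono.mono ⟨_, h4⟩
  have : Epi (homologyMap ((F.mapHomologicalComplex (ComplexShape.up ℤ)).map r) n) :=
    epi_of_epi (homologyMap ((F.mapHomologicalComplex (ComplexShape.up ℤ)).map q₀) n) _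
  have := isIso_of_mono_of_epi (homologyMap ((F.mapHomologicalComplex (ComplexShape.up ℤ)).map r) n)
  exact IsIso.of_isIso_comp_right (homologyMap ((F.mapHomologicalComplex (ComplexShape.up ℤ)).map q₀) n)
    (homologyMap ((F.mapHomologicalComplex (ComplexShape.up ℤ)).map r) n)

end Groth.Agent.TriCat

namespace Groth.Agent.TriCat

variable {C : Type u} [Category.{v} C] [Abelian C]
  {D : Type u'} [Category.{v'} D] [Abelian D]

lemma IsAdapted.of_iso {F : C ⥤ D} {P : C → Prop} (hP : IsAdapted F P) {X Y : C} (e : X ≅ Y)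
    (hX : P X) : P Y := by
  let S := ShortComplex.mk (0 : (0 : C) ⟶ X) e.hom zero_comp
  have hS : S.ShortExact :=
    { exact := (ShortComplex.exact_iff_mono S rfl).2 (inferInstanceAs (Mono e.hom))
      mono_f := ⟨fun _ _ _ => (isZero_zero C).eq_of_tgt _ _⟩
      epi_g := inferInstanceAs (Epi e.hom) }
  exact (hP.ses S hS (hP.zero _ (isZero_zero C)) hX).1

/-- The single complex as an object of `CochainComplex.Plus`. -/
noncomputable def singlePlus (n : ℤ) (X : C) : CochainComplex.Plus C :=
  ⟨(CochainComplex.singleFunctor C n).obj X, n, inferInstance⟩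

lemma isIso_unit_single_of_adapted [HasDerivedCategory.{w} C] [EnoughInjectives C]
    [HasDerivedCategory.{w'} D] (F : C ⥤ D) [F.Additive] {P : C → Prop} (hP : IsAdapted F P)
    (h1 : ∀ X : C, ∃ (Y : C) (ι : X ⟶ Y), P Y ∧ Mono ι) (X : C) (hX : P X) :
    IsIso (F.rightDerivedFunctorPlusUnit.app ((HomotopyCategory.Plus.singleFunctor C 0).obj X)) := by
  have h := isIso_unit_of_adapted F hP h1 (singlePlus 0 X) (fun n => by
    by_cases hn : n = 0
    · subst hn
      exact hP.of_iso (HomologicalComplex.singleObjXSelf (ComplexShape.up ℤ) 0 X).symm hX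
    · exact hP.zero _ (HomologicalComplex.isZero_single_obj_X (ComplexShape.up ℤ) 0 X n hn))
  exact (NatTrans.isIso_app_iff_of_iso F.rightDerivedFunctorPlusUnit
    ((Iso.refl _ : (HomotopyCategory.Plus.quotient C).obj (singlePlus 0 X) ≅
      (HomotopyCategory.Plus.singleFunctor C 0).obj X))).1 h

end Groth.Agent.TriCat
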