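import Groth.Agent.TriCat.Resolve
import Mathlib.Algebra.Homology.HomologySequence
import Mathlib.Algebra.Homology.HomologicalComplexAbelian

/-! Classes of objects adapted to an additive functor. -/

universe v v' u u'

open CategoryTheory Category Limits HomologicalComplex

namespace Groth.Agent.TriCat

variable {A : Type u} [Category.{v} A] [Abelian A] {B : Type u'} [Category.{v'} B] [Abelian B]

/-- A class of objects adapted to `F`: contains all zero objects, and for short exact sequences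
with first two terms in the class the third is in the class and `F` preserves exactness. -/
structure IsAdapted (F : A ⥤ B) (P : A → Prop) : Prop where
  zero : ∀ Z : A, IsZero Z → P Z
  ses : ∀ S : ShortComplex A, S.ShortExact → P S.X₁ → P S.X₂ →
    P S.X₃ ∧ ∀ (w : F.map S.f ≫ F.map S.g = 0), (ShortComplex.mk _ _ w).ShortExact

variable {F : A ⥤ B} {P : A → Prop}

lemma IsAdapted.of_nonempty [F.PreservesZeroMorphisms] (hX : ∃ X, P X)
    (h : ∀ S : ShortComplex A, S.ShortExact → P S.X₁ → P S.X₂ → P S.X₃ ∧ (S.map F).ShortExact) :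
    IsAdapted F P where
  zero Z hZ := by
    obtain ⟨X, hX⟩ := hX
    let S := ShortComplex.mk (𝟙 X) (0 : X ⟶ Z) comp_zero
    have hS : S.ShortExact :=
      { exact := (ShortComplex.exact_iff_epi S rfl).2 (inferInstanceAs (Epi (𝟙 X)))
        mono_f := inferInstanceAs (Mono (𝟙 X))
        epi_g := ⟨fun _ _ _ => hZ.eq_of_src _ _⟩ }
    exact (h S hS hX hX).1
  ses S hS h₁ h₂ := ⟨(h S hS h₁ h₂).1, fun _ => (h S hS h₁ h₂).2⟩

variable [F.Additive]

lemma IsAdapted.map_shortExact (hP : IsAdapted F P) {S : ShortComplex A} (hS : S.ShortExact)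
    (h₁ : P S.X₁) (h₂ : P S.X₂) : (S.map F).ShortExact :=
  (hP.ses S hS h₁ h₂).2 _

/-- The successive images in an exact sequence starting with a mono. -/
structure ImgStep (F : A ⥤ B) (P : A → Prop) {X Y : A} (d : X ⟶ Y) where
  Z : A
  p : X ⟶ Z
  i : Z ⟶ Y
  fac : p ≫ i = d
  mem : P Z
  epi_p : Epi p
  mono_i : Mono i
  epi_Fp : Epi (F.map p)
  mono_Fi : Mono (F.map i)

omit [F.Additive] in
lemma exists_imgStep_zero [F.PreservesZeroMorphisms] {X Y : A} (d : X ⟶ Y) [Mono d]
    (hP : IsAdapted F P) (hX : P X) (hY : P Y) : Nonempty (ImgStep F P d) := by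
  let S := ShortComplex.mk d (cokernel.π d) (cokernel.condition d)
  have hS : S.ShortExact :=
    { exact := ShortComplex.exact_of_g_is_cokernel _ (cokernelIsCokernel d) }
  have := ((hP.ses S hS hX hY).2 (by rw [← F.map_comp, cokernel.condition, F.map_zero])).mono_f
  exact ⟨⟨X, 𝟙 X, d, id_comp _, hX, inferInstance, inferInstance,
    by rw [F.map_id]; infer_instance, this⟩⟩

lemma exists_imgStep_next {X Y W : A} {d : X ⟶ Y} (s : ImgStep F P d) (e : Y ⟶ W)
    (w : d ≫ e = 0) (hex : (ShortComplex.mk d e w).Exact) (hP : IsAdapted F P) (hY : P Y)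
    (hW : P W) :
    Nonempty (ImgStep F P e) ∧ (ShortComplex.mk (F.map d) (F.map e)
      (by rw [← F.map_comp, w, F.map_zero])).Exact := by
  have := s.epi_p
  have := s.mono_i
  have w' : s.i ≫ e = 0 := by rw [← cancel_epi s.p, reassoc_of% s.fac, w, comp_zero]
  let S := ShortComplex.mk s.i (cokernel.π s.i) (cokernel.condition s.i)
  have hS : S.ShortExact :=
    { exact := ShortComplex.exact_of_g_is_cokernel _ (cokernelIsCokernel s.i) }
  have hFS := hP.map_shortExact hS s.mem hY
  have hmem : P S.X₃ := (hP.ses S hS s.mem hY).1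
  let j := cokernel.desc s.i e w'
  have hj : Mono j := by
    rw [Preadditive.mono_iff_cancel_zero]
    intro T x hx
    obtain ⟨T', π, hπ, y, hy⟩ := surjective_up_to_refinements_of_epi (cokernel.π s.i) x
    have hye : y ≫ e = 0 := by
      rw [← cokernel.π_desc s.i e w', ← reassoc_of% hy, hx, comp_zero]
    obtain ⟨T'', ρ, hρ, z, hz⟩ := hex.exact_up_to_refinements y hye
    dsimp at hz
    have hd : d ≫ cokernel.π s.i = 0 := by
      refine (congrArg (· ≫ cokernel.π s.i) s.fac.symm).trans ?_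
      rw [assoc, cokernel.condition, comp_zero]
    rw [← cancel_epi π, ← cancel_epi ρ, comp_zero, comp_zero, hy, reassoc_of% hz, hd, comp_zero]
  let S' := ShortComplex.mk j (cokernel.π j) (cokernel.condition j)
  have hS' : S'.ShortExact :=
    { exact := ShortComplex.exact_of_g_is_cokernel _ (cokernelIsCokernel j) }
  have hFj : Mono (F.map j) := (hP.map_shortExact hS' hmem hW).mono_f
  have hFπ : Epi (F.map (cokernel.π s.i)) := hFS.epi_g
  refine ⟨⟨⟨_, cokernel.π s.i, j, cokernel.π_desc _ _ _, hmem, inferInstance, hj, hFπ, hFj⟩⟩, ?_⟩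
  rw [ShortComplex.exact_iff_exact_up_to_refinements]
  intro T x hx
  dsimp at x hx ⊢
  have hx' : x ≫ F.map (cokernel.π s.i) = 0 := by
    rw [← cancel_mono (F.map j), assoc, ← F.map_comp, cokernel.π_desc, hx, zero_comp]
  obtain ⟨T', π, hπ, y, hy⟩ := hFS.exact.exact_up_to_refinements x hx'
  have := s.epi_Fp
  obtain ⟨T'', ρ, hρ, z, hz⟩ := surjective_up_to_refinements_of_epi (F.map s.p) y
  refine ⟨T'', ρ ≫ π, epi_comp _ _, z, ?_⟩
  rw [assoc]
  refine (congrArg (ρ ≫ ·) hy).trans ?_
  show ρ ≫ (y : T' ⟶ F.obj s.Z) ≫ F.map s.i = z ≫ F.map d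
  refine (assoc _ _ _).symm.trans ?_
  refine (congrArg (· ≫ F.map s.i) hz).trans ?_
  rw [assoc, ← F.map_comp, s.fac]

/-- `F` applied to a bounded below exact complex with terms in an adapted class is exact. -/
lemma acyclic_map_of_adapted (hP : IsAdapted F P) (Q : CochainComplex A ℤ) (a : ℤ)
    [Q.IsStrictlyGE a] (hQ : ∀ n, Q.ExactAt n) (hQP : ∀ n, P (Q.X n)) (n : ℤ) :
    ((F.mapHomologicalComplex _).obj Q).ExactAt n := by
  have key : ∀ k : ℕ, Nonempty (ImgStep F P (Q.d (a - 1 + k) (a - 1 + k + 1))) := by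
    intro k
    induction k with
    | zero =>
      have : Mono (Q.d (a - 1 + ((0 : ℕ) : ℤ)) (a - 1 + ((0 : ℕ) : ℤ) + 1)) :=
        ⟨fun _ _ _ => (Q.isZero_of_isStrictlyGE a _ (by omega)).eq_of_tgt _ _⟩
      exact exists_imgStep_zero _ hP (hQP _) (hQP _)
    | succ k ih =>
      obtain ⟨s⟩ := ih
      have h : a - 1 + ((k + 1 : ℕ) : ℤ) = a - 1 + k + 1 := by omega
      rw [h]
      exact (exists_imgStep_next s _ (Q.d_comp_d _ _ _)
        ((Q.exactAt_iff' (a - 1 + k) (a - 1 + k + 1) (a - 1 + k + 1 + 1) (by simp) (by simp)).1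
          (hQ _)) hP (hQP _) (hQP _)).1
  by_cases h : a ≤ n
  · obtain ⟨k, rfl⟩ : ∃ k : ℕ, n = a - 1 + k + 1 := ⟨(n - a).toNat, by omega⟩
    obtain ⟨s⟩ := key k
    rw [HomologicalComplex.exactAt_iff' _ (a - 1 + k) (a - 1 + k + 1) (a - 1 + k + 1 + 1)
      (by simp) (by simp)]
    exact (exists_imgStep_next s _ (Q.d_comp_d _ _ _)
      ((Q.exactAt_iff' (a - 1 + k) (a - 1 + k + 1) (a - 1 + k + 1 + 1) (by simp) (by simp)).1
        (hQ _)) hP (hQP _) (hQP _)).2
  · exact ShortComplex.exact_of_isZero_X₂ _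
      (F.map_isZero (Q.isZero_of_isStrictlyGE a n (by omega)))

/-- In a short exact sequence of complexes with acyclic cokernel the first map is a quasi-iso. -/
lemma quasiIso_of_shortExact_of_exactAt {S : ShortComplex (CochainComplex B ℤ)} (hS : S.ShortExact)
    (h : ∀ n, S.X₃.ExactAt n) : QuasiIso S.f := by
  refine ⟨fun n => ?_⟩
  rw [quasiIsoAt_iff_isIso_homologyMap]
  have h' := fun n => (exactAt_iff_isZero_homology _ _).1 (h n)
  have : Mono (homologyMap S.f n) :=
    (hS.homology_exact₁ (n - 1) n (by simp)).mono_g ((h' _).eq_of_src _ _)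
  have : Epi (homologyMap S.f n) :=
    (hS.homology_exact₂ n).epi_f ((h' _).eq_of_tgt _ _)
  exact isIso_of_mono_of_epi _

lemma exactAt_of_shortExact_of_quasiIso {C : Type*} [Category C] [Abelian C]
    {S : ShortComplex (CochainComplex C ℤ)} (hS : S.ShortExact) [QuasiIso S.f] (n : ℤ) :
    S.X₃.ExactAt n := by
  rw [exactAt_iff_isZero_homology]
  refine (hS.homology_exact₃ n (n + 1) (by simp)).isZero_X₂ ?_ ?_
  · show homologyMap S.g n = 0
    rw [← cancel_epi (homologyMap S.f n), ← homologyMap_comp, S.zero, homologyMap_zero, comp_zero]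
  · show hS.δ n (n + 1) (by simp) = 0
    rw [← cancel_mono (homologyMap S.f (n + 1)), zero_comp]
    exact (hS.δ_comp n (n + 1) (by simp))

/-- A termwise mono quasi-iso between bounded below complexes with terms in an adapted class is
mapped to a quasi-iso. -/
lemma quasiIso_map_of_adapted (hP : IsAdapted F P) {K L : CochainComplex A ℤ} (f : K ⟶ L)
    [QuasiIso f] (hf : ∀ n, Mono (f.f n)) (a : ℤ) [K.IsStrictlyGE a] [L.IsStrictlyGE a]
    (hK : ∀ n, P (K.X n)) (hL : ∀ n, P (L.X n)) :
    QuasiIso ((F.mapHomologicalComplex (ComplexShape.up ℤ)).map f) := by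
  have := HomologicalComplex.mono_of_mono_f f hf
  let S := ShortComplex.mk f (cokernel.π f) (cokernel.condition f)
  have hS : S.ShortExact :=
    { exact := ShortComplex.exact_of_g_is_cokernel _ (cokernelIsCokernel f) }
  have : QuasiIso S.f := inferInstanceAs (QuasiIso f)
  have hdeg : ∀ n, (S.map (eval A (ComplexShape.up ℤ) n)).ShortExact := fun n =>
    hS.map_of_exact _
  have : S.X₃.IsStrictlyGE a := by
    rw [CochainComplex.isStrictlyGE_iff]
    intro i hi
    have := (hdeg i).epi_g
    exact @IsZero.of_epi _ _ _ _ _ ((S.map (eval A (ComplexShape.up ℤ) i)).g) this (L.isZero_of_isStrictlyGE a i hi)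
  have hQP : ∀ n, P (S.X₃.X n) := fun n => (hP.ses _ (hdeg n) (hK n) (hL n)).1
  have hFS : (S.map (F.mapHomologicalComplex (ComplexShape.up ℤ))).ShortExact :=
    HomologicalComplex.shortExact_of_degreewise_shortExact _ fun n =>
      hP.map_shortExact (hdeg n) (hK n) (hL n)
  exact quasiIso_of_shortExact_of_exactAt hFS
    (acyclic_map_of_adapted hP S.X₃ a (exactAt_of_shortExact_of_quasiIso hS) hQP)

end Groth.Agent.TriCat
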