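import Mathlib.CategoryTheory.Triangulated.Yoneda
import Mathlib.CategoryTheory.Limits.Shapes.Opposites.Products
import Mathlib.Algebra.Category.Grp.Limits
import Mathlib.CategoryTheory.Limits.Types.Limits

/-! Element-wise calculus for cohomological functors on a triangulated category. -/

universe w v u

open CategoryTheory Category Limits Opposite Pretriangulated
open Pretriangulated.Opposite

namespace Groth.Agent.TriCat

variable {D : Type u} [Category.{v} D]

section

variable (H : Dᵒᵖ ⥤ AddCommGrpCat.{v})

/-- Restriction of a class along a morphism. -/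
noncomputable def res {A B : D} (g : A ⟶ B) (x : H.obj (op B)) : H.obj (op A) := H.map g.op x

lemma res_id {A : D} (x : H.obj (op A)) : res H (𝟙 A) x = x := by
  simp [res]

lemma res_comp {A B C : D} (g : A ⟶ B) (h : B ⟶ C) (x : H.obj (op C)) :
    res H (g ≫ h) x = res H g (res H h x) := by
  simp [res]

lemma res_zero_arg {A B : D} (g : A ⟶ B) : res H g 0 = 0 := by simp [res]

lemma res_sub_arg {A B : D} (g : A ⟶ B) (x y : H.obj (op B)) :
    res H g (x - y) = res H g x - res H g y := by
  simp [res]

lemma exists_unique_sum_elem {κ : Type w} (X : κ → D) [HasCoproduct X]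
    [PreservesLimitsOfShape (Discrete κ) H] [PreservesLimitsOfShape (Discrete κ) (forget AddCommGrpCat.{v})]
    (y : ∀ k, H.obj (op (X k))) : ∃! x : H.obj (op (∐ X)), ∀ k, res H (Sigma.ι X k) x = y k := by
  let c := (Cofan.IsColimit.op (coproductIsCoproduct X))
  have := (Types.isLimit_iff _).1 ⟨isLimitOfPreserves (H ⋙ forget AddCommGrpCat.{v}) c⟩
    (fun j => y j.as) (fun {j j'} g => by
      obtain rfl : j = j' := Discrete.ext (Discrete.eq_of_hom g)
      simp [show g = 𝟙 j from Subsingleton.elim _ _])
  obtain ⟨x, hx, hu⟩ := this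
  exact ⟨x, fun k => hx ⟨k⟩, fun x' hx' => hu x' fun j => hx' j.as⟩

lemma exists_sum_elem {κ : Type w} (X : κ → D) [HasCoproduct X]
    [PreservesLimitsOfShape (Discrete κ) H] [PreservesLimitsOfShape (Discrete κ) (forget AddCommGrpCat.{v})]
    (y : ∀ k, H.obj (op (X k))) : ∃ x : H.obj (op (∐ X)), ∀ k, res H (Sigma.ι X k) x = y k :=
  (exists_unique_sum_elem H X y).exists

lemma sum_elem_ext {κ : Type w} {X : κ → D} [HasCoproduct X]
    [PreservesLimitsOfShape (Discrete κ) H] [PreservesLimitsOfShape (Discrete κ) (forget AddCommGrpCat.{v})]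
    {x x' : H.obj (op (∐ X))} (h : ∀ k, res H (Sigma.ι X k) x = res H (Sigma.ι X k) x') : x = x' :=
  (exists_unique_sum_elem H X (fun k => res H (Sigma.ι X k) x')).unique h (fun _ => rfl)

variable [Preadditive D]

lemma res_zero [H.Additive] {A B : D} (x : H.obj (op B)) : res H (0 : A ⟶ B) x = 0 := by
  simp [res]

lemma res_add [H.Additive] {A B : D} (g g' : A ⟶ B) (x : H.obj (op B)) :
    res H (g + g') x = res H g x + res H g' x := by
  simp [res]

lemma res_sub [H.Additive] {A B : D} (g g' : A ⟶ B) (x : H.obj (op B)) :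
    res H (g - g') x = res H g x - res H g' x := by
  simp [res]

variable [HasZeroObject D] [HasShift D ℤ] [∀ n : ℤ, (shiftFunctor D n).Additive] [Pretriangulated D]
  [H.IsHomological]

lemma res_exact (T : Triangle D) (hT : T ∈ distTriang D) (y : H.obj (op T.obj₂))
    (hy : res H T.mor₁ y = 0) : ∃ z : H.obj (op T.obj₃), res H T.mor₂ z = y :=
  (ShortComplex.ab_exact_iff _).1 (H.map_distinguished_op_exact T hT) y hy

end

end Groth.Agent.TriCat
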