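import Groth.Agent.TriCat.Hocolim
import Groth.Agent.TriCat.CohElem
import Mathlib.CategoryTheory.Limits.Preserves.Ulift

/-! Brown representability (countable-perfect generators, after Neeman and Krause). -/

universe w v u

open CategoryTheory Category Limits Opposite Pretriangulated DerLim
open Pretriangulated.Opposite

namespace Groth.Agent.TriCat

variable {D : Type u} [Category.{v} D] [Preadditive D] [HasZeroObject D] [HasShift D ℤ]
  [∀ n : ℤ, (shiftFunctor D n).Additive] [Pretriangulated D]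

/-- The factorization condition on countable sums. -/
def CountPerfect {ι : Type w} (E : ι → D) [HasColimitsOfShape (Discrete ℕ) D] : Prop :=
  ∀ (X : ℕ → D) (i : ι) (α : E i ⟶ ∐ X), ∃ (j : ℕ → ι) (β : ∀ n, E (j n) ⟶ X n)
    (γ : E i ⟶ ∐ fun n => E (j n)), α = γ ≫ Limits.Sigma.map β

section KerSum

variable [HasColimitsOfShape (Discrete ℕ) D] {ι : Type w} {E : ι → D}

lemma comp_sigmaMap_eq_zero_of_kills (h2 : CountPerfect E) {X Y Z : ℕ → D}
    (φ : ∀ n, X n ⟶ Y n) (θ : ∀ n, X n ⟶ Z n)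
    (h : ∀ n (i : ι) (g : E i ⟶ X n), g ≫ φ n = 0 → g ≫ θ n = 0)
    {i : ι} (w : E i ⟶ ∐ X) (hw : w ≫ Limits.Sigma.map φ = 0) : w ≫ Limits.Sigma.map θ = 0 := by
  choose W ψ c hT using fun n => distinguished_cocone_triangle₁ (φ n)
  let T : ℕ → Triangle D := fun n => Triangle.mk (ψ n) (φ n) (c n)
  let S : Triangle D := Triangle.mk (Limits.Sigma.map ψ) (Limits.Sigma.map φ)
    (Sigma.desc fun n => c n ≫ (Sigma.ι W n)⟦(1 : ℤ)⟧')
  let Φ : ∀ n, T n ⟶ S := fun n => Triangle.homMk _ _ (Sigma.ι W n) (Sigma.ι X n) (Sigma.ι Y n)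
    (Limits.Sigma.ι_map ψ n).symm (Limits.Sigma.ι_map φ n).symm (Sigma.ι_desc (fun n => c n ≫ (Sigma.ι W n)⟦(1 : ℤ)⟧') n).symm
  have hS : S ∈ distTriang D :=
    distinguished_of_isSum T hT S Φ (isSum_sigma W) (isSum_sigma X) (isSum_sigma Y)
  obtain ⟨v, hv⟩ := Triangle.coyoneda_exact₂ S hS w hw
  change E i ⟶ ∐ W at v
  obtain ⟨j, δ, γ, rfl⟩ := h2 W i v
  have hw' : w = γ ≫ Limits.Sigma.map δ ≫ Limits.Sigma.map ψ := by rw [← assoc]; exact hv
  rw [hw', assoc, assoc]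
  refine (congrArg (γ ≫ ·) ?_).trans comp_zero
  ext n
  have : (δ n ≫ ψ n) ≫ φ n = 0 := by
    rw [assoc, show ψ n ≫ φ n = 0 from comp_distTriang_mor_zero₁₂ _ (hT n), comp_zero]
  simp [reassoc_of% (h n (j n) (δ n ≫ ψ n) this)]

end KerSum

variable {ι : Type w} (E : ι → D) (H : Dᵒᵖ ⥤ AddCommGrpCat.{v}) [H.IsHomological]

section System

variable [HasColimitsOfShape (Discrete ℕ) D] [PreservesLimitsOfShape (Discrete ℕ) H]
  (F : ℕ ⥤ D) (x : ∀ n, H.obj (op (F.obj n)))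
  (hx : ∀ n, res H (F.map (homOfLE (Nat.le_succ n))) (x (n + 1)) = x n)
  (h0 : ∀ (i : ι) (a : H.obj (op (E i))), ∃ g : E i ⟶ F.obj 0, res H g (x 0) = a)
  (hk : ∀ n (i : ι) (g : E i ⟶ F.obj n), res H g (x n) = 0 →
    g ≫ F.map (homOfLE (Nat.le_succ n)) = 0)

include hx in
omit [H.IsHomological] [HasColimitsOfShape (Discrete ℕ) D] [PreservesLimitsOfShape (Discrete ℕ) H] in
lemma res_map_le {m n : ℕ} (h : m ≤ n) : res H (F.map (homOfLE h)) (x n) = x m := by
  induction n, h using Nat.le_induction with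
  | base => rw [show F.map (homOfLE (le_refl m)) = 𝟙 _ from F.map_id m, res_id]
  | succ k hk' ih => rw [← homOfLE_comp hk' (Nat.le_succ k), F.map_comp, res_comp, hx, ih]

include hx h0 hk in
omit [PreservesLimitsOfShape (Discrete ℕ) H] in
lemma system_injective (h2 : CountPerfect E) {i : ι} (y : E i ⟶ ∐ F.obj)
    (hy : y ≫ (𝟙 (∐ F.obj) - shiftMap F.obj (fun n => F.map (homOfLE (Nat.le_succ n)))) = 0) :
    y = 0 := by
  obtain ⟨j, β, γ, rfl⟩ := h2 _ i y
  let f := fun n => F.map (homOfLE (Nat.le_succ n))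
  let S := shiftMap F.obj f
  choose σ hσ using fun n => h0 (j n) (res H (β n) (x n))
  have hβ : ∀ n, β n ≫ f n = (σ n ≫ F.map (homOfLE (Nat.zero_le n))) ≫ f n := by
    intro n
    rw [← sub_eq_zero, ← Preadditive.sub_comp]
    refine hk n (j n) _ ?_
    rw [res_sub, res_comp, res_map_le H F x hx, hσ, sub_self]
  let t : ∀ n, F.obj 1 ⟶ F.obj (n + 2) := fun n => F.map (homOfLE (by omega))
  let up : (∐ fun n => F.obj (n + 2)) ⟶ ∐ F.obj := Sigma.desc fun n => Sigma.ι F.obj (n + 2)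
  let down : (∐ F.obj) ⟶ ∐ (fun n => F.obj (n + 2)) := Sigma.desc fun
    | 0 => 0
    | 1 => 0
    | (n + 2) => Sigma.ι (fun n => F.obj (n + 2)) n
  have hud : up ≫ down = 𝟙 _ := by ext n; simp [up, down]
  let z : E i ⟶ ∐ fun _ : ℕ => F.obj 1 :=
    γ ≫ Limits.Sigma.map (fun n => σ n ≫ F.map (homOfLE (Nat.zero_le 1)))
  have hz : γ ≫ Limits.Sigma.map β = z ≫ Limits.Sigma.map t ≫ up := by
    have e : γ ≫ Limits.Sigma.map β = (γ ≫ Limits.Sigma.map β) ≫ S ≫ S := by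
      have h1 : (γ ≫ Limits.Sigma.map β) ≫ S = γ ≫ Limits.Sigma.map β := by
        rw [Preadditive.comp_sub, comp_id, sub_eq_zero] at hy
        exact hy.symm
      rw [← assoc _ S S, h1, h1]
    rw [e]
    simp only [z, assoc]
    congr 1
    ext n
    simp only [Limits.Sigma.ι_map_assoc, up, S, assoc]
    rw [ι_shiftMap_assoc, ι_shiftMap]
    have e1 := reassoc_of% (hβ n)
    rw [e1]
    simp only [f, t, assoc, Sigma.ι_desc, ← F.map_comp_assoc, homOfLE_comp]
  have hcomm : Limits.Sigma.map t ≫ up ≫ (𝟙 _ - S) =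
      (𝟙 _ - shiftMap (fun _ : ℕ => F.obj 1) (fun _ => 𝟙 _)) ≫ Limits.Sigma.map t ≫ up := by
    ext n
    rw [← assoc (Sigma.ι _ n) (𝟙 _ - shiftMap _ _), ι_one_sub_shiftMap]
    simp [Preadditive.comp_sub, Preadditive.sub_comp, up, S, ι_shiftMap, f, t,
      ← F.map_comp_assoc, homOfLE_comp]
  let Q2 := fun _ : ℕ => F.obj 2
  let p : F.obj 1 ⟶ F.obj 2 := f 1
  have hz0 : (z ≫ (𝟙 _ - shiftMap (fun _ : ℕ => F.obj 1) (fun _ => 𝟙 _))) ≫
      Limits.Sigma.map t = 0 := by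
    have : z ≫ Limits.Sigma.map t ≫ up ≫ (𝟙 _ - S) = 0 := by
      rw [← assoc, ← assoc, assoc z, ← hz]
      exact hy
    rw [hcomm] at this
    have := congrArg (· ≫ down) this
    simpa only [assoc, hud, comp_id, zero_comp] using this
  have hz1 : (z ≫ (𝟙 _ - shiftMap (fun _ : ℕ => F.obj 1) (fun _ => 𝟙 _))) ≫
      Limits.Sigma.map (g := Q2) (fun _ => p) = 0 := by
    refine comp_sigmaMap_eq_zero_of_kills h2 t (fun _ => p) (fun n i' g hg => ?_) _ hz0
    refine hk 1 i' g ?_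
    have := congrArg (fun a => res H a (x (n + 2))) hg
    simpa only [t, res_comp, res_map_le H F x hx, res_zero] using this
  have hz2 : z ≫ Limits.Sigma.map (g := Q2) (fun _ => p) = 0 := by
    refine eq_zero_of_comp_one_sub_shiftMap_const ?_
    rw [assoc] at hz1
    rw [assoc, ← hz1]
    congr 1
    ext n
    rw [← assoc (Sigma.ι _ n) (𝟙 _ - shiftMap _ _), ι_one_sub_shiftMap]
    simp [Preadditive.comp_sub, Preadditive.sub_comp, ι_shiftMap, Q2]
  rw [hz]
  have ht : Limits.Sigma.map t = Limits.Sigma.map (g := Q2) (fun _ => p) ≫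
      Limits.Sigma.map (fun n => F.map (homOfLE (show 2 ≤ n + 2 by omega))) := by
    ext n
    simp [t, p, f, Q2, ← F.map_comp_assoc, homOfLE_comp]
  rw [ht]
  exact ((congrArg (z ≫ ·) (assoc _ _ _)).trans (assoc _ _ _).symm).trans
    ((congrArg (· ≫ _) hz2).trans zero_comp)

variable {F} {x} in
include hx h0 hk in
lemma hocolim_bijective (h2 : CountPerfect E)
    (hs : ∀ i, ∃ j, Nonempty (E j ≅ (E i)⟦(-1 : ℤ)⟧))
    {L : D} {inc : ∀ n, F.obj n ⟶ L}
    (hL : IsHocolim F.obj (fun n => F.map (homOfLE (Nat.le_succ n))) L inc)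
    (xL : H.obj (op L)) (hxL : ∀ n, res H (inc n) xL = x n) (i : ι) :
    Function.Bijective (fun g : E i ⟶ L => res H g xL) := by
  have hcoc : ∀ {m n : ℕ} (h : m ≤ n), F.map (homOfLE h) ≫ inc n = inc m :=
    fun h => cocone_of_succ F inc (fun k => IsHocolim.comp_i hL k) h
  refine ⟨?_, fun a => ?_⟩
  · suffices ∀ g : E i ⟶ L, res H g xL = 0 → g = 0 by
      intro g g' hg
      exact sub_eq_zero.1 (this _ (by rw [res_sub]; exact sub_eq_zero.2 hg))
    intro g hg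
    obtain ⟨j₀, ⟨e⟩⟩ := hs i
    let d : (E i)⟦(-1 : ℤ)⟧⟦(1 : ℤ)⟧ ≅ E i :=
      (shiftFunctorCompIsoId D (-1 : ℤ) 1 (by simp)).app (E i)
    have hinj : ∀ y : E i ⟶ (∐ F.obj)⟦(1 : ℤ)⟧,
        y ≫ (𝟙 _ - shiftMap F.obj (fun n => F.map (homOfLE (Nat.le_succ n))))⟦(1 : ℤ)⟧' = 0 →
          y = 0 := by
      intro y hy
      obtain ⟨y0, hy0⟩ := (shiftFunctor D (1 : ℤ)).map_surjective (d.hom ≫ y)
      have h' : y0 ≫ (𝟙 _ - shiftMap F.obj (fun n => F.map (homOfLE (Nat.le_succ n)))) = 0 := by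
        apply (shiftFunctor D (1 : ℤ)).map_injective
        rw [Functor.map_comp, hy0, assoc, hy, comp_zero, Functor.map_zero]
      have := system_injective E H F x hx h0 hk h2 (e.hom ≫ y0) (by rw [assoc, h', comp_zero])
      have : y0 = 0 := by rw [← cancel_epi e.hom, this, comp_zero]
      rw [← cancel_epi d.hom, ← hy0, this, Functor.map_zero, comp_zero]
    obtain ⟨ψ, rfl⟩ := IsHocolim.exists_lift_of_injective hL hinj g
    obtain ⟨j, β, γ, rfl⟩ := h2 _ i ψ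
    choose σ hσ using fun n => h0 (j n) (res H (β n) (x n))
    have hfac : Limits.Sigma.map β ≫ Sigma.desc inc = Sigma.desc σ ≫ inc 0 := by
      ext n
      simp only [Limits.Sigma.ι_map_assoc, Sigma.ι_desc, Sigma.ι_desc_assoc]
      rw [← hcoc (Nat.le_succ n), ← hcoc (Nat.zero_le (n + 1)), ← assoc, ← assoc]
      congr 1
      rw [← homOfLE_comp (Nat.zero_le n) (Nat.le_succ n), F.map_comp, ← assoc, ← sub_eq_zero,
        ← Preadditive.sub_comp]
      refine hk n (j n) _ ?_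
      rw [res_sub, res_comp, res_map_le H F x hx, hσ, sub_self]
    rw [assoc, hfac, ← assoc] at hg ⊢
    rw [res_comp, hxL] at hg
    have := hk 0 i _ hg
    rw [← hcoc (Nat.le_succ 0), ← assoc, this, zero_comp]
  · obtain ⟨g, hg⟩ := h0 i a
    refine ⟨g ≫ inc 0, ?_⟩
    show res H (g ≫ inc 0) xL = a
    rw [res_comp, hxL, hg]

include hx in
lemma exists_hocolim_class : ∃ (L : D) (inc : ∀ n, F.obj n ⟶ L) (xL : H.obj (op L)),
    IsHocolim F.obj (fun n => F.map (homOfLE (Nat.le_succ n))) L inc ∧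
      ∀ n, res H (inc n) xL = x n := by
  obtain ⟨L, inc, hL⟩ := exists_isHocolim F.obj (fun n => F.map (homOfLE (Nat.le_succ n)))
  have hL' := hL
  obtain ⟨c, hc⟩ := hL
  obtain ⟨X, hX⟩ := exists_sum_elem H F.obj x
  obtain ⟨xL, hxL⟩ : ∃ z : H.obj (op L), res H (Sigma.desc inc) z = X := by
    refine res_exact H _ hc X ?_
    show res H (𝟙 (∐ F.obj) - shiftMap F.obj (fun n => F.map (homOfLE (Nat.le_succ n)))) X = 0
    refine sum_elem_ext H fun n => ?_
    rw [← res_comp, ι_one_sub_shiftMap, res_sub, res_comp, hX, hX, hx, sub_self, res_zero_arg]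
  refine ⟨L, inc, xL, hL', fun n => ?_⟩
  rw [← hX n, ← hxL, ← res_comp, Sigma.ι_desc]

end System

end Groth.Agent.TriCat
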