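import Groth.Agent.TriCat.Brown
import Mathlib.CategoryTheory.Adjunction.PartialAdjoint

/-! Brown representability: the construction and the main theorem. -/

universe w v u

open CategoryTheory Category Limits Opposite Pretriangulated DerLim ZeroObject
open Pretriangulated.Opposite

namespace Groth.Agent.TriCat

variable {D : Type u} [Category.{v} D] [Preadditive D] [HasZeroObject D] [HasShift D ℤ]
  [∀ n : ℤ, (shiftFunctor D n).Additive] [Pretriangulated D] [HasCoproducts.{v} D]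

lemma preservesDiscreteNat_of_preserves {C : Type*} [Category C] (F : D ⥤ C)
    [∀ κ : Type v, PreservesColimitsOfShape (Discrete κ) F] :
    PreservesColimitsOfShape (Discrete ℕ) F :=
  preservesColimitsOfShape_of_equiv
    (Discrete.equivalence (Equiv.ulift.{v} : ULift.{v} ℕ ≃ ℕ)) F

lemma preservesDiscreteNat_op_of_preserves {C : Type*} [Category C] (H : Dᵒᵖ ⥤ C)
    [∀ κ : Type v, PreservesLimitsOfShape (Discrete κ) H] :
    PreservesLimitsOfShape (Discrete ℕ) H :=
  preservesLimitsOfShape_of_equiv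
    (Discrete.equivalence (Equiv.ulift.{v} : ULift.{v} ℕ ≃ ℕ)) H

omit [Preadditive D] [HasZeroObject D] [HasShift D ℤ] [HasCoproducts.{v} D]
  [∀ n : ℤ, (shiftFunctor D n).Additive] [Pretriangulated D] in
lemma res_add_arg (H : Dᵒᵖ ⥤ AddCommGrpCat.{v}) {A B : D} (g : A ⟶ B) (x y : H.obj (op B)) :
    res H g (x + y) = res H g x + res H g y := by
  simp [res]

variable {ι : Type v} (E : ι → D) (H : Dᵒᵖ ⥤ AddCommGrpCat.{v}) [H.IsHomological]
  [∀ κ : Type v, PreservesLimitsOfShape (Discrete κ) H]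

/-- One step of the construction: kill all relations coming from the generators. -/
lemma exists_step (X : D) (x : H.obj (op X)) :
    ∃ (X' : D) (x' : H.obj (op X')) (f : X ⟶ X'), res H f x' = x ∧
      (∀ (i : ι) (g : E i ⟶ X), res H g x = 0 → g ≫ f = 0) ∧
      ∃ (κ : Type v) (a : κ → ι) (y : (∐ fun k => E (a k)) ⟶ X)
        (z : X' ⟶ (∐ fun k => E (a k))⟦(1 : ℤ)⟧), Triangle.mk y f z ∈ distTriang D := by
  let κ := Σ i : ι, { g : E i ⟶ X // res H g x = 0 }
  let y : (∐ fun k : κ => E k.1) ⟶ X := Sigma.desc fun k => k.2.1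
  obtain ⟨X', f, z, hT⟩ := Pretriangulated.distinguished_cocone_triangle y
  obtain ⟨x', hx'⟩ : ∃ x' : H.obj (op X'), res H f x' = x := by
    refine res_exact H _ hT x ?_
    show res H y x = 0
    refine sum_elem_ext H fun k => ?_
    rw [← res_comp, Sigma.ι_desc, k.2.2, res_zero_arg]
  refine ⟨X', x', f, hx', fun i g hg => ?_, κ, fun k => k.1, y, z, hT⟩
  have h0 : y ≫ f = 0 := comp_distTriang_mor_zero₁₂ _ hT
  have h1 : Sigma.ι (fun k : κ => E k.1) ⟨i, g, hg⟩ ≫ y = g := Sigma.ι_desc _ _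
  rw [← h1, assoc, h0, comp_zero]

/-- The inductive system attached to a class. -/
lemma exists_system (X₀ : D) (x₀ : H.obj (op X₀)) :
    ∃ (F : ℕ ⥤ D) (x : ∀ n, H.obj (op (F.obj n))) (e : X₀ ≅ F.obj 0), res H e.hom (x 0) = x₀ ∧
      (∀ n, res H (F.map (homOfLE (Nat.le_succ n))) (x (n + 1)) = x n) ∧
      (∀ n (i : ι) (g : E i ⟶ F.obj n), res H g (x n) = 0 →
        g ≫ F.map (homOfLE (Nat.le_succ n)) = 0) ∧
      ∀ n, ∃ (κ : Type v) (a : κ → ι) (y : (∐ fun k => E (a k)) ⟶ F.obj n)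
        (z : F.obj (n + 1) ⟶ (∐ fun k => E (a k))⟦(1 : ℤ)⟧),
        Triangle.mk y (F.map (homOfLE (Nat.le_succ n))) z ∈ distTriang D := by
  choose nX nx nf hnx hnk hnt using exists_step E H
  let S : ℕ → Σ X : D, H.obj (op X) := fun n =>
    Nat.rec ⟨X₀, x₀⟩ (fun _ p => ⟨nX p.1 p.2, nx p.1 p.2⟩) n
  let f : ∀ n, (S n).1 ⟶ (S (n + 1)).1 := fun n => nf (S n).1 (S n).2
  refine ⟨Functor.ofSequence f, fun n => (S n).2, Iso.refl _, res_id H _,
    fun n => ?_, fun n i g hg => ?_, fun n => ?_⟩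
  · rw [show (Functor.ofSequence f).map (homOfLE (Nat.le_succ n)) = f n from
      Functor.ofSequence_map_homOfLE_succ f n]
    exact hnx _ _
  · rw [show (Functor.ofSequence f).map (homOfLE (Nat.le_succ n)) = f n from
      Functor.ofSequence_map_homOfLE_succ f n]
    exact hnk _ _ i g hg
  · rw [show (Functor.ofSequence f).map (homOfLE (Nat.le_succ n)) = f n from
      Functor.ofSequence_map_homOfLE_succ f n]
    exact hnt _ _

omit [HasCoproducts.{v} D] in
/-- The generators detect zero objects, hence isomorphisms. -/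
lemma isIso_of_bijective_on_generators
    (h1 : ∀ X : D, (∀ (i : ι) (f : E i ⟶ X), f = 0) → IsZero X)
    (hs : ∀ i, ∃ j, Nonempty (E j ≅ (E i)⟦(-1 : ℤ)⟧))
    {X Y : D} (a : X ⟶ Y) (ha : ∀ i, Function.Bijective (fun g : E i ⟶ X => g ≫ a)) : IsIso a := by
  obtain ⟨Z, b, c, hT⟩ := Pretriangulated.distinguished_cocone_triangle a
  refine (Triangle.isZero₃_iff_isIso₁ _ hT).1 (h1 Z fun i g => ?_)
  have hg : g ≫ c = 0 := by
    obtain ⟨j, ⟨e⟩⟩ := hs i
    let d : (E i)⟦(-1 : ℤ)⟧⟦(1 : ℤ)⟧ ≅ E i :=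
      (shiftFunctorCompIsoId D (-1 : ℤ) 1 (by simp)).app (E i)
    obtain ⟨y0, hy0⟩ := (shiftFunctor D (1 : ℤ)).map_surjective (d.hom ≫ g ≫ c)
    have h' : y0 ≫ a = 0 := by
      apply (shiftFunctor D (1 : ℤ)).map_injective
      rw [Functor.map_comp, hy0, assoc, assoc,
        show c ≫ a⟦(1 : ℤ)⟧' = 0 from comp_distTriang_mor_zero₃₁ _ hT, comp_zero, comp_zero,
        Functor.map_zero]
    have : e.hom ≫ y0 = 0 := (ha j).1 (show (e.hom ≫ y0) ≫ a = 0 ≫ a by
      rw [assoc, h', comp_zero, zero_comp])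
    have : y0 = 0 := by rw [← cancel_epi e.hom, this, comp_zero]
    rw [← cancel_epi d.hom, ← hy0, this, Functor.map_zero, comp_zero]
  obtain ⟨g', hg'⟩ := Triangle.coyoneda_exact₃ _ hT g hg
  change E i ⟶ Y at g'
  obtain ⟨k, hk⟩ := (ha i).2 g'
  change k ≫ a = g' at hk
  change g = g' ≫ b at hg'
  rw [hg', ← hk, assoc, show a ≫ b = 0 from comp_distTriang_mor_zero₁₂ _ hT, comp_zero]

variable (h2 : ∀ [HasColimitsOfShape (Discrete ℕ) D], CountPerfect E)
  (hs : ∀ i, ∃ j, Nonempty (E j ≅ (E i)⟦(-1 : ℤ)⟧))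

include h2 hs in
/-- Every class extends to one which is universal on the generators. -/
lemma exists_extension (Z : D) (z : H.obj (op Z)) :
    ∃ (L : D) (xL : H.obj (op L)) (a : Z ⟶ L), res H a xL = z ∧
      ∀ i, Function.Bijective (fun g : E i ⟶ L => res H g xL) := by
  have := hasCountableCoproducts_of_hasCoproducts D
  have := preservesDiscreteNat_op_of_preserves H
  let Y : Option (Σ i : ι, H.obj (op (E i))) → D
    | none => Z
    | some p => E p.1
  obtain ⟨x₀, hx₀⟩ := exists_sum_elem H Y (fun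
    | none => z
    | some p => p.2)
  obtain ⟨F, x, e, he, hx, hk, -⟩ := exists_system E H (∐ Y) x₀
  obtain ⟨L, inc, xL, hL, hxL⟩ := exists_hocolim_class H F x hx
  refine ⟨L, xL, Sigma.ι Y none ≫ e.hom ≫ inc 0, ?_, hocolim_bijective E H hx ?_ hk h2 hs hL xL hxL⟩
  · rw [res_comp, res_comp, hxL, he]
    exact hx₀ none
  · intro i a
    refine ⟨Sigma.ι Y (some ⟨i, a⟩) ≫ e.hom, ?_⟩
    rw [res_comp, he]
    exact hx₀ (some ⟨i, a⟩)

include h2 hs in
/-- Brown representability. -/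
theorem isRepresentable_of_countPerfect
    (h1 : ∀ X : D, (∀ (i : ι) (f : E i ⟶ X), f = 0) → IsZero X) :
    (H ⋙ forget AddCommGrpCat.{v}).IsRepresentable := by
  obtain ⟨X, x, _, _, hX⟩ := exists_extension E H h2 hs (0 : D) 0
  have iso : ∀ {L : D} (xL : H.obj (op L)) (a : X ⟶ L), res H a xL = x →
      (∀ i, Function.Bijective (fun g : E i ⟶ L => res H g xL)) → IsIso a := by
    intro L xL a ha hL
    refine isIso_of_bijective_on_generators E h1 hs a fun i => ?_
    refine (Function.Bijective.of_comp_iff' (hL i) _).1 ?_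
    convert hX i using 1
    funext g
    simp [res_comp, ha]
  have surj : ∀ (Z : D) (h : H.obj (op Z)), ∃ g : Z ⟶ X, res H g x = h := by
    intro Z h
    obtain ⟨L, xL, a, ha, hL⟩ := exists_extension E H h2 hs (X ⊞ Z)
      (res H biprod.fst x + res H biprod.snd h)
    have h₁ : res H (biprod.inl ≫ a) xL = x := by
      rw [res_comp, ha, res_add_arg, ← res_comp, ← res_comp, biprod.inl_fst, biprod.inl_snd,
        res_id, res_zero, add_zero]
    have h₂ : res H (biprod.inr ≫ a) xL = h := by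
      rw [res_comp, ha, res_add_arg, ← res_comp, ← res_comp, biprod.inr_fst, biprod.inr_snd,
        res_id, res_zero, zero_add]
    have := iso xL _ h₁ hL
    refine ⟨biprod.inr ≫ a ≫ inv (biprod.inl ≫ a), ?_⟩
    calc res H (biprod.inr ≫ a ≫ inv (biprod.inl ≫ a)) x
        = res H (biprod.inr ≫ a ≫ inv (biprod.inl ≫ a) ≫ biprod.inl ≫ a) xL := by
          rw [← h₁, ← res_comp]; simp only [assoc]
      _ = h := by rw [IsIso.inv_hom_id, comp_id, h₂]
  have inj : ∀ (Z : D) (g : Z ⟶ X), res H g x = 0 → g = 0 := by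
    intro Z g hg
    obtain ⟨W, q, c, hT⟩ := Pretriangulated.distinguished_cocone_triangle g
    obtain ⟨w, hw⟩ := res_exact H _ hT x hg
    obtain ⟨b, hb⟩ := surj W w
    change res H q w = x at hw
    have : IsIso (q ≫ b) := iso x _ (by rw [res_comp, hb, hw]) hX
    rw [← comp_id g, ← IsIso.hom_inv_id (q ≫ b)]
    simp only [assoc]
    rw [← assoc g q, show g ≫ q = 0 from comp_distTriang_mor_zero₁₂ _ hT, zero_comp]
  refine ⟨X, ⟨?_⟩⟩
  refine
    { homEquiv := fun {Z} => Equiv.ofBijective (fun g => res H g x) ⟨fun g g' hgg' => ?_, surj Z⟩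
      homEquiv_comp := fun f g => res_comp H f g x }
  exact sub_eq_zero.1 (inj Z _ (by rw [res_sub]; exact sub_eq_zero.2 hgg'))

end Groth.Agent.TriCat
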