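import Groth.Agent.TriCat.KInjCriterion
import Groth.Agent.TriCat.ColimQuasiIso
import Mathlib.CategoryTheory.Functor.OfSequence
import Mathlib.CategoryTheory.Abelian.GrothendieckCategory.Subobject

/-!
In a Grothendieck abelian category there is a small family of acyclic complexes such that every
nonzero acyclic complex contains a nonzero member of it.
-/

universe w v u

open CategoryTheory Category Limits ZeroObject

namespace Groth.Agent.TriCat

variable {A : Type u} [Category.{v} A] [Abelian A] [IsGrothendieckAbelian.{w} A]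

namespace SmallAcyclic

instance hasColimitsOfShapeNat : HasColimitsOfShape ℕ A :=
  have : HasColimitsOfSize.{0, 0} A := hasColimitsOfSizeShrink.{0, 0, w, w} A
  inferInstance

instance hasExactColimitsOfShapeNat : HasExactColimitsOfShape ℕ A :=
  have : HasFilteredColimitsOfSize.{0, 0} A := hasFilteredColimitsOfSize_of_univLE.{0, 0, w, w}
  have : AB5OfSize.{0, 0} A := AB5OfSize_of_univLE.{0, 0, w, w} A
  inferInstance

variable (G : A)

/-- The source `∐ disks` attached to a family of degrees. -/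
noncomputable abbrev src (s : Σ J : Type w, J → ℤ) : CochainComplex A ℤ :=
  ∐ fun j : s.1 => disk (s.2 j) G

/-- Enlarging the family of degrees. -/
noncomputable def next (s : Σ J : Type w, J → ℤ) : Σ J : Type w, J → ℤ :=
  ⟨s.1 ⊕ Shrink.{w} (Σ m : ℤ, Subobject ((src G s).X m)),
    Sum.elim s.2 fun t => ((equivShrink _).symm t).1 - 1⟩

noncomputable def stage : ℕ → (Σ J : Type w, J → ℤ)
  | 0 => ⟨ULift.{w} ℤ, fun j => j.down⟩
  | k + 1 => next G (stage k)

variable (C : CochainComplex A ℤ)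

variable {G C} in
/-- The map out of `src` given by components. -/
noncomputable abbrev srcDesc (s : Σ J : Type w, J → ℤ) (g : ∀ j, G ⟶ C.X (s.2 j)) :
    src G s ⟶ C :=
  Sigma.desc fun j => diskDesc (g j)

/-- Chosen preimage with a prescribed image. -/
noncomputable def pick {Y : CochainComplex A ℤ} (a : Y ⟶ C) (m : ℤ) (T : Subobject (Y.X m)) :
    G ⟶ pullback (a.f m) (C.d (m - 1) m) :=
  open scoped Classical in
  if h : ∃ g : G ⟶ pullback (a.f m) (C.d (m - 1) m), imageSubobject (g ≫ pullback.fst _ _) = T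
  then h.choose else 0

lemma imageSubobject_pick {Y : CochainComplex A ℤ} (a : Y ⟶ C) (m : ℤ)
    (g : G ⟶ pullback (a.f m) (C.d (m - 1) m)) :
    imageSubobject (pick G C a m (imageSubobject (g ≫ pullback.fst _ _)) ≫ pullback.fst _ _) =
      imageSubobject (g ≫ pullback.fst _ _) := by
  have h : ∃ g' : G ⟶ pullback (a.f m) (C.d (m - 1) m),
      imageSubobject (g' ≫ pullback.fst _ _) = imageSubobject (g ≫ pullback.fst _ _) := ⟨g, rfl⟩
  rw [pick, dif_pos h]
  exact h.choose_spec

lemma comp_eq_zero_of_imageSubobject_eq {X X' Y Z : A} {f : X ⟶ Y} {f' : X' ⟶ Y} (π : Y ⟶ Z)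
    (h : imageSubobject f = imageSubobject f') (hf : f ≫ π = 0) : f' ≫ π = 0 := by
  have h0 : (imageSubobject f).arrow ≫ π = 0 := by
    rw [← cancel_epi (factorThruImageSubobject f), imageSubobject_arrow_comp_assoc, hf, comp_zero]
  rw [h] at h0
  rw [← imageSubobject_arrow_comp f', assoc, h0, comp_zero]

/-- The enlarged components. -/
noncomputable def nextComp (s : Σ J : Type w, J → ℤ) (g : ∀ j, G ⟶ C.X (s.2 j)) :
    ∀ j, G ⟶ C.X ((next G s).2 j)
  | .inl j => g j
  | .inr t => pick G C (srcDesc s g) ((equivShrink _).symm t).1 ((equivShrink _).symm t).2 ≫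
      pullback.snd _ _

noncomputable def comp (g₀ : ∀ j : ULift.{w} ℤ, G ⟶ C.X j.down) :
    ∀ k, ∀ j, G ⟶ C.X ((stage.{w} G k).2 j)
  | 0 => g₀
  | k + 1 => nextComp G C (stage G k) (comp g₀ k)

/-- The enlargement kills homology. -/
lemma homologyMap_eq_zero (hG : IsSeparator G) (hC : C.Acyclic) {Y S S' : CochainComplex A ℤ}
    (p : Y ⟶ S) [Epi p] (i : S ⟶ C) (i' : S' ⟶ C) [Mono i'] (a : Y ⟶ C) (ha : p ≫ i = a) (φ : S ⟶ S') (hφ : φ ≫ i' = i)
    (m : ℤ)
    (hl : ∀ T : Subobject (Y.X m), ∃ l : G ⟶ S'.X (m - 1),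
      l ≫ i'.f (m - 1) = pick G C a m T ≫ pullback.snd _ _) :
    HomologicalComplex.homologyMap φ m = 0 := by
  rw [← cancel_epi (S.homologyπ m), HomologicalComplex.homologyπ_naturality, comp_zero,
    HomologicalComplex.comp_homologyπ_eq_zero_iff_up_to_refinements _ (m - 1) m (by simp)]
  obtain ⟨T₁, π₁, hπ₁, y, hy⟩ := surjective_up_to_refinements_of_epi (p.f m) (S.iCycles m)
  have hcyc : (y ≫ a.f m) ≫ C.d m (m + 1) = 0 := by
    rw [← ha, HomologicalComplex.comp_f, ← reassoc_of% hy]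
    simp only [assoc, HomologicalComplex.Hom.comm, HomologicalComplex.iCycles_d_assoc, zero_comp,
      comp_zero]
  obtain ⟨T₂, π₂, hπ₂, x, hx⟩ :=
    (C.exactAt_iff_exact_up_to_refinements (m - 1) m (m + 1) (by simp) (by simp)).1 (hC m) _ hcyc
  let q : T₂ ⟶ pullback (a.f m) (C.d (m - 1) m) :=
    pullback.lift (π₂ ≫ y) x (by rw [assoc, hx])
  let K := Shrink.{w} (Subobject (Y.X m))
  let gT : K → (G ⟶ pullback (a.f m) (C.d (m - 1) m)) := fun T =>
    pick G C a m ((equivShrink _).symm T)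
  let ψ : (∐ fun _ : K => G) ⟶ Y.X m := Sigma.desc fun T => gT T ≫ pullback.fst _ _
  have hq1 : pullback.fst (a.f m) (C.d (m - 1) m) ≫ cokernel.π ψ = 0 := by
    refine hG.def _ _ fun g => ?_
    rw [comp_zero, ← assoc]
    refine comp_eq_zero_of_imageSubobject_eq (cokernel.π ψ) (imageSubobject_pick G C a m g) ?_
    have hψ : ψ ≫ cokernel.π ψ = 0 := cokernel.condition ψ
    have h' : Sigma.ι (fun _ : K => G)
        (equivShrink _ (imageSubobject (g ≫ pullback.fst (a.f m) (C.d (m - 1) m)))) ≫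
          ψ ≫ cokernel.π ψ = 0 := by rw [hψ, comp_zero]
    rw [Sigma.ι_desc_assoc] at h'
    simp only [gT, Equiv.symm_apply_apply] at h'
    exact h'
  obtain ⟨T₃, π₃, hπ₃, t, ht⟩ :=
    (ShortComplex.exact_iff_exact_up_to_refinements _).1 (ShortComplex.exact_cokernel ψ)
      (q ≫ pullback.fst _ _) (by dsimp; rw [assoc, hq1, comp_zero])
  dsimp at t ht
  choose l hl using fun T : K => hl ((equivShrink _).symm T)
  refine ⟨T₃, π₃ ≫ π₂ ≫ π₁, inferInstance, t ≫ Sigma.desc l, ?_⟩
  rw [← cancel_mono (S'.iCycles m), ← cancel_mono (i'.f m)]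
  simp only [assoc, HomologicalComplex.cyclesMap_i_assoc, HomologicalComplex.toCycles_i_assoc,
    ← i'.comm]
  rw [← HomologicalComplex.comp_f, hφ, reassoc_of% hy, ← HomologicalComplex.comp_f, ha]
  have hd : Sigma.desc l ≫ i'.f (m - 1) ≫ C.d (m - 1) m = ψ ≫ a.f m := by
    refine Sigma.hom_ext _ _ fun T => ?_
    rw [Sigma.ι_desc_assoc, Sigma.ι_desc_assoc, reassoc_of% (hl T), assoc, pullback.condition]
  rw [hd, ← reassoc_of% ht, pullback.lift_fst_assoc, assoc]

end SmallAcyclic

open SmallAcyclic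

attribute [local instance] IsFiltered.isConnected

/-- Every nonzero acyclic complex contains a nonzero acyclic subcomplex from a small family. -/
theorem exists_small_acyclic :
    ∃ (σ : Type w) (S : σ → CochainComplex A ℤ), (∀ s, (S s).Acyclic) ∧
      ∀ C : CochainComplex A ℤ, C.Acyclic → ¬ IsZero C →
        ∃ (s : σ) (i : S s ⟶ C), Mono i ∧ i ≠ 0 := by
  let G := separator A
  have hG := isSeparator_separator A
  let st := stage.{w} G
  let J := Σ k : ℕ, (st k).1
  let X : CochainComplex A ℤ := ∐ fun j : J => disk ((st j.1).2 j.2) G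
  let τ := {N : Subobject X // (cokernel N.arrow).Acyclic}
  refine ⟨Shrink.{w} τ, fun s => cokernel ((equivShrink τ).symm s).1.arrow,
    fun s => ((equivShrink τ).symm s).2, fun C hC hC0 => ?_⟩
  have hm : ∃ m, ¬ IsZero (C.X m) := by
    by_contra! h
    refine hC0 ((IsZero.iff_id_eq_zero _).2 ?_)
    ext m
    exact (h m).eq_of_src _ _
  obtain ⟨m₀, hm₀⟩ := hm
  have hg : ∃ g : G ⟶ C.X m₀, g ≠ 0 := by
    by_contra! h
    exact hm₀ ((IsZero.iff_id_eq_zero _).2 (hG.def _ _ fun g => by simp [h g]))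
  obtain ⟨g₁, hg₁⟩ := hg
  classical
  let g₀ : ∀ j : ULift.{w} ℤ, G ⟶ C.X j.down := fun j =>
    if h : j.down = m₀ then g₁ ≫ eqToHom (by rw [h]) else 0
  let cp := comp G C g₀
  let a : ∀ k, src G (st k) ⟶ C := fun k => srcDesc (st k) (cp k)
  let incl : ∀ k, src G (st k) ⟶ src G (st (k + 1)) := fun k =>
    Sigma.desc fun j => Sigma.ι (fun j' : (st (k + 1)).1 => disk ((st (k + 1)).2 j') G) (Sum.inl j)
  have hincl : ∀ k, incl k ≫ a (k + 1) = a k := fun k => by
    refine Sigma.hom_ext _ _ fun j => ?_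
    erw [Sigma.ι_desc_assoc, Sigma.ι_desc, Sigma.ι_desc]
    rfl
  let F : ∀ k, image (a k) ⟶ image (a (k + 1)) := fun k =>
    image.lift { I := image (a (k + 1)), m := image.ι (a (k + 1)),
                 e := incl k ≫ factorThruImage (a (k + 1)),
                 fac := by rw [assoc, image.fac, hincl] }
  have hF : ∀ k, F k ≫ image.ι (a (k + 1)) = image.ι (a k) := fun k => image.lift_fac _
  let D : ℕ ⥤ CochainComplex A ℤ := Functor.ofSequence F
  let ιC : D ⟶ (Functor.const ℕ).obj C :=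
    NatTrans.ofSequence (fun k => image.ι (a k)) (fun k =>
      (congrArg (· ≫ image.ι (a (k + 1))) (Functor.ofSequence_map_homOfLE_succ F k)).trans
        ((hF k).trans (comp_id _).symm))
  let L := colimit D
  let incC : L ⟶ C := colimit.desc D (Cocone.mk C ιC)
  have : ∀ k, Mono (ιC.app k) := fun k => inferInstanceAs (Mono (image.ι (a k)))
  have : Mono ιC := NatTrans.mono_of_mono_app _
  have hmono : Mono incC := colim.map_mono' ιC (colimit.isColimit D)
    (isColimitConstCocone ℕ C) incC (fun k => (colimit.ι_desc _ k).trans (comp_id _).symm)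
  have hL : L.Acyclic := fun i => exactAt_of_isColimit (colimit.isColimit D) i fun k => by
    refine ⟨k + 1, homOfLE (by lia), ?_⟩
    rw [Functor.ofSequence_map_homOfLE_succ]
    refine homologyMap_eq_zero G C hG hC (factorThruImage (a k)) (image.ι (a k))
      (image.ι (a (k + 1))) (a k) (image.fac _) (F k) (hF k) i fun T => ?_
    let t : Shrink.{w} (Σ m : ℤ, Subobject ((src G (st k)).X m)) := equivShrink _ ⟨i, T⟩
    let j : (st (k + 1)).1 := Sum.inr t
    let c : G ⟶ C.X ((st (k + 1)).2 j) := cp (k + 1) j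
    have key : ∀ (z : Σ m : ℤ, Subobject ((src G (st k)).X m)) (n : ℤ) (_ : n = z.1 - 1)
        (c : G ⟶ C.X n) (hn : n = z.1 - 1)
        (_ : c ≫ eqToHom (by rw [hn]) = pick G C (a k) z.1 z.2 ≫ pullback.snd _ _)
        (l : G ⟶ (image (a (k + 1))).X n) (_ : l ≫ (image.ι (a (k + 1))).f n = c),
        z = ⟨i, T⟩ → ∃ l : G ⟶ (image (a (k + 1))).X (i - 1),
          l ≫ (image.ι (a (k + 1))).f (i - 1) = pick G C (a k) i T ≫ pullback.snd _ _ := by
      rintro z n rfl c _ hc l hl rfl
      exact ⟨l, hl.trans (by simpa using hc)⟩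
    refine key ((equivShrink _).symm t) ((st (k + 1)).2 j) rfl c rfl
      ((congrArg (c ≫ ·) (eqToHom_refl _ _)).trans (comp_id _))
      (diskι _ G ≫ (Sigma.ι (fun j' : (st (k + 1)).1 => disk ((st (k + 1)).2 j') G) j ≫
        factorThruImage (a (k + 1))).f _) ?_ ((equivShrink _).symm_apply_apply _)
    rw [assoc, ← HomologicalComplex.comp_f, assoc, image.fac, Sigma.ι_desc, diskι_diskDesc]
  let π : X ⟶ L := Sigma.desc fun j : J =>
    Sigma.ι (fun j' : (st j.1).1 => disk ((st j.1).2 j') G) j.2 ≫ factorThruImage (a j.1) ≫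
      colimit.ι D j.1
  have hπ : Epi π := ⟨fun {Z} u u' h => colimit.hom_ext fun k => by
    refine (cancel_epi (factorThruImage (a k))).1 (Sigma.hom_ext _ _ fun j => ?_)
    have := Sigma.ι (fun j : J => disk ((st j.1).2 j.2) G) ⟨k, j⟩ ≫= h
    rw [Sigma.ι_desc_assoc, Sigma.ι_desc_assoc, assoc, assoc, assoc, assoc] at this
    exact this⟩
  let e : cokernel (Subobject.mk (kernel.ι π)).arrow ≅ L :=
    cokernel.mapIso _ (kernel.ι π) (Subobject.underlyingIso _) (Iso.refl _) (by simp) ≪≫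
      (cokernelIsCokernel _).coconePointUniqueUpToIso
        (Abelian.epiIsCokernelOfKernel _ (kernelIsKernel π))
  have hN : (cokernel (Subobject.mk (kernel.ι π)).arrow).Acyclic :=
    fun i => (hL i).of_iso e.symm
  have hs : (equivShrink τ).symm (equivShrink τ ⟨_, hN⟩) = ⟨_, hN⟩ := Equiv.symm_apply_apply _ _
  let E : cokernel ((equivShrink τ).symm (equivShrink τ ⟨_, hN⟩)).1.arrow ≅ L :=
    eqToIso (congrArg (fun z : τ => cokernel z.1.arrow) hs) ≪≫ e
  refine ⟨equivShrink τ ⟨_, hN⟩, E.hom ≫ incC, inferInstance, fun h0 => ?_⟩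
  have h1 : incC = 0 := (cancel_epi E.hom).1 (h0.trans comp_zero.symm)
  have h2 : image.ι (a 0) = 0 := by
    have := colimit.ι_desc (Cocone.mk C ιC) 0
    change colimit.ι D 0 ≫ incC = image.ι (a 0) at this
    exact this.symm.trans ((congrArg (colimit.ι D 0 ≫ ·) h1).trans comp_zero)
  have h3 : diskDesc (cp 0 ⟨m₀⟩) = (0 : disk m₀ G ⟶ C) := by
    have h4 : a 0 = 0 := by rw [← image.fac (a 0), h2, comp_zero]
    have := Sigma.ι (fun j' : (st 0).1 => disk ((st 0).2 j') G) ⟨m₀⟩ ≫= h4
    rwa [Sigma.ι_desc, comp_zero] at this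
  refine hg₁ ?_
  have h5 := congrArg (fun ψ => diskι m₀ G ≫ HomologicalComplex.Hom.f ψ m₀) h3
  simp only [diskι_diskDesc, HomologicalComplex.zero_f, comp_zero] at h5
  simp [cp, comp, g₀] at h5
  exact (diskι_diskDesc g₁).symm.trans h5

end Groth.Agent.TriCat
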